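import Mathlib
import Cfsg.Agent.BpExc.AsmN_m3
import Cfsg.Agent.H657.BrauerChar
import Cfsg.Agent.Prune
set_option linter.all false

section
prune_inst 0x7f00000000000000000000000000000000000000000000000000000000000000000000000000000000000000000000000000000000000000000000000000000000000000000000000000000000000000003fffffffffffffffffffffffffffbeffbdfbfeffff

-- part: H942/E8Alc
section
prune_inst 0x4010000
set_option linter.all false
open scoped Cfsg.Agent.FastGrp

/-!
# Elements of `E₈(3)` of order prime to 3: eigenvalues on the adjoint module in terms of alcove vectors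
-/

set_option autoImplicit false
set_option linter.unusedSectionVars false
set_option maxRecDepth 100000

namespace Cfsg.Agent.H942.E8Alc

open Cfsg.Agent.ChevalleyStructure.CoxeterGeom Cfsg.Agent.Tits.Roots
  Cfsg.Agent.Nodes.RGDChev
open Cfsg.Lie Cfsg.Agent.ChevalleyStructure Cfsg.Agent.ChevalleyStructure.Elts
  Cfsg.Agent.ChevalleyStructure.RootVec Cfsg.Agent.ChevalleyStructure.RootVecTab
  Cfsg.Agent.ChevalleyStructure.NPerm Cfsg.Agent.ChevalleyStructure.CoxeterGeomTypes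
open Cfsg.Agent.H944.RootVals Cfsg.Agent.H944.Kac Cfsg.Agent.H944.Tab
open Cfsg.Agent.H942.E8Tab Cfsg.Agent.H942.ValsChar
open Cfsg.Agent.H657 IsLocalRing Module
open Polynomial (X C)

/-- the vector of a list -/
def vecL (N : ℕ) (Y : List ℕ) : Fin 8 → ZMod N := fun i => ((Y.getD i 0 : ℕ) : ZMod N)

/-- every vector can be moved into the alcove, with the same multiset of root values -/
theorem exists_alc {N : ℕ} (hN : 0 < N) (v : Fin 8 → ZMod N) :
    ∃ Y : List ℕ, Y.length = 8 ∧ dotN th8 Y ≤ N ∧ ms chevE8 8 (vecL N Y) = ms chevE8 8 v := by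
  let P : (Fin 8 → ZMod N) → Prop := fun w => ms chevE8 8 w = ms chevE8 8 v
  have hPs : ∀ w j, P w → P (srefl chevE8 8 j w) := by
    intro w j hw
    show ms chevE8 8 (srefl chevE8 8 j w) = ms chevE8 8 v
    rw [ms_srefl e8T]
    exact hw
  obtain ⟨y, hy, hθ⟩ := exists_alcove e8T (N := N) hN _ _ 60 (by norm_num) theta8
    (by decide) _ pos8 P hPs (v₀ := v) rfl
  let Y : List ℕ := List.ofFn y
  have hY : ∀ i : Fin 8, Y.getD i 0 = y i := by
    intro i
    rw [List.getD_eq_getElem _ _ (by rw [List.length_ofFn]; exact i.2), List.getElem_ofFn]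
  refine ⟨Y, by simp [Y], ?_, ?_⟩
  · rw [dotN_eq 8 th8 Y (by decide)]
    have h2 : ∑ i : Fin 8, th8.getD i 0 * Y.getD i 0 = ∑ i : Fin 8, th8.getD i 0 * y i :=
      Finset.sum_congr rfl fun i _ => by rw [hY]
    rw [h2]
    simp only [Fin.sum_univ_eight, Matrix.cons_val] at hθ ⊢
    simp only [th8, List.getD_cons_zero, List.getD_cons_succ, Fin.val_zero, Fin.val_one, Fin.val_two] at hθ ⊢
    norm_num at hθ ⊢
    omega
  · have : vecL N Y = fun i => ((y i : ℕ) : ZMod N) := by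
      funext i
      unfold vecL
      rw [hY]
    rw [this]
    exact hy

/-! ### the adjoint representation over the residue field of `V` -/

variable {V : ValuationSubring ℂ} [CharP (ResidueField V) 3]

noncomputable instance algZ3 : Algebra (ZMod 3) (ResidueField V) := ZMod.algebra _ 3

instance fact3 : Fact (Nat.Prime 3) := ⟨Nat.prime_three⟩

/-- The representation over `K` given by a homomorphism to a matrix group over `F₀`. -/
noncomputable def matRep {ι : Type*} [Fintype ι] [DecidableEq ι] {F₀ : Type*} [Field F₀] (K : Type*) [Field K]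
    [Algebra F₀ K] {G : Type*} [Group G] (ρ : G →* GL ι F₀) : Representation K G (ι → K) :=
  ((Matrix.toLinAlgEquiv' : Matrix ι ι K ≃ₐ[K] ((ι → K) →ₗ[K] (ι → K))) : Matrix ι ι K →* ((ι → K) →ₗ[K] (ι → K))).comp
    (((RingHom.mapMatrix (algebraMap F₀ K) : Matrix ι ι F₀ →+* Matrix ι ι K) : Matrix ι ι F₀ →* Matrix ι ι K).comp
      ((Units.coeHom (Matrix ι ι F₀)).comp ρ))

theorem matRep_apply {ι : Type*} [Fintype ι] [DecidableEq ι] {F₀ : Type*} [Field F₀] (K : Type*) [Field K]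
    [Algebra F₀ K] {G : Type*} [Group G] (ρ : G →* GL ι F₀) (g : G) :
    matRep K ρ g = Matrix.toLin' (((ρ g : GL ι F₀) : Matrix ι ι F₀).map (algebraMap F₀ K)) := rfl

/-- The representation of `G` on the adjoint module of `E₈` over the residue field of `V`. -/
noncomputable def adj (V : ValuationSubring ℂ) [CharP (ResidueField V) 3] {G : Type*} [Group G]
    (F : G →* ↥(chevE8.group (ZMod 3))) :
    Representation (ResidueField V) G (chevE8.Idx → ResidueField V) :=
  matRep (ResidueField V) ((chevE8.group (ZMod 3)).subtype.comp F)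

variable {G : Type*} [Group G] (F : G →* ↥(chevE8.group (ZMod 3)))

theorem adj_charpoly (g : G) : LinearMap.charpoly (adj V F g) =
    ((((F g : ↥(chevE8.group (ZMod 3))) : GL chevE8.Idx (ZMod 3)) :
    Matrix chevE8.Idx chevE8.Idx (ZMod 3)).charpoly).map (algebraMap (ZMod 3) (ResidueField V)) := by
  unfold adj
  rw [matRep_apply, Matrix.charpoly_toLin', Matrix.charpoly_map]
  rfl

theorem lift_one : lift 3 (1 : ResidueField V) = 1 := by
  have h := lift_residue (p := 3) (V := V) (z := 1) ⟨1, by norm_num, by simp⟩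
  simpa using h

theorem lift_pow {r : ResidueField V} (hr : IsRU 3 r) (n : ℕ) : lift 3 (r ^ n) = lift 3 r ^ n := by
  obtain ⟨z, hz, hzr, hl⟩ := lift_spec hr
  have h1 : IsRU 3 ((z ^ n : V) : ℂ) := by
    obtain ⟨m, hm, h⟩ := hz
    refine ⟨m, hm, ?_⟩
    push_cast
    rw [← pow_mul, mul_comm, pow_mul, h, one_pow]
  have h2 := lift_residue (p := 3) h1
  rw [map_pow, hzr] at h2
  rw [h2, hl]
  push_cast
  rfl

theorem lift_primitive {r : ResidueField V} {N : ℕ} (hN : ¬ 3 ∣ N) (hr : IsPrimitiveRoot r N) :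
    IsPrimitiveRoot (lift 3 r) N := by
  have hRU : IsRU 3 r := ⟨N, hN, hr.pow_eq_one⟩
  constructor
  · rw [← lift_pow hRU, hr.pow_eq_one, lift_one]
  · intro m hm
    obtain ⟨z, hz, hzr, hl⟩ := lift_spec hRU
    refine hr.dvd_of_pow_eq_one m ?_
    rw [← hzr, ← map_pow]
    have : z ^ m = 1 := by
      apply Subtype.ext
      push_cast
      rw [← hl, hm]
    rw [this, map_one]

/-- the eigenvalues of an element `g` with `g ^ N = 1` on the adjoint module -/
structure Spec (V : ValuationSubring ℂ) [CharP (ResidueField V) 3] {G : Type*} [Group G]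
    (F : G →* ↥(chevE8.group (ZMod 3))) (g : G) (N : ℕ) (Y : List ℕ) (ξ : ℂ) : Prop where
  len : Y.length = 8
  alc : dotN th8 Y ≤ N
  prim : IsPrimitiveRoot ξ N
  bc : ∀ d : ℕ, bc 3 (adj V F) (g ^ d) =
    8 + ((ms chevE8 8 (vecL N Y)).map (fun a => ξ ^ (((d : ZMod N) * a).val))).sum
  frob : ms chevE8 8 (vecL N Y) = (ms chevE8 8 (vecL N Y)).map (fun a => ((3 : ℕ) : ZMod N) * a)
  ord : ∀ d : ℕ, F (g ^ d) = 1 ↔ ∀ a ∈ ms chevE8 8 (vecL N Y), (d : ZMod N) * a = 0
  conj : ∀ a : ℕ, (∃ h : ↥(chevE8.group (ZMod 3)), h * F g * h⁻¹ = F g ^ a) →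
    ms chevE8 8 (vecL N Y) = (ms chevE8 8 (vecL N Y)).map (fun b => (a : ZMod N) * b)

theorem mem_ms_iff {N d : ℕ} (v : Fin 8 → ZMod N) :
    (∀ a ∈ ms chevE8 8 v, (d : ZMod N) * a = 0) ↔ ∀ i, (d : ZMod N) * v i = 0 := by
  constructor
  · intro h i
    have hlt := NPerm.simple_lt e8T.inList (lt_rank e8T i)
    refine h (v i) ?_
    unfold ms
    rw [Multiset.mem_map]
    refine ⟨⟨chevE8.simple i, hlt⟩, Finset.mem_univ_val _, ?_⟩
    show ∑ j, ((vec chevE8 8 (chevE8.simple i) j : ℤ) : ZMod N) * v j = v i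
    rw [vec_simple e8T i, Finset.sum_eq_single i]
    · rw [sr_self, Int.cast_one, one_mul]
    · intro j _ hij
      rw [sr_ne hij, Int.cast_zero, zero_mul]
    · intro h
      exact absurd (Finset.mem_univ i) h
  · intro h a ha
    unfold ms at ha
    rw [Multiset.mem_map] at ha
    obtain ⟨s, -, rfl⟩ := ha
    rw [Finset.mul_sum]
    refine Finset.sum_eq_zero fun i _ => ?_
    rw [mul_left_comm, h i, mul_zero]

theorem exists_spec {g : G} {N : ℕ} (hN0 : N ≠ 0) (hN : N.Coprime 3) (hg : g ^ N = 1) :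
    ∃ (Y : List ℕ) (ξ : ℂ), Spec V F g N Y ξ := by
  have : IsAlgClosed (ResidueField V) := Above.isAlgClosed V
  obtain ⟨v, hv, ζ, hζ, hchar⟩ := exists_valsChar e8T 3 (F := ZMod 3) (x := F g) (N := N) hN0 hN
    (by rw [← map_pow, hg, map_one]) (ResidueField V)
  obtain ⟨Y, hY1, hY2, hY3⟩ := exists_alc (Nat.pos_of_ne_zero hN0) v
  have h3N : ¬ 3 ∣ N := by
    intro h
    have := Nat.dvd_gcd h (dvd_refl 3)
    rw [hN] at this
    omega
  have hRU : IsRU 3 ζ := ⟨N, h3N, hζ.pow_eq_one⟩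
  refine ⟨Y, lift 3 ζ, hY1, hY2, lift_primitive h3N hζ, ?_, ?_, ?_, ?_⟩
  · intro d
    unfold Cfsg.Agent.H657.bc
    rw [adj_charpoly, map_pow, hchar d, Polynomial.roots_mul, Polynomial.roots_pow, Polynomial.roots_X_sub_C,
      Multiset.map_add, Multiset.sum_add, hY3]
    · congr 1
      · rw [Multiset.map_nsmul, Multiset.map_singleton, lift_one, Multiset.sum_nsmul, Multiset.sum_singleton]
        show (8 : ℕ) • (1 : ℂ) = 8
        simp
      · rw [show (ms chevE8 8 v).map (fun a => X - C (ζ ^ (((d : ZMod N) * a).val))) =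
          ((ms chevE8 8 v).map (fun a => ζ ^ (((d : ZMod N) * a).val))).map (fun r => X - C r) by
            rw [Multiset.map_map]; rfl,
          Polynomial.roots_multiset_prod_X_sub_C, Multiset.map_map]
        congr 1
        refine Multiset.map_congr rfl fun a _ => ?_
        exact lift_pow hRU _
    · refine mul_ne_zero (pow_ne_zero _ (Polynomial.X_sub_C_ne_zero _)) ?_
      refine Multiset.prod_ne_zero fun h => ?_
      rw [Multiset.mem_map] at h
      obtain ⟨a, -, ha⟩ := h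
      exact Polynomial.X_sub_C_ne_zero _ ha
  · rw [hY3]
    have := hv.frob
    rwa [Nat.card_zmod] at this
  · intro d
    rw [hY3, mem_ms_iff, hv.ord, map_pow]
  · intro a ha
    rw [hY3]
    exact hv.conj a ha

end Cfsg.Agent.H942.E8Alc

private theorem dce_08ec6ef1d452 : _root_.True := by
  try have : _root_.True := by simp only [_root_.Cfsg.Agent.H942.E8Tab.th8.eq_1]
  exact _root_.True.intro
end

-- part: H942/E8Val
section
set_option linter.all false
open scoped Cfsg.Agent.FastGrp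

/-!
# Brauer character values of `E₈(3)` on the adjoint module: elements of order 2, 4, 8, 5, 11
-/

set_option autoImplicit false
set_option linter.unusedSectionVars false
set_option maxRecDepth 100000

namespace Cfsg.Agent.H942.E8Val

open Cfsg.Agent.ChevalleyStructure.CoxeterGeom Cfsg.Agent.Tits.Roots
  Cfsg.Agent.Nodes.RGDChev
open Cfsg.Lie Cfsg.Agent.ChevalleyStructure Cfsg.Agent.ChevalleyStructure.Elts
  Cfsg.Agent.ChevalleyStructure.RootVec Cfsg.Agent.ChevalleyStructure.RootVecTab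
  Cfsg.Agent.ChevalleyStructure.NPerm Cfsg.Agent.ChevalleyStructure.CoxeterGeomTypes
open Cfsg.Agent.H944.RootVals Cfsg.Agent.H944.Kac Cfsg.Agent.H944.Tab
open Cfsg.Agent.H942.E8Tab Cfsg.Agent.H942.ValsChar Cfsg.Agent.H942.E8Alc
open Cfsg.Agent.H657 IsLocalRing Module

/-! ### generalities on multisets of root values -/

theorem dotF_vecL {N : ℕ} (Y : List ℕ) : ∀ r ∈ R8, dotF (l := 8) r (vecL N Y) = ((dotN r Y : ℕ) : ZMod N) := by
  intro r hr
  rw [dotN_eq 8 r Y (len8 r hr)]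
  unfold dotF vecL
  push_cast
  rfl

/-- sums over the multiset of root values, in terms of the table of positive roots -/
theorem sum_tab {N : ℕ} {A : Type*} [AddCommMonoid A] (Y : List ℕ) (g : ZMod N → A) :
    ((ms chevE8 8 (vecL N Y)).map g).sum =
      (R8.map fun r => g ((dotN r Y : ℕ) : ZMod N) + g (-((dotN r Y : ℕ) : ZMod N))).sum := by
  rw [sum_ms tab8]
  congr 1
  refine List.map_congr_left fun r hr => ?_
  rw [dotF_vecL Y r hr]

/-- the multiset of root values is symmetric -/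
theorem ms_neg {N : ℕ} (v : Fin 8 → ZMod N) : ms chevE8 8 v = (ms chevE8 8 v).map (fun a => -a) := by
  rw [ms_tab tab8, Multiset.map_add, Multiset.map_coe, Multiset.map_coe, List.map_map, List.map_map]
  rw [add_comm]
  congr 2
  refine List.map_congr_left fun r _ => ?_
  simp

theorem card_ms {N : ℕ} (v : Fin 8 → ZMod N) : (ms chevE8 8 v).card = 240 := by
  unfold ms
  rw [Multiset.card_map]
  show (Finset.univ : Finset (Fin chevE8.nroots)).card = 240
  rw [Finset.card_univ, Fintype.card_fin]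
  rfl

/-- averaging over a set of multipliers -/
theorem sum_avg {N : ℕ} {m : Multiset (ZMod N)} (us : List (ZMod N)) (hus : ∀ u ∈ us, m = m.map (fun a => u * a))
    (f : ZMod N → ℂ) : (us.length : ℂ) * (m.map f).sum = (m.map fun a => (us.map fun u => f (u * a)).sum).sum := by
  induction us with
  | nil => simp
  | cons u us ih =>
    have h1 : (m.map fun a => ((u :: us).map fun u => f (u * a)).sum).sum =
        (m.map fun a => f (u * a)).sum + (m.map fun a => (us.map fun u => f (u * a)).sum).sum := by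
      rw [← Multiset.sum_map_add]
      simp
    have h2 : (m.map fun a => f (u * a)).sum = (m.map f).sum := by
      conv_rhs => rw [hus u (by simp), Multiset.map_map]
      rfl
    rw [h1, h2, ← ih fun w hw => hus w (by simp [hw]), List.length_cons]
    push_cast
    ring

theorem map_mul_comm {N : ℕ} {m : Multiset (ZMod N)} {u : ZMod N} (h : m = m.map (fun a => u * a)) (d : ZMod N) :
    m.map (fun a => d * a) = (m.map (fun a => d * a)).map (fun a => u * a) := by
  conv_lhs => rw [h]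
  rw [Multiset.map_map, Multiset.map_map]
  refine Multiset.map_congr rfl fun a _ => ?_
  simp only [Function.comp_apply]
  ring

/-! ### order dividing 8 -/

/-- the average of the powers of a primitive 8-th root of unity over the units -/
def chi8 (a : ZMod 8) : ℤ := if a = 0 then 1 else if a = 4 then -1 else 0

theorem chi8_neg : ∀ a : ZMod 8, chi8 (-a) = chi8 a := by decide

theorem sum8 {m : Multiset (ZMod 8)} (h3 : m = m.map (fun a => ((3 : ℕ) : ZMod 8) * a))
    (hn : m = m.map (fun a => -a)) {ξ : ℂ} (hξ : IsPrimitiveRoot ξ 8) :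
    (m.map fun a => ξ ^ a.val).sum = ((m.map chi8).sum : ℤ) := by
  have h4 : ξ ^ 4 = -1 := by
    have h0 : ξ ^ 8 = 1 := hξ.pow_eq_one
    have h1 : (ξ ^ 4 - 1) * (ξ ^ 4 + 1) = 0 := by linear_combination h0
    rcases mul_eq_zero.1 h1 with h | h
    · exfalso
      have := hξ.dvd_of_pow_eq_one 4 (sub_eq_zero.1 h)
      omega
    · linear_combination h
  have hn' : m = m.map (fun a => (7 : ZMod 8) * a) := by
    conv_lhs => rw [hn]
    refine Multiset.map_congr rfl fun a _ => ?_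
    exact (by decide : ∀ a : ZMod 8, -a = 7 * a) a
  have h3' : m = m.map (fun a => (3 : ZMod 8) * a) := by
    conv_lhs => rw [h3]
    rfl
  have h5 : m = m.map (fun a => (5 : ZMod 8) * a) := by
    conv_lhs => rw [h3', hn', Multiset.map_map]
    refine Multiset.map_congr rfl fun a _ => ?_
    exact (by decide : ∀ a : ZMod 8, 3 * (7 * a) = 5 * a) a
  have key := sum_avg [1, 3, 7, 5] (m := m) (by
    intro u hu
    simp only [List.mem_cons, List.not_mem_nil, or_false] at hu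
    rcases hu with rfl | rfl | rfl | rfl
    · simp
    · exact h3'
    · exact hn'
    · exact h5) (fun a => ξ ^ a.val)
  have hpt : ∀ a : ZMod 8, ([1, 3, 7, 5].map fun u : ZMod 8 => ξ ^ (u * a).val).sum = 4 * ((chi8 a : ℤ) : ℂ) := by
    intro a
    have h6 : ξ ^ 5 = -ξ := by rw [show 5 = 4 + 1 from rfl, pow_add, h4]; ring
    have h7 : ξ ^ 6 = -ξ ^ 2 := by rw [show 6 = 4 + 2 from rfl, pow_add, h4]; ring
    have h8 : ξ ^ 7 = -ξ ^ 3 := by rw [show 7 = 4 + 3 from rfl, pow_add, h4]; ring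
    fin_cases a
    · show ([1, 3, 7, 5].map fun u : ZMod 8 => ξ ^ (u * 0).val).sum = 4 * ((1 : ℤ) : ℂ)
      simp
      norm_num
    · show ξ ^ 1 + (ξ ^ 3 + (ξ ^ 7 + (ξ ^ 5 + 0))) = 4 * ((0 : ℤ) : ℂ)
      rw [h8, h6]; push_cast; ring
    · show ξ ^ 2 + (ξ ^ 6 + (ξ ^ 6 + (ξ ^ 2 + 0))) = 4 * ((0 : ℤ) : ℂ)
      rw [h7]; push_cast; ring
    · show ξ ^ 3 + (ξ ^ 1 + (ξ ^ 5 + (ξ ^ 7 + 0))) = 4 * ((0 : ℤ) : ℂ)
      rw [h8, h6]; push_cast; ring
    · show ξ ^ 4 + (ξ ^ 4 + (ξ ^ 4 + (ξ ^ 4 + 0))) = 4 * ((-1 : ℤ) : ℂ)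
      rw [h4]; push_cast; ring
    · show ξ ^ 5 + (ξ ^ 7 + (ξ ^ 3 + (ξ ^ 1 + 0))) = 4 * ((0 : ℤ) : ℂ)
      rw [h8, h6]; push_cast; ring
    · show ξ ^ 6 + (ξ ^ 2 + (ξ ^ 2 + (ξ ^ 6 + 0))) = 4 * ((0 : ℤ) : ℂ)
      rw [h7]; push_cast; ring
    · show ξ ^ 7 + (ξ ^ 5 + (ξ ^ 1 + (ξ ^ 3 + 0))) = 4 * ((0 : ℤ) : ℂ)
      rw [h8, h6]; push_cast; ring
  simp only [hpt] at key
  have h9 : (m.map fun a => 4 * ((chi8 a : ℤ) : ℂ)).sum = 4 * (((m.map chi8).sum : ℤ) : ℂ) := by
    rw [Multiset.sum_map_mul_left]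
    congr 1
    have h11 := map_multiset_sum (Int.castRingHom ℂ) (m.map chi8)
    rw [Multiset.map_map] at h11
    exact h11.symm
  rw [h9] at key
  have h10 : (([1, 3, 7, 5] : List (ZMod 8)).length : ℂ) = 4 := by simp
  rw [h10] at key
  exact mul_left_cancel₀ (by norm_num) key

/-- the number of roots `r` of the table with `d * (r · Y) ≡ c` modulo `N` -/
def cnt (N d c : ℕ) (Y : List ℕ) : ℕ := sumH (fun t => bif Nat.beq ((d * t) % N) c then 1 else 0) R8 Y

/-- the value of the Brauer character, for elements of order dividing 8 -/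
def t8 (d : ℕ) (Y : List ℕ) : ℤ := 8 + 2 * ((cnt 8 d 0 Y : ℤ) - (cnt 8 d 4 Y : ℤ))

theorem list_sum_sub (L : List (List ℕ)) (f g : List ℕ → ℕ) :
    (((L.map f).sum : ℕ) : ℤ) - (((L.map g).sum : ℕ) : ℤ) = (L.map fun r => (f r : ℤ) - (g r : ℤ)).sum := by
  induction L with
  | nil => simp
  | cons r L ih =>
    simp only [List.map_cons, List.sum_cons]
    rw [← ih]
    push_cast
    ring

theorem chi8_nat : ∀ n : ℕ, chi8 (n : ZMod 8) =
    ((bif Nat.beq (n % 8) 0 then 1 else 0 : ℕ) : ℤ) - ((bif Nat.beq (n % 8) 4 then 1 else 0 : ℕ) : ℤ) := by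
  intro n
  have h1 : (n : ZMod 8) = ((n % 8 : ℕ) : ZMod 8) := by rw [ZMod.natCast_mod]
  rw [h1]
  have h2 : n % 8 < 8 := Nat.mod_lt _ (by norm_num)
  generalize n % 8 = k at h2
  interval_cases k <;> decide

theorem sum_chi8 (d : ℕ) (Y : List ℕ) :
    8 + ((ms chevE8 8 (vecL 8 Y)).map fun a => chi8 ((d : ZMod 8) * a)).sum = t8 d Y := by
  rw [sum_tab, t8, cnt, cnt, sumH_eq, sumH_eq, list_sum_sub]
  congr 1
  rw [← List.sum_map_mul_left]
  congr 1
  refine List.map_congr_left fun r _ => ?_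
  rw [mul_neg, chi8_neg, ← Nat.cast_mul, chi8_nat]
  ring

theorem bc8 {V : ValuationSubring ℂ} [CharP (ResidueField V) 3] {G : Type*} [Group G]
    {F : G →* ↥(chevE8.group (ZMod 3))} {g : G} {Y : List ℕ} {ξ : ℂ} (h : Spec V F g 8 Y ξ) (d : ℕ) :
    bc 3 (adj V F) (g ^ d) = (t8 d Y : ℂ) := by
  rw [h.bc, ← sum_chi8 d Y]
  have h1 : (ms chevE8 8 (vecL 8 Y)).map (fun a => ξ ^ (((d : ZMod 8) * a).val)) =
      ((ms chevE8 8 (vecL 8 Y)).map fun a => (d : ZMod 8) * a).map fun a => ξ ^ a.val := by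
    rw [Multiset.map_map]; rfl
  have h2 := map_mul_comm h.frob (d : ZMod 8)
  have hn : (ms chevE8 8 (vecL 8 Y)) = (ms chevE8 8 (vecL 8 Y)).map (fun a => (-1 : ZMod 8) * a) := by
    conv_lhs => rw [ms_neg]
    refine Multiset.map_congr rfl fun a _ => ?_
    rw [neg_one_mul]
  have h3 := map_mul_comm hn (d : ZMod 8)
  have h3' : ((ms chevE8 8 (vecL 8 Y)).map fun a => (d : ZMod 8) * a) =
      ((ms chevE8 8 (vecL 8 Y)).map fun a => (d : ZMod 8) * a).map (fun a => -a) := by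
    conv_lhs => rw [h3]
    refine Multiset.map_congr rfl fun a _ => ?_
    rw [neg_one_mul]
  rw [h1, sum8 h2 h3' h.prim, Multiset.map_map]
  push_cast
  rfl

theorem sum_eq_card_iff (m : Multiset (ZMod 8)) (d : ZMod 8) :
    (m.map fun a => chi8 (d * a)).sum = (m.card : ℤ) ↔ ∀ a ∈ m, d * a = 0 := by
  have hle : ∀ a : ZMod 8, chi8 a ≤ 1 := by decide
  have heq : ∀ a : ZMod 8, chi8 a = 1 → a = 0 := by decide
  have hsum : ∀ m : Multiset (ZMod 8), (m.map fun a => chi8 (d * a)).sum ≤ (m.card : ℤ) := by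
    intro m
    induction m using Multiset.induction_on with
    | empty => simp
    | cons a s ih =>
      rw [Multiset.map_cons, Multiset.sum_cons, Multiset.card_cons]
      push_cast
      have := hle (d * a)
      omega
  induction m using Multiset.induction_on with
  | empty => simp only [_root_.Multiset.map_zero, _root_.Multiset.sum_zero, _root_.Multiset.card_zero, _root_.CharP.cast_eq_zero, _root_.Multiset.notMem_zero, _root_.IsEmpty.forall_iff, _root_.implies_true]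
  | cons a s ih =>
    rw [Multiset.map_cons, Multiset.sum_cons, Multiset.card_cons]
    have h1 := hle (d * a)
    have h2 := hsum s
    constructor
    · intro h b hb
      push_cast at h
      rcases Multiset.mem_cons.1 hb with rfl | hb
      · exact heq _ (by omega)
      · exact ih.1 (by omega) b hb
    · intro h
      have h3 := ih.2 fun b hb => h b (Multiset.mem_cons_of_mem hb)
      rw [h3, h a (Multiset.mem_cons_self a s)]
      push_cast
      have : chi8 0 = 1 := by decide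
      omega

theorem ord8 {V : ValuationSubring ℂ} [CharP (ResidueField V) 3] {G : Type*} [Group G]
    {F : G →* ↥(chevE8.group (ZMod 3))} {g : G} {Y : List ℕ} {ξ : ℂ} (h : Spec V F g 8 Y ξ) (d : ℕ) :
    F (g ^ d) = 1 ↔ t8 d Y = 248 := by
  rw [h.ord, ← sum_eq_card_iff, card_ms, ← sum_chi8 d Y]
  constructor
  · intro h
    rw [h]
    rfl
  · intro h
    omega

/-- the values of the Brauer character at `g`, `g ^ 2`, `g ^ 4` -/
def L8 : List (ℤ × ℤ × ℤ) :=
  [(-8, 248, 248), (-6, 132, 24), (-4, 24, 248), (-4, 64, -8), (-2, 4, 24), (-2, 28, 24), (0, -8, 248), (0, 0, -8),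
   (0, 8, -8), (2, -4, 24), (2, 4, 24), (4, 0, -8), (4, 24, 248), (6, 4, 24), (8, -8, 248), (12, 64, -8),
   (14, 28, 24), (16, 0, -8), (24, 248, 248), (26, 132, 24), (28, 24, 248), (34, -4, 24), (44, 64, -8),
   (64, -8, 248), (78, 28, 24), (132, 24, 248), (248, 248, 248)]

private theorem _root_.Cfsg.Agent.KOe326d2a.e0.{ku, kv} {α : Type kv} {M : List α → Sort ku} (φ : ∀ l, M l) {z : M List.nil} {s : ∀ a l, M l → M (List.cons a l)} (h0 : φ List.nil = z) (hs : ∀ a l, φ (List.cons a l) = s a l (φ l)) (l : List α) : φ l = @List.rec α M z s l := List.rec h0 (fun a l ih => (hs a l).trans (congrArg (s a l) ih)) l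
private noncomputable def _root_.Cfsg.Agent.KOe326d2a.k1.{ku0} : type_of% @List.all.{ku0} := @(fun x0 x1 x2 => @List.rec.{(ku0+1), ku0} @x0 @(fun x3 => (@x0 → @Bool) → @Bool) @(fun x3 => @Bool.true) @(fun x3 x4 x5 x6 => @Bool.rec.{1} @(fun x7 => @Bool) @Bool.false (@x5 @x6) (@x6 @x3)) @x1 @x2)
private theorem _root_.Cfsg.Agent.KOe326d2a.e1.{ku0} : @List.all.{ku0} = @_root_.Cfsg.Agent.KOe326d2a.k1.{ku0} := by delta _root_.Cfsg.Agent.KOe326d2a.k1; funext a0 a1 a2; refine (congrFun (_root_.Cfsg.Agent.KOe326d2a.e0 (fun a1 a2 => @List.all.{ku0} a0 a1 a2) ?_ (fun c0 c1 => ?_) a1) a2 :) <;> (rfl')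
private theorem _root_.Cfsg.Agent.KOe326d2a.e2.{ku} {M : Nat → Sort ku} (φ : ∀ n, M n) {z : M Nat.zero} {s : ∀ n, M n → M (Nat.succ n)} (h0 : φ Nat.zero = z) (hs : ∀ n, φ (Nat.succ n) = s n (φ n)) (n : Nat) : φ n = @Nat.rec M z s n := Nat.rec h0 (fun n ih => (hs n).trans (congrArg (s n) ih)) n
private noncomputable def _root_.Cfsg.Agent.KOe326d2a.k3 : type_of% @List.range.loop := @(fun x0 x1 => @Nat.rec.{1} @(fun x2 => (@List.{0} ℕ) → @List.{0} ℕ) @(fun x2 => @x2) @(fun x2 x3 x4 => @x3 (@x2 :: @x4)) @x0 @x1)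
private theorem _root_.Cfsg.Agent.KOe326d2a.e3 : @List.range.loop = @_root_.Cfsg.Agent.KOe326d2a.k3 := by delta _root_.Cfsg.Agent.KOe326d2a.k3; funext a0 a1; refine (congrFun (_root_.Cfsg.Agent.KOe326d2a.e2 (fun a0 a1 => @List.range.loop a0 a1) ?_ (fun c0 => ?_) a0) a1 :) <;> (rfl')
private noncomputable def _root_.Cfsg.Agent.KOe326d2a.k4 : (by first | exact type_of% @Cfsg.Agent.H944.Tab.allAlc | exact Unit : Sort _) := by first | (refine @Subtype.val _ (fun g => @Cfsg.Agent.H944.Tab.allAlc = @g) (@Subtype.mk _ _ (@(fun x0 x1 x2 => @List.rec.{1, 0} ℕ @(fun x3 => ℕ → ((@List.{0} ℕ) → @Bool) → @Bool) @(fun x3 x4 => @x4 []) @(fun x3 x4 x5 x6 x7 => @Cfsg.Agent.KOe326d2a.k1.{0} _ (@Cfsg.Agent.KOe326d2a.k3 (@Nat.add (@Nat.div @x6 @x3) (nat_lit 1)) []) @(fun x8 => @x5 (@Nat.sub @x6 (@Nat.mul @x3 @x8)) @(fun x9 => @x7 (@x8 :: @x9)))) @x0 @x1 @x2)) ?_); rewrite [← Cfsg.Agent.KOe326d2a.e3, ← Cfsg.Agent.KOe326d2a.e1.{0}]; funext a0 a1 a2; refine (congrFun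 (congrFun (_root_.Cfsg.Agent.KOe326d2a.e0 (fun a0 a1 a2 => @Cfsg.Agent.H944.Tab.allAlc a0 a1 a2) ?_ (fun c0 c1 => ?_) a0) a1) a2 :) <;> (rfl')) | exact @Cfsg.Agent.H944.Tab.allAlc | exact ()
private theorem _root_.Cfsg.Agent.KOe326d2a.e4 : (by first | exact @Cfsg.Agent.H944.Tab.allAlc = @_root_.Cfsg.Agent.KOe326d2a.k4 | exact True : Prop) := by first | (delta _root_.Cfsg.Agent.KOe326d2a.k4; exact @Subtype.property _ (fun g => @Cfsg.Agent.H944.Tab.allAlc = @g) _) | rfl | trivial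
private noncomputable def _root_.Cfsg.Agent.KOe326d2a.k5.{ku0} : type_of% @cond.{ku0} := @(fun x0 x1 x2 x3 => @Bool.rec.{ku0} @(fun x4 => @x0) @x3 @x2 @x1)
private theorem _root_.Cfsg.Agent.KOe326d2a.e5.{ku0} : @cond.{ku0} = @_root_.Cfsg.Agent.KOe326d2a.k5.{ku0} := by delta _root_.Cfsg.Agent.KOe326d2a.k5; rfl'
private noncomputable def _root_.Cfsg.Agent.KOe326d2a.k7 : (by first | exact type_of% @Cfsg.Agent.H944.Tab.dotN | exact Unit : Sort _) := by first | (refine @Subtype.val _ (fun g => @Cfsg.Agent.H944.Tab.dotN = @g) (@Subtype.mk _ _ (@(fun x0 x1 => @List.rec.{1, 0} ℕ @(fun x2 => (@List.{0} ℕ) → ℕ) @(fun x2 => nat_lit 0) @(fun x2 x3 x4 x5 => @List.rec.{1, 0} ℕ @(fun x6 => ((@Nat.hasNotBit (nat_lit 2) (@List.ctorIdx.{0} _ @x6)) → ℕ) → ℕ) @(fun x6 => @x6 (@Nat.ne_of_beq_eq_false _ _ (@Eq.refl.{1} _ @Bool.false))) @(fun x6 x7 x8 x9 => @Nat.add (@Nat.mul @x2 @x6) (@x4 @x7)) @x5 @(fun x6 => nat_lit 0)) @x0 @x1)) ?_); funext a0 a1; refine (congrFun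 (_root_.Cfsg.Agent.KOe326d2a.e0 (fun a0 a1 => @Cfsg.Agent.H944.Tab.dotN a0 a1) ?_ (fun c0 c1 => ?_) a0) a1 :) <;> [(funext b0; (rfl')); (funext b0; (cases b0 with | @nil  => (rfl') | @cons b0_0 b0_1 => (rfl')))]) | exact @Cfsg.Agent.H944.Tab.dotN | exact ()
private theorem _root_.Cfsg.Agent.KOe326d2a.e7 : (by first | exact @Cfsg.Agent.H944.Tab.dotN = @_root_.Cfsg.Agent.KOe326d2a.k7 | exact True : Prop) := by first | (delta _root_.Cfsg.Agent.KOe326d2a.k7; exact @Subtype.property _ (fun g => @Cfsg.Agent.H944.Tab.dotN = @g) _) | rfl | trivial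
private noncomputable def _root_.Cfsg.Agent.KOe326d2a.k8 : (by first | exact type_of% @Cfsg.Agent.H944.Tab.sumH | exact Unit : Sort _) := by first | (refine @Subtype.val _ (fun g => @Cfsg.Agent.H944.Tab.sumH = @g) (@Subtype.mk _ _ (@(fun x0 x1 x2 => @List.rec.{1, 0} (@List.{0} ℕ) @(fun x3 => (@List.{0} ℕ) → ℕ) @(fun x3 => nat_lit 0) @(fun x3 x4 x5 x6 => @Nat.add (@x0 (@Cfsg.Agent.KOe326d2a.k7 @x3 @x6)) (@x5 @x6)) @x1 @x2)) ?_); rewrite [← Cfsg.Agent.KOe326d2a.e7]; funext a0 a1 a2; refine (congrFun (_root_.Cfsg.Agent.KOe326d2a.e0 (fun a1 a2 => @Cfsg.Agent.H944.Tab.sumH a0 a1 a2) ?_ (fun c0 c1 => ?_) a1) a2 :) <;> ((try delta Cfsg.Agent.H944.Tab.sumH Cfsg.Agent.H944.Tab.sumH._f); (try generalize @Cfsg.Agent.H944.Tab.dotN = g0); rfl')) | exact @Cfsg.Agent.H944.Tab.sumH | exact ()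
private theorem _root_.Cfsg.Agent.KOe326d2a.e8 : (by first | exact @Cfsg.Agent.H944.Tab.sumH = @_root_.Cfsg.Agent.KOe326d2a.k8 | exact True : Prop) := by first | (delta _root_.Cfsg.Agent.KOe326d2a.k8; exact @Subtype.property _ (fun g => @Cfsg.Agent.H944.Tab.sumH = @g) _) | rfl | trivial
private noncomputable def _root_.Cfsg.Agent.KOe326d2a.k9 : (by first | exact type_of% @Cfsg.Agent.H944.Tab.hh | exact Unit : Sort _) := by first | (refine @Subtype.val _ (fun g => @Cfsg.Agent.H944.Tab.hh = @g) (@Subtype.mk _ _ (@(fun x0 x1 => @Nat.add (@Nat.pow (nat_lit 256) (@Nat.mod @x1 @x0)) (@Nat.pow (nat_lit 256) (@Nat.mod (@Nat.sub @x0 (@Nat.mod @x1 @x0)) @x0)))) ?_); rfl') | exact @Cfsg.Agent.H944.Tab.hh | exact ()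
private theorem _root_.Cfsg.Agent.KOe326d2a.e9 : (by first | exact @Cfsg.Agent.H944.Tab.hh = @_root_.Cfsg.Agent.KOe326d2a.k9 | exact True : Prop) := by first | (delta _root_.Cfsg.Agent.KOe326d2a.k9; exact @Subtype.property _ (fun g => @Cfsg.Agent.H944.Tab.hh = @g) _) | rfl | trivial
private noncomputable def _root_.Cfsg.Agent.KOe326d2a.k10 : (by first | exact type_of% @Cfsg.Agent.H944.Tab.invB | exact Unit : Sort _) := by first | (refine @Subtype.val _ (fun g => @Cfsg.Agent.H944.Tab.invB = @g) (@Subtype.mk _ _ (@(fun x0 x1 x2 x3 => @Nat.beq (@Cfsg.Agent.KOe326d2a.k8 (@Cfsg.Agent.KOe326d2a.k9 @x0) @x2 @x3) (@Cfsg.Agent.KOe326d2a.k8 @(fun x4 => @Cfsg.Agent.KOe326d2a.k9 @x0 (@Nat.mul @x1 @x4)) @x2 @x3))) ?_); rewrite [← Cfsg.Agent.KOe326d2a.e9, ← Cfsg.Agent.KOe326d2a.e8]; (try delta Cfsg.Agent.H944.Tab.invB); (try generalize @Cfsg.Agent.H944.Tab.sumH = g0); (try generalize @Cfsg.Agent.H944.Tab.hh = g1); rfl') | exact @Cfsg.Agent.H944.Tab.invB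 | exact ()
private theorem _root_.Cfsg.Agent.KOe326d2a.e10 : (by first | exact @Cfsg.Agent.H944.Tab.invB = @_root_.Cfsg.Agent.KOe326d2a.k10 | exact True : Prop) := by first | (delta _root_.Cfsg.Agent.KOe326d2a.k10; exact @Subtype.property _ (fun g => @Cfsg.Agent.H944.Tab.invB = @g) _) | rfl | trivial
private noncomputable def _root_.Cfsg.Agent.KOe326d2a.k11 : type_of% @Decidable.decide := @(fun x0 x1 => @Decidable.rec.{1} _ @(fun x2 => @Bool) @(fun x2 => @Bool.false) @(fun x2 => @Bool.true) @x1)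
private theorem _root_.Cfsg.Agent.KOe326d2a.e11 : @Decidable.decide = @_root_.Cfsg.Agent.KOe326d2a.k11 := by delta _root_.Cfsg.Agent.KOe326d2a.k11; rfl'
private noncomputable def _root_.Cfsg.Agent.KOe326d2a.k12 : type_of% @Bool.decEq := @(fun x0 x1 => @Bool.rec.{1} @(fun x2 => @Decidable (@Eq.{1} _ @x2 @x1)) (@Bool.rec.{1} @(fun x2 => @Decidable (@Eq.{1} _ @Bool.false @x2)) (@Decidable.isTrue _ (@rfl.{1} _ _)) (@Decidable.isFalse _ @(fun x2 => @Bool.noConfusion.{0} _ _ _ @x2)) @x1) (@Bool.rec.{1} @(fun x2 => @Decidable (@Eq.{1} _ @Bool.true @x2)) (@Decidable.isFalse _ @(fun x2 => @Bool.noConfusion.{0} _ _ _ @x2)) (@Decidable.isTrue _ (@rfl.{1} _ _)) @x1) @x0)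
private theorem _root_.Cfsg.Agent.KOe326d2a.e12 : @Bool.decEq = @_root_.Cfsg.Agent.KOe326d2a.k12 := by delta _root_.Cfsg.Agent.KOe326d2a.k12; rfl'
private noncomputable def _root_.Cfsg.Agent.KOe326d2a.k14.{ku0} : type_of% @List.instDecidableMemOfLawfulBEq.{ku0} := @(fun x0 x1 x2 x3 x4 => @Decidable.rec.{1} _ @(fun x5 => @Decidable (@Membership.mem.{ku0, ku0} _ _ _ @x4 @x3)) @(fun x5 => @Decidable.isFalse _ (@decidable_of_decidable_of_iff._proof_1 _ _ (@List.instDecidableMemOfLawfulBEq._proof_1.{ku0} _ _ _ @x3 @x4) @x5)) @(fun x5 => @Decidable.isTrue _ (@Iff.mp _ _ (@List.instDecidableMemOfLawfulBEq._proof_1.{ku0} _ _ _ @x3 @x4) @x5)) (@Cfsg.Agent.KOe326d2a.k12 (@List.elem.{ku0} _ @x1 @x3 @x4) @Bool.true))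
private theorem _root_.Cfsg.Agent.KOe326d2a.e14.{ku0} : @List.instDecidableMemOfLawfulBEq.{ku0} = @_root_.Cfsg.Agent.KOe326d2a.k14.{ku0} := by delta _root_.Cfsg.Agent.KOe326d2a.k14; rewrite [← Cfsg.Agent.KOe326d2a.e12]; rfl'
private noncomputable def _root_.Cfsg.Agent.KOe326d2a.k18 : type_of% @Int.add := @(fun x0 x1 => @Int.rec.{1} @(fun x2 => ℤ) @(fun x2 => @Int.rec.{1} @(fun x3 => ℤ) @(fun x3 => @Int.ofNat (@Nat.add @x2 @x3)) @(fun x3 => @Nat.rec.{1} @(fun x4 => ℤ) (@Int.ofNat (@Nat.sub @x2 (@Nat.succ @x3))) @(fun x4 x5 => @Int.negSucc @x4) (@Nat.sub (@Nat.succ @x3) @x2)) @x1) @(fun x2 => @Int.rec.{1} @(fun x3 => ℤ) @(fun x3 => @Nat.rec.{1} @(fun x4 => ℤ) (@Int.ofNat (@Nat.sub @x3 (@Nat.succ @x2))) @(fun x4 x5 => @Int.negSucc @x4) (@Nat.sub (@Nat.succ @x2) @x3)) @(fun x3 => @Int.negSucc (@Nat.succ (@Nat.add @x2 @x3))) @x1) @x0)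
private theorem _root_.Cfsg.Agent.KOe326d2a.e18 : @Int.add = @_root_.Cfsg.Agent.KOe326d2a.k18 := by delta _root_.Cfsg.Agent.KOe326d2a.k18; rfl'
private noncomputable def _root_.Cfsg.Agent.KOe326d2a.k19 : type_of% @Int.mul := @(fun x0 x1 => @Int.rec.{1} @(fun x2 => ℤ) @(fun x2 => @Int.rec.{1} @(fun x3 => ℤ) @(fun x3 => @Int.ofNat (@Nat.mul @x2 @x3)) @(fun x3 => @Nat.rec.{1} @(fun x4 => ℤ) (@Int.ofNat (nat_lit 0)) @(fun x4 x5 => @Int.negSucc @x4) (@Nat.mul @x2 (@Nat.succ @x3))) @x1) @(fun x2 => @Int.rec.{1} @(fun x3 => ℤ) @(fun x3 => @Nat.rec.{1} @(fun x4 => ℤ) (@Int.ofNat (nat_lit 0)) @(fun x4 x5 => @Int.negSucc @x4) (@Nat.mul (@Nat.succ @x2) @x3)) @(fun x3 => @Int.ofNat (@Nat.mul (@Nat.succ @x2) (@Nat.succ @x3))) @x1) @x0)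
private theorem _root_.Cfsg.Agent.KOe326d2a.e19 : @Int.mul = @_root_.Cfsg.Agent.KOe326d2a.k19 := by delta _root_.Cfsg.Agent.KOe326d2a.k19; rfl'
private noncomputable def _root_.Cfsg.Agent.KOe326d2a.k20 : (by first | exact type_of% @Cfsg.Agent.H942.E8Val.cnt | exact Unit : Sort _) := by first | (refine @Subtype.val _ (fun g => @Cfsg.Agent.H942.E8Val.cnt = @g) (@Subtype.mk _ _ (@(fun x0 x1 x2 x3 => @Cfsg.Agent.KOe326d2a.k8 @(fun x4 => @Bool.rec.{1} @(fun x5 => ℕ) (nat_lit 0) (nat_lit 1) (@Nat.beq (@Nat.mod (@Nat.mul @x1 @x4) @x0) @x2)) @Cfsg.Agent.H942.E8Tab.R8 @x3)) ?_); rewrite [← Cfsg.Agent.KOe326d2a.e8]; (try delta Cfsg.Agent.H942.E8Val.cnt); (try generalize @Cfsg.Agent.H944.Tab.sumH = g0); (try generalize @Cfsg.Agent.H942.E8Tab.R8 = g1); rfl') | exact @Cfsg.Agent.H942.E8Val.cnt | exact ()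
private theorem _root_.Cfsg.Agent.KOe326d2a.e20 : (by first | exact @Cfsg.Agent.H942.E8Val.cnt = @_root_.Cfsg.Agent.KOe326d2a.k20 | exact True : Prop) := by first | (delta _root_.Cfsg.Agent.KOe326d2a.k20; exact @Subtype.property _ (fun g => @Cfsg.Agent.H942.E8Val.cnt = @g) _) | rfl | trivial
private noncomputable def _root_.Cfsg.Agent.KOe326d2a.k21 : (by first | exact type_of% @Cfsg.Agent.H942.E8Val.t8 | exact Unit : Sort _) := by first | (refine @Subtype.val _ (fun g => @Cfsg.Agent.H942.E8Val.t8 = @g) (@Subtype.mk _ _ (@(fun x0 x1 => @Cfsg.Agent.KOe326d2a.k18 (@Int.ofNat (nat_lit 8)) (@Cfsg.Agent.KOe326d2a.k19 (@Int.ofNat (nat_lit 2)) (@Cfsg.Agent.KOe326d2a.k18 (@Int.ofNat (@Cfsg.Agent.KOe326d2a.k20 (nat_lit 8) @x0 (nat_lit 0) @x1)) (@Nat.rec.{1} @(fun x2 => ℤ) (@Int.ofNat (nat_lit 0)) @(fun x2 x3 => @Int.negSucc @x2) (@Cfsg.Agent.KOe326d2a.k20 (nat_lit 8) @x0 (nat_lit 4) @x1)))))) ?_); rewrite [← Cfsg.Agent.KOe326d2a.e20, ← Cfsg.Agent.KOe326d2a.e19,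 ← Cfsg.Agent.KOe326d2a.e18]; (try delta Cfsg.Agent.H942.E8Val.t8); (try generalize @Cfsg.Agent.H942.E8Val.cnt = g0); rfl') | exact @Cfsg.Agent.H942.E8Val.t8 | exact ()
private theorem _root_.Cfsg.Agent.KOe326d2a.e21 : (by first | exact @Cfsg.Agent.H942.E8Val.t8 = @_root_.Cfsg.Agent.KOe326d2a.k21 | exact True : Prop) := by first | (delta _root_.Cfsg.Agent.KOe326d2a.k21; exact @Subtype.property _ (fun g => @Cfsg.Agent.H942.E8Val.t8 = @g) _) | rfl | trivial

theorem check8 : allAlc th8 8 (fun Y => bif invB 8 3 R8 Y then decide ((t8 1 Y, t8 2 Y, t8 4 Y) ∈ L8) else true) =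
    true := by
  (first | (rewrite [Cfsg.Agent.KOe326d2a.e4, Cfsg.Agent.KOe326d2a.e5.{1}, Cfsg.Agent.KOe326d2a.e10, Cfsg.Agent.KOe326d2a.e11, Cfsg.Agent.KOe326d2a.e14.{0}, Cfsg.Agent.KOe326d2a.e21]; decide +kernel) | decide +kernel)

/-- **Elements of order dividing 8.** -/
theorem val8 (V : ValuationSubring ℂ) [CharP (ResidueField V) 3] {G : Type*} [Group G]
    (F : G →* ↥(chevE8.group (ZMod 3))) {g : G} (hg : g ^ 8 = 1) :
    ∃ t₁ t₂ t₄ : ℤ, (t₁, t₂, t₄) ∈ L8 ∧ bc 3 (adj V F) g = t₁ ∧ bc 3 (adj V F) (g ^ 2) = t₂ ∧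
      bc 3 (adj V F) (g ^ 4) = t₄ ∧ (F g = 1 ↔ t₁ = 248) ∧ (F (g ^ 2) = 1 ↔ t₂ = 248) ∧
      (F (g ^ 4) = 1 ↔ t₄ = 248) := by
  obtain ⟨Y, ξ, h⟩ := exists_spec (V := V) F (N := 8) (by norm_num) (by norm_num) hg
  refine ⟨t8 1 Y, t8 2 Y, t8 4 Y, ?_, ?_, bc8 h 2, bc8 h 4, ?_, ord8 h 2, ord8 h 4⟩
  · have h1 := allAlc_spec th8 8 _ (by decide) check8 Y h.len h.alc
    have h2 : invB 8 3 R8 Y = true := invB_of (by norm_num) tab8 len8 h.frob
    rw [h2, cond_true, decide_eq_true_iff] at h1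
    exact h1
  · have := bc8 h 1
    rwa [pow_one] at this
  · have := ord8 h 1
    rwa [pow_one] at this

/-! ### order 5 and 11 -/

theorem sum_ind {N : ℕ} (d : ℕ) (Y : List ℕ) [NeZero N] :
    ((ms chevE8 8 (vecL N Y)).map fun a => if (d : ZMod N) * a = 0 then (1 : ℤ) else 0).sum =
      2 * (cnt N d 0 Y : ℤ) := by
  rw [sum_tab, cnt, sumH_eq]
  have h1 : ((R8.map fun r => bif Nat.beq ((d * dotN r Y) % N) 0 then 1 else 0).sum : ℕ) =
      ((R8.map fun r => ((bif Nat.beq ((d * dotN r Y) % N) 0 then 1 else 0 : ℕ) : ℤ)).sum) := by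
    induction R8 with
    | nil => simp
    | cons r L ih =>
      simp only [List.map_cons, List.sum_cons, ← ih]
      push_cast
      rfl
  rw [h1, ← List.sum_map_mul_left]
  congr 1
  refine List.map_congr_left fun r _ => ?_
  simp only [mul_neg, neg_eq_zero, ← Nat.cast_mul]
  by_cases h : ((d * dotN r Y : ℕ) : ZMod N) = 0
  · rw [if_pos h]
    rw [ZMod.natCast_eq_zero_iff] at h
    have h2 : Nat.beq (d * dotN r Y % N) 0 = true := by rw [Nat.mod_eq_zero_of_dvd h]; rfl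
    rw [h2]
    rfl
  · rw [if_neg h]
    rw [ZMod.natCast_eq_zero_iff] at h
    have h2 : Nat.beq (d * dotN r Y % N) 0 = false := by
      rw [Bool.eq_false_iff]
      intro h3
      exact h (Nat.dvd_of_mod_eq_zero (Nat.eq_of_beq_eq_true h3))
    rw [h2]
    rfl

theorem sum_ind_iff {N : ℕ} [NeZero N] (m : Multiset (ZMod N)) (d : ZMod N) :
    (m.map fun a => if d * a = 0 then (1 : ℤ) else 0).sum = (m.card : ℤ) ↔ ∀ a ∈ m, d * a = 0 := by
  have hsum : ∀ m : Multiset (ZMod N), (m.map fun a => if d * a = 0 then (1 : ℤ) else 0).sum ≤ (m.card : ℤ) := by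
    intro m
    induction m using Multiset.induction_on with
    | empty => simp only [_root_.Multiset.map_zero, _root_.Multiset.sum_zero, _root_.Multiset.card_zero, _root_.CharP.cast_eq_zero, _root_.Std.le_refl]
    | cons a s ih =>
      rw [Multiset.map_cons, Multiset.sum_cons, Multiset.card_cons]
      push_cast
      split_ifs <;> omega
  induction m using Multiset.induction_on with
  | empty => simp only [_root_.Multiset.map_zero, _root_.Multiset.sum_zero, _root_.Multiset.card_zero, _root_.CharP.cast_eq_zero, _root_.Multiset.notMem_zero, _root_.IsEmpty.forall_iff, _root_.implies_true]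
  | cons a s ih =>
    rw [Multiset.map_cons, Multiset.sum_cons, Multiset.card_cons]
    have h2 := hsum s
    constructor
    · intro h b hb
      push_cast at h
      have h3 : d * a = 0 := by
        by_contra h3
        rw [if_neg h3] at h
        omega
      rw [if_pos h3] at h
      rcases Multiset.mem_cons.1 hb with rfl | hb
      · exact h3
      · exact ih.1 (by omega) b hb
    · intro h
      have h3 := ih.2 fun b hb => h b (Multiset.mem_cons_of_mem hb)
      rw [h3, if_pos (h a (Multiset.mem_cons_self a s))]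
      push_cast
      omega

/-- sums of powers of a primitive `N`-th root of unity over an invariant multiset, `N` prime -/
theorem sum_prime {N : ℕ} [hN : Fact N.Prime] {ξ : ℂ} (hξ : IsPrimitiveRoot ξ N)
    {m : Multiset (ZMod N)} (hus : ∀ u : ZMod N, u ≠ 0 → m = m.map (fun a => u * a)) :
    ((N : ℂ) - 1) * (m.map fun a => ξ ^ a.val).sum =
      (N : ℂ) * (((m.map fun a => if a = 0 then (1 : ℤ) else 0).sum : ℤ) : ℂ) - m.card := by
  classical
  have h0 : ∑ w : ZMod N, ξ ^ w.val = 0 := by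
    rw [← hξ.geom_sum_eq_zero hN.out.one_lt]
    refine Finset.sum_bij (fun w _ => w.val) (fun w _ => Finset.mem_range.2 (ZMod.val_lt w))
      (fun a _ b _ h => ZMod.val_injective N h) (fun b hb => ⟨(b : ZMod N), Finset.mem_univ _, ?_⟩) (fun _ _ => rfl)
    rw [ZMod.val_natCast, Nat.mod_eq_of_lt (Finset.mem_range.1 hb)]
  have hpt : ∀ a : ZMod N, ∑ u ∈ Finset.univ.erase (0 : ZMod N), ξ ^ (u * a).val =
      (N : ℂ) * (if a = 0 then 1 else 0) - 1 := by
    intro a
    by_cases ha : a = 0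
    · subst ha
      simp only [mul_zero, ZMod.val_zero, pow_zero, Finset.sum_const, Finset.card_erase_of_mem (Finset.mem_univ _),
        Finset.card_univ, ZMod.card, if_true, nsmul_eq_mul, mul_one]
      rw [Nat.cast_sub hN.out.one_lt.le, Nat.cast_one]
    · rw [if_neg ha, mul_zero, zero_sub]
      have h1 : ∑ u : ZMod N, ξ ^ (u * a).val = 0 := by
        rw [← h0]
        exact Equiv.sum_comp (Equiv.mulRight₀ a ha) (fun w : ZMod N => ξ ^ w.val)
      rw [← Finset.add_sum_erase _ _ (Finset.mem_univ (0 : ZMod N)), zero_mul, ZMod.val_zero, pow_zero] at h1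
      linear_combination h1
  have key : (∑ _u ∈ Finset.univ.erase (0 : ZMod N), (1 : ℂ)) * (m.map fun a => ξ ^ a.val).sum =
      (m.map fun a => ∑ u ∈ Finset.univ.erase (0 : ZMod N), ξ ^ (u * a).val).sum := by
    have h2 : ∀ S : Finset (ZMod N), (∀ u ∈ S, u ≠ 0) → (∑ _u ∈ S, (1 : ℂ)) * (m.map fun a => ξ ^ a.val).sum =
        (m.map fun a => ∑ u ∈ S, ξ ^ (u * a).val).sum := by
      intro S
      induction S using Finset.induction_on with
      | empty => simp
      | insert u S hu ih =>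
        intro h
        simp only [Finset.sum_insert hu, Multiset.sum_map_add]
        rw [← ih fun w hw => h w (Finset.mem_insert_of_mem hw), add_mul, one_mul]
        congr 1
        conv_lhs => rw [hus u (h u (Finset.mem_insert_self u S)), Multiset.map_map]
        rfl
    exact h2 _ fun u hu => (Finset.mem_erase.1 hu).1
  rw [Finset.sum_const, Finset.card_erase_of_mem (Finset.mem_univ _), Finset.card_univ, ZMod.card, nsmul_eq_mul,
    mul_one, Nat.cast_sub hN.out.one_lt.le, Nat.cast_one] at key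
  rw [key]
  simp only [hpt]
  rw [Multiset.sum_map_sub, Multiset.sum_map_mul_left]
  congr 1
  · congr 1
    have h11 := map_multiset_sum (Int.castRingHom ℂ) (m.map fun a => if a = 0 then (1 : ℤ) else 0)
    rw [Multiset.map_map] at h11
    refine Eq.trans ?_ h11.symm
    congr 1
    refine Multiset.map_congr rfl fun a _ => ?_
    simp only [Function.comp_apply]
    split_ifs <;> simp
  · simp

/-- the values at the elements of prime order `N`, if the multiset is invariant under all units -/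
theorem bc_prime {N : ℕ} [hN : Fact N.Prime] {V : ValuationSubring ℂ} [CharP (ResidueField V) 3] {G : Type*} [Group G]
    {F : G →* ↥(chevE8.group (ZMod 3))} {g : G} {Y : List ℕ} {ξ : ℂ} (h : Spec V F g N Y ξ)
    (hus : ∀ u : ZMod N, u ≠ 0 → ms chevE8 8 (vecL N Y) = (ms chevE8 8 (vecL N Y)).map (fun a => u * a))
    {d : ℕ} (hd : ¬ N ∣ d) :
    ((N : ℂ) - 1) * bc 3 (adj V F) (g ^ d) = 8 * ((N : ℂ) - 1) + 2 * N * (cnt N 1 0 Y : ℂ) - 240 := by
  rw [h.bc]
  have hd' : (d : ZMod N) ≠ 0 := by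
    rw [Ne, ZMod.natCast_eq_zero_iff]
    exact hd
  have e1 : (ms chevE8 8 (vecL N Y)).map (fun a => ξ ^ (((d : ZMod N) * a).val)) =
      (ms chevE8 8 (vecL N Y)).map fun a => ξ ^ a.val := by
    conv_rhs => rw [hus _ hd', Multiset.map_map]
    rfl
  have e6 := sum_prime h.prim hus
  have e7 : ((ms chevE8 8 (vecL N Y)).map fun a => if a = 0 then (1 : ℤ) else 0).sum = 2 * (cnt N 1 0 Y : ℤ) := by
    rw [← sum_ind 1 Y]
    congr 1
    refine Multiset.map_congr rfl fun a _ => ?_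
    simp only [Nat.cast_one, one_mul]
  rw [e1, mul_add, e6, e7, card_ms]
  push_cast
  ring

theorem ord_prime {N : ℕ} [hN : Fact N.Prime] {V : ValuationSubring ℂ} [CharP (ResidueField V) 3] {G : Type*} [Group G]
    {F : G →* ↥(chevE8.group (ZMod 3))} {g : G} {Y : List ℕ} {ξ : ℂ} (h : Spec V F g N Y ξ) :
    F g = 1 ↔ cnt N 1 0 Y = 120 := by
  have e1 := h.ord 1
  rw [pow_one] at e1
  rw [e1, ← sum_ind_iff, card_ms]
  have e2 := sum_ind (N := N) 1 Y
  rw [e2]
  omega

theorem check5 : allAlc th8 5 (fun Y => bif invB 5 3 R8 Y then decide (cnt 5 1 0 Y ∈ [20, 22, 30, 120]) else true) =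
    true := by
  (first | (rewrite [Cfsg.Agent.KOe326d2a.e4, Cfsg.Agent.KOe326d2a.e5.{1}, Cfsg.Agent.KOe326d2a.e10, Cfsg.Agent.KOe326d2a.e11, Cfsg.Agent.KOe326d2a.e14.{0}, Cfsg.Agent.KOe326d2a.e20]; decide +kernel) | decide +kernel)

theorem check11 : allAlc th8 11 (fun Y => bif invB 11 3 R8 Y then decide (cnt 11 1 0 Y ∈ [10, 120]) else true) =
    true := by
  (first | (rewrite [Cfsg.Agent.KOe326d2a.e4, Cfsg.Agent.KOe326d2a.e5.{1}, Cfsg.Agent.KOe326d2a.e10, Cfsg.Agent.KOe326d2a.e11, Cfsg.Agent.KOe326d2a.e14.{0}, Cfsg.Agent.KOe326d2a.e20]; decide +kernel) | decide +kernel)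

theorem map_mul_mul {N : ℕ} {m : Multiset (ZMod N)} {u w : ZMod N} (hu : m = m.map (fun a => u * a))
    (hw : m = m.map (fun a => w * a)) : m = m.map (fun a => (u * w) * a) := by
  conv_lhs => rw [hu, hw, Multiset.map_map]
  refine Multiset.map_congr rfl fun a _ => ?_
  simp only [Function.comp_apply, mul_assoc]

theorem map_mul_pow {N : ℕ} {m : Multiset (ZMod N)} {u : ZMod N} (hu : m = m.map (fun a => u * a)) (k : ℕ) :
    m = m.map (fun a => u ^ k * a) := by
  induction k with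
  | zero => simp
  | succ k ih =>
    rw [pow_succ]
    exact map_mul_mul ih hu

theorem gen5 : ∀ u : ZMod 5, u ≠ 0 → ∃ k < 4, u = (3 : ZMod 5) ^ k := by decide

theorem gen11 : ∀ u : ZMod 11, u ≠ 0 → ∃ k < 5, ∃ j < 2, u = (3 : ZMod 11) ^ k * (-1) ^ j := by decide

/-- **Elements of order dividing 5.** -/
theorem val5 (V : ValuationSubring ℂ) [CharP (ResidueField V) 3] {G : Type*} [Group G]
    (F : G →* ↥(chevE8.group (ZMod 3))) {g : G} (hg : g ^ 5 = 1) :
    ∃ t : ℤ, (t = -2 ∨ t = 3 ∨ t = 23 ∨ t = 248) ∧ (∀ d : ℕ, ¬ 5 ∣ d → bc 3 (adj V F) (g ^ d) = t) ∧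
      (F g = 1 ↔ t = 248) := by
  have : Fact (Nat.Prime 5) := ⟨Nat.prime_five⟩
  obtain ⟨Y, ξ, h⟩ := exists_spec (V := V) F (N := 5) (by norm_num) (by norm_num) hg
  have h1 := allAlc_spec th8 5 _ (by decide) check5 Y h.len h.alc
  have h2 : invB 5 3 R8 Y = true := invB_of (by norm_num) tab8 len8 h.frob
  rw [h2, cond_true, decide_eq_true_iff] at h1
  have hus : ∀ u : ZMod 5, u ≠ 0 → ms chevE8 8 (vecL 5 Y) = (ms chevE8 8 (vecL 5 Y)).map (fun a => u * a) := by
    intro u hu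
    obtain ⟨k, -, hk⟩ := gen5 u hu
    rw [hk]
    exact map_mul_pow h.frob k
  have hval : ∀ d : ℕ, ¬ 5 ∣ d → 4 * bc 3 (adj V F) (g ^ d) = 10 * (cnt 5 1 0 Y : ℂ) - 208 := by
    intro d hd
    have := bc_prime h hus hd
    push_cast at this
    linear_combination this
  have hcard := ord_prime h
  simp only [List.mem_cons, List.not_mem_nil, or_false] at h1
  rcases h1 with h1 | h1 | h1 | h1
  · refine ⟨-2, by simp, fun d hd => ?_, ?_⟩
    · have := hval d hd
      rw [h1] at this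
      push_cast at this ⊢
      linear_combination this / 4
    · rw [hcard, h1]; omega
  · refine ⟨3, by simp, fun d hd => ?_, ?_⟩
    · have := hval d hd
      rw [h1] at this
      push_cast at this ⊢
      linear_combination this / 4
    · rw [hcard, h1]; omega
  · refine ⟨23, by simp, fun d hd => ?_, ?_⟩
    · have := hval d hd
      rw [h1] at this
      push_cast at this ⊢
      linear_combination this / 4
    · rw [hcard, h1]; omega
  · refine ⟨248, by simp, fun d hd => ?_, ?_⟩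
    · have := hval d hd
      rw [h1] at this
      push_cast at this ⊢
      linear_combination this / 4
    · rw [hcard, h1]; omega

/-- **Elements of order 11.** -/
theorem val11 (V : ValuationSubring ℂ) [CharP (ResidueField V) 3] {G : Type*} [Group G]
    (F : G →* ↥(chevE8.group (ZMod 3))) {g : G} (hg : g ^ 11 = 1) (hne : F g ≠ 1) {d : ℕ} (hd : ¬ 11 ∣ d) :
    bc 3 (adj V F) (g ^ d) = 6 := by
  have : Fact (Nat.Prime 11) := ⟨by norm_num⟩
  obtain ⟨Y, ξ, h⟩ := exists_spec (V := V) F (N := 11) (by norm_num) (by norm_num) hg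
  have h1 := allAlc_spec th8 11 _ (by decide) check11 Y h.len h.alc
  have h2 : invB 11 3 R8 Y = true := invB_of (by norm_num) tab8 len8 h.frob
  rw [h2, cond_true, decide_eq_true_iff] at h1
  have hcard := ord_prime h
  simp only [List.mem_cons, List.not_mem_nil, or_false] at h1
  have h1' : cnt 11 1 0 Y = 10 := h1.resolve_right fun h3 => hne (hcard.2 h3)
  have hn : (ms chevE8 8 (vecL 11 Y)) = (ms chevE8 8 (vecL 11 Y)).map (fun a => (-1 : ZMod 11) * a) := by
    conv_lhs => rw [ms_neg]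
    refine Multiset.map_congr rfl fun a _ => ?_
    rw [neg_one_mul]
  have hus : ∀ u : ZMod 11, u ≠ 0 → ms chevE8 8 (vecL 11 Y) = (ms chevE8 8 (vecL 11 Y)).map (fun a => u * a) := by
    intro u hu
    obtain ⟨k, -, j, -, hk⟩ := gen11 u hu
    rw [hk]
    exact map_mul_mul (map_mul_pow h.frob k) (map_mul_pow hn j)
  have := bc_prime h hus hd
  rw [h1'] at this
  push_cast at this
  linear_combination this / 10

end Cfsg.Agent.H942.E8Val

private theorem dce_9bdc6f642f2b : _root_.True := by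
  try have : _root_.True := by simp only [_root_.Cfsg.Agent.H657.bc.congr_simp]
  try have : _root_.True := by simp only [_root_.Cfsg.Agent.H942.E8Val.cnt.eq_1]
  try have : _root_.True := by simp only [_root_.Cfsg.Agent.H942.E8Alc.adj.congr_simp]
  try have : _root_.True := by simp only [_root_.Cfsg.Agent.H942.E8Val.t8.eq_1]
  exact _root_.True.intro
end
end
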