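import Mathlib
import Cfsg.Agent.H942.E8Val
import Cfsg.Agent.H597.BrInv
import Cfsg.Agent.Blocks.ExistsModular
import Cfsg.Agent.FastGrp
import Cfsg.Agent.Prune
set_option linter.all false

section
prune_inst 0x7f00000000000000000000000000000000000000000000000000000000000000000000000000000000000000000000000000000000000000000000000000000000000000000000000000000000000000003fffffffffffffffffffffffffffbeffbdffffffff

-- part: H942/Common
section
set_option linter.all false
open scoped Cfsg.Agent.FastGrp

-- part: H942/Enum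
section
/-!
# Finite subgroups given by a table of right multiplication by generators
-/

set_option autoImplicit false

namespace Cfsg.Agent.H942.Enum

variable {Q : Type*} [Group Q]

/-- A finite subset `e 0, ..., e (n-1)` of a group closed under right multiplication by the generators `s j`. -/
structure Table (n m : ℕ) (e s : ℕ → Q) (t : ℕ → ℕ → ℕ) : Prop where
  pos : 0 < n
  one : e 0 = 1
  lt : ∀ i < n, ∀ j < m, t i j < n
  mul : ∀ i < n, ∀ j < m, e i * s j = e (t i j)
  inj : ∀ j < m, ∀ i < n, ∀ i' < n, t i j = t i' j → i = i'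
  par : ∀ i < n, i ≠ 0 → ∃ i' < i, ∃ j < m, t i' j = i
  ne : ∀ i < n, i ≠ 0 → e i ≠ 1

variable {n m : ℕ} {e s : ℕ → Q} {t : ℕ → ℕ → ℕ}

theorem Table.surj (h : Table n m e s t) {j : ℕ} (hj : j < m) {i : ℕ} (hi : i < n) : ∃ i' < n, t i' j = i := by
  let f : Fin n → Fin n := fun i => ⟨t i j, h.lt i i.2 j hj⟩
  have hf : Function.Injective f := fun a b hab => Fin.ext (h.inj j hj a a.2 b b.2 (Fin.ext_iff.1 hab))
  obtain ⟨i', hi'⟩ := (Finite.injective_iff_surjective.1 hf) ⟨i, hi⟩
  exact ⟨i', i'.2, Fin.ext_iff.1 hi'⟩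

theorem Table.injOn (h : Table n m e s t) : ∀ j < n, ∀ i < n, e i = e j → i = j := by
  intro j
  induction j using Nat.strong_induction_on with
  | _ j ih =>
    intro hj i hi hij
    by_cases hj0 : j = 0
    · subst hj0
      by_contra hne
      exact h.ne i hi hne (hij.trans h.one)
    · obtain ⟨j', hj'j, g, hg, hgj⟩ := h.par j hj hj0
      obtain ⟨i', hi', hgi⟩ := h.surj hg hi
      have h1 := h.mul i' hi' g hg
      have h2 := h.mul j' (hj'j.trans hj) g hg
      rw [hgi, hij] at h1
      rw [hgj] at h2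
      have h3 := ih j' hj'j (hj'j.trans hj) i' hi' (mul_right_cancel (h1.trans h2.symm))
      rw [← hgi, ← hgj, h3]

theorem Table.mul_mem (h : Table n m e s t) : ∀ j < n, ∀ i < n, ∃ k < n, e i * e j = e k := by
  intro j
  induction j using Nat.strong_induction_on with
  | _ j ih =>
    intro hj i hi
    by_cases hj0 : j = 0
    · subst hj0
      exact ⟨i, hi, by rw [h.one, mul_one]⟩
    · obtain ⟨j', hj'j, g, hg, hgj⟩ := h.par j hj hj0
      obtain ⟨k, hk, hk'⟩ := ih j' hj'j (hj'j.trans hj) i hi
      refine ⟨t k g, h.lt k hk g hg, ?_⟩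
      rw [← h.mul k hk g hg, ← hk', ← hgj, ← h.mul j' (hj'j.trans hj) g hg, mul_assoc]

theorem Table.inv_mem (h : Table n m e s t) {i : ℕ} (hi : i < n) : ∃ k < n, (e i)⁻¹ = e k := by
  choose f hf hf' using fun j : Fin n => h.mul_mem i hi j j.2
  let F : Fin n → Fin n := fun j => ⟨f j, hf j⟩
  have hF : Function.Injective F := by
    intro a b hab
    have h1 : f a = f b := Fin.ext_iff.1 hab
    have h2 : e a * e i = e b * e i := by rw [hf', hf', h1]
    exact Fin.ext (h.injOn b b.2 a a.2 (mul_right_cancel h2))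
  obtain ⟨k, hk⟩ := (Finite.injective_iff_surjective.1 hF) ⟨0, h.pos⟩
  refine ⟨k, k.2, ?_⟩
  have h1 := hf' k
  have h2 : f k = 0 := Fin.ext_iff.1 hk
  rw [h2, h.one] at h1
  exact (eq_inv_of_mul_eq_one_left h1).symm

/-- the table of the subgroup given by the first `n'` elements and the first `m'` generators -/
theorem Table.restrict (h : Table n m e s t) {n' m' : ℕ} (hn' : 0 < n') (hn : n' ≤ n) (hm : m' ≤ m)
    (hlt : ∀ i < n', ∀ j < m', t i j < n') (hpar : ∀ i < n', i ≠ 0 → ∃ i' < i, ∃ j < m', t i' j = i) :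
    Table n' m' e s t where
  pos := hn'
  one := h.one
  lt := hlt
  mul i hi j hj := h.mul i (by omega) j (by omega)
  inj j hj i hi i' hi' := h.inj j (by omega) i (by omega) i' (by omega)
  par := hpar
  ne i hi := h.ne i (by omega)

/-- the subgroup with the elements `e 0, ..., e (n-1)` -/
def Table.grp (h : Table n m e s t) : Subgroup Q where
  carrier := {g | ∃ i < n, g = e i}
  one_mem' := ⟨0, h.pos, h.one.symm⟩
  mul_mem' := by
    rintro _ _ ⟨i, hi, rfl⟩ ⟨j, hj, rfl⟩
    exact h.mul_mem j hj i hi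
  inv_mem' := by
    rintro _ ⟨i, hi, rfl⟩
    exact h.inv_mem hi

/-- the elements are indexed by `Fin n` -/
noncomputable def Table.equiv (h : Table n m e s t) : Fin n ≃ h.grp :=
  Equiv.ofBijective (fun i => ⟨e i, i, i.2, rfl⟩) ⟨fun a b hab => Fin.ext
    (h.injOn b b.2 a a.2 (Subtype.ext_iff.1 hab)), by
      rintro ⟨_, i, hi, rfl⟩
      exact ⟨⟨i, hi⟩, rfl⟩⟩

theorem Table.card (h : Table n m e s t) : Nat.card h.grp = n := by
  rw [← Nat.card_congr h.equiv, Nat.card_eq_fintype_card, Fintype.card_fin]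

theorem Table.finite (h : Table n m e s t) : Finite h.grp := Finite.of_equiv _ h.equiv

theorem Table.sum (h : Table n m e s t) [Fintype h.grp] {A : Type*} [AddCommMonoid A] (φ : Q → A) :
    ∑ g : h.grp, φ g = ∑ i ∈ Finset.range n, φ (e i) := by
  rw [← h.equiv.sum_comp, Finset.sum_range]
  rfl

end Cfsg.Agent.H942.Enum
end

-- part: H942/Pool
section
/-!
# Computations in a group modulo its centre with data representing the elements
-/

set_option autoImplicit false

namespace Cfsg.Agent.H942.Pool

open Cfsg.Agent.H942.Enum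

/-- Elements of a group `Γ` represented by data of type `α`. -/
structure Sys (Γ : Type*) [Group Γ] (α : Type) where
  mul : α → α → α
  beq : α → α → Bool
  eqv : α → α → Bool
  R : Γ → α → Prop
  R_mul : ∀ {g h : Γ} {a b : α}, R g a → R h b → R (g * h) (mul a b)
  beq_eq : ∀ {a b : α}, beq a b = true → a = b
  R_eqv : ∀ {g h : Γ} {a b : α}, R g a → R h b → eqv a b = true →
    (QuotientGroup.mk g : Γ ⧸ Subgroup.center Γ) = QuotientGroup.mk h
  R_inj : ∀ {g h : Γ} {a : α}, R g a → R h a → g = h

variable {Γ : Type*} [Group Γ] {α : Type} (S : Sys Γ α)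

/-- the check of the table of a finite subgroup modulo the centre: `E` the elements, `G` the generators, `T` the rows of the
table, `par` the parents, `W` a list of witnesses for noncentrality -/
def chkTab (mul : α → α → α) (beq eqv : α → α → Bool) (dflt : α) (E G : List α) (T : List (List ℕ))
    (par : List (ℕ × ℕ)) : Bool :=
  (List.range E.length).all (fun i => (List.range G.length).all fun j =>
    let k := (T.getD i []).getD j 0
    decide (k < E.length) && eqv (mul (E.getD i dflt) (G.getD j dflt)) (E.getD k dflt)) &&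
  (List.range (E.length - 1)).all (fun i =>
    let p := par.getD i (0, 0)
    decide (p.1 ≤ i) && decide (p.2 < G.length) && Nat.beq ((T.getD p.1 []).getD p.2 0) (i + 1) &&
      beq (mul (E.getD p.1 dflt) (G.getD p.2 dflt)) (E.getD (i + 1) dflt)) &&
  (List.range G.length).all (fun j => decide ((List.range E.length).map fun i => (T.getD i []).getD j 0).Nodup)

/-- noncentrality: every element but the first fails to commute with a witness -/
def chkNe (mul : α → α → α) (beq : α → α → Bool) (dflt : α) (E W : List α) : Bool :=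
  (List.range (E.length - 1)).all fun i =>
    W.any fun w => !(beq (mul (E.getD (i + 1) dflt) w) (mul w (E.getD (i + 1) dflt)))

theorem exists_table {dflt : α} {E G W : List α} {T : List (List ℕ)} {par : List (ℕ × ℕ)}
    (beq_refl : ∀ a, S.beq a a = true)
    (Runi : ∀ {g : Γ} {a b : α}, S.R g a → S.R g b → (∃ a' b', S.mul a' b' = a) → (∃ a' b', S.mul a' b' = b) → a = b)
    (gen : ℕ → Γ) (hgen : ∀ i < G.length, S.R (gen i) (G.getD i dflt))
    (wit : ℕ → Γ) (hwit : ∀ i < W.length, S.R (wit i) (W.getD i dflt))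
    (h1 : S.R 1 (E.getD 0 dflt)) (hpos : 0 < E.length)
    (hc : chkTab S.mul S.beq S.eqv dflt E G T par = true)
    (hne : chkNe S.mul S.beq dflt E W = true) :
    ∃ e : ℕ → Γ, (∀ i < E.length, S.R (e i) (E.getD i dflt)) ∧
      Table E.length G.length (fun i => (QuotientGroup.mk (e i) : Γ ⧸ Subgroup.center Γ))
        (fun j => QuotientGroup.mk (gen j)) (fun i j => (T.getD i []).getD j 0) := by
  classical
  rw [chkTab, Bool.and_eq_true, Bool.and_eq_true, List.all_eq_true, List.all_eq_true, List.all_eq_true] at hc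
  obtain ⟨⟨hc1, hc2⟩, hc3⟩ := hc
  have key : ∀ i < E.length, ∃ g : Γ, S.R g (E.getD i dflt) := by
    intro i
    induction i using Nat.strong_induction_on with
    | _ i ih =>
      intro hi
      cases i with
      | zero => exact ⟨1, h1⟩
      | succ i =>
        have h2 := hc2 i (by rw [List.mem_range]; omega)
        simp only [Bool.and_eq_true, decide_eq_true_iff] at h2
        obtain ⟨g, hg⟩ := ih (par.getD i (0, 0)).1 (by omega) (by omega)
        exact ⟨g * gen (par.getD i (0, 0)).2, by
          rw [← S.beq_eq h2.2]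
          exact S.R_mul hg (hgen _ h2.1.1.2)⟩
  let e : ℕ → Γ := fun i => if h : i = 0 then 1 else if h : i < E.length then (key i h).choose else 1
  have he : ∀ i < E.length, S.R (e i) (E.getD i dflt) := by
    intro i hi
    by_cases h0 : i = 0
    · subst h0
      show S.R (if h : 0 = 0 then 1 else _) _
      simpa using h1
    · show S.R (if h : i = 0 then 1 else if h : i < E.length then (key i h).choose else 1) _
      simp only [dif_neg h0, dif_pos hi]
      exact (key i hi).choose_spec
  have he0 : e 0 = 1 := by simp [e]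
  refine ⟨e, he, ?_⟩
  have hlt : ∀ i < E.length, ∀ j < G.length, (T.getD i []).getD j 0 < E.length ∧
      S.eqv (S.mul (E.getD i dflt) (G.getD j dflt)) (E.getD ((T.getD i []).getD j 0) dflt) = true := by
    intro i hi j hj
    have h2 := hc1 i (List.mem_range.2 hi)
    rw [List.all_eq_true] at h2
    have h3 := h2 j (List.mem_range.2 hj)
    simp only [Bool.and_eq_true, decide_eq_true_iff] at h3
    exact h3
  constructor
  · exact hpos
  · show (QuotientGroup.mk (e 0) : Γ ⧸ Subgroup.center Γ) = 1
    rw [he0]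
    rfl
  · exact fun i hi j hj => (hlt i hi j hj).1
  · intro i hi j hj
    have h2 := hlt i hi j hj
    have h3 := S.R_eqv (S.R_mul (he i hi) (hgen j hj)) (he _ h2.1) h2.2
    rw [← h3]
    rfl
  · intro j hj i hi i' hi' hii
    have h2 := hc3 j (List.mem_range.2 hj)
    rw [decide_eq_true_iff] at h2
    have h3 := List.nodup_iff_injective_get.1 h2
    have hl : ((List.range E.length).map fun i => (T.getD i []).getD j 0).length = E.length := by simp
    have h4 := @h3 ⟨i, by rw [hl]; exact hi⟩ ⟨i', by rw [hl]; exact hi'⟩ (by simpa using hii)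
    simpa using h4
  · intro i hi h0
    cases i with
    | zero => exact absurd rfl h0
    | succ i =>
      have h2 := hc2 i (by rw [List.mem_range]; omega)
      simp only [Bool.and_eq_true, decide_eq_true_iff] at h2
      exact ⟨(par.getD i (0, 0)).1, by omega, (par.getD i (0, 0)).2, h2.1.1.2, Nat.eq_of_beq_eq_true h2.1.2⟩
  · intro i hi h0 hcon
    rw [chkNe, List.all_eq_true] at hne
    cases i with
    | zero => exact absurd rfl h0
    | succ i =>
      have h2 := hne i (by rw [List.mem_range]; omega)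
      rw [List.any_eq_true] at h2
      obtain ⟨w, hw, hw'⟩ := h2
      obtain ⟨k, hk, rfl⟩ := List.mem_iff_getElem.1 hw
      have h3 := hwit k hk
      rw [List.getD_eq_getElem _ _ hk] at h3
      have h4 : e (i + 1) ∈ Subgroup.center Γ := (QuotientGroup.eq_one_iff _).1 hcon
      have h5 : e (i + 1) * wit k = wit k * e (i + 1) := (Subgroup.mem_center_iff.1 h4 (wit k)).symm
      have h6 := S.R_mul (he _ hi) h3
      have h7 := S.R_mul h3 (he _ hi)
      rw [h5] at h6
      have h8 := Runi h6 h7 ⟨_, _, rfl⟩ ⟨_, _, rfl⟩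
      rw [h8, beq_refl] at hw'
      simp at hw'

end Cfsg.Agent.H942.Pool
end

-- part: H942/Forest
section
/-!
# Conjugacy classes by chains of conjugations with given elements
-/

set_option autoImplicit false

namespace Cfsg.Agent.H942.Forest

open Cfsg.Agent.H942.Enum Cfsg.Agent.H942.Pool

variable {Γ : Type*} [Group Γ] {α : Type} (S : Sys Γ α)

/-- every entry from the `r`-th on is a conjugate of an earlier one by a member of `B`; `B'` are the inverses -/
def chkForest (mul : α → α → α) (beq : α → α → Bool) (dflt : α) (B B' : List α) (r : ℕ) (Fo : List α)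
    (par : List (ℕ × ℕ)) (root : List ℕ) : Bool :=
  (List.range r).all (fun i => Nat.beq (root.getD i 0) i) &&
  (List.range (Fo.length - r)).all fun i =>
    let p := par.getD i (0, 0)
    Nat.blt p.1 B.length && Nat.blt p.2 (r + i) &&
      beq (mul (mul (B'.getD p.1 dflt) (Fo.getD p.2 dflt)) (B.getD p.1 dflt)) (Fo.getD (r + i) dflt) &&
      Nat.beq (root.getD p.2 0) (root.getD (r + i) 0)

theorem exists_forest {dflt : α} {B B' : List α} {r : ℕ} {Fo : List α} {par : List (ℕ × ℕ)} {root : List ℕ}
    {b c : ℕ → Γ} (hb : ∀ i < B.length, S.R (b i) (B.getD i dflt))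
    (hb' : ∀ i < B.length, S.R (b i)⁻¹ (B'.getD i dflt))
    (hc : ∀ i < r, S.R (c i) (Fo.getD i dflt))
    (h : chkForest S.mul S.beq dflt B B' r Fo par root = true) :
    ∀ i < Fo.length, ∃ g h : Γ, S.R g (Fo.getD i dflt) ∧ root.getD i 0 < r ∧ g = h⁻¹ * c (root.getD i 0) * h := by
  rw [chkForest, Bool.and_eq_true, List.all_eq_true, List.all_eq_true] at h
  obtain ⟨h1, h2⟩ := h
  intro i
  induction i using Nat.strong_induction_on with
  | _ i ih =>
    intro hi
    by_cases hir : i < r
    · have h3 := Nat.eq_of_beq_eq_true (h1 i (List.mem_range.2 hir))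
      exact ⟨c i, 1, hc i hir, by rw [h3]; exact hir, by rw [h3]; simp⟩
    · obtain ⟨j, rfl⟩ : ∃ j, i = r + j := ⟨i - r, by omega⟩
      have h3 := h2 j (by rw [List.mem_range]; omega)
      simp only [Bool.and_eq_true, Nat.blt_eq] at h3
      obtain ⟨⟨⟨h4, h5⟩, h6⟩, h7⟩ := h3
      obtain ⟨g, x, hg, hlt, hgx⟩ := ih (par.getD j (0, 0)).2 h5 (by omega)
      have h8 := S.R_mul (S.R_mul (hb' _ h4) hg) (hb _ h4)
      rw [S.beq_eq h6] at h8
      refine ⟨_, x * b (par.getD j (0, 0)).1, h8, ?_, ?_⟩
      · rw [← Nat.eq_of_beq_eq_true h7]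
        exact hlt
      · rw [← Nat.eq_of_beq_eq_true h7, hgx]
        group

/-- the check that the members of `E` are equivalent to members of the forest -/
def chkIdx (eqv : α → α → Bool) (dflt : α) (E Fo : List α) (idx : List ℕ) : Bool :=
  (List.range E.length).all fun i =>
    Nat.blt (idx.getD i 0) Fo.length && eqv (E.getD i dflt) (Fo.getD (idx.getD i 0) dflt)

theorem val_of_forest {dflt : α} {E Fo : List α} {root idx : List ℕ} {r : ℕ} {e c : ℕ → Γ}
    {A : Type*} {φ : Γ ⧸ Subgroup.center Γ → A} (hφ : ∀ g h : Γ ⧸ Subgroup.center Γ, φ (h⁻¹ * g * h) = φ g)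
    (hF : ∀ i < Fo.length, ∃ g h : Γ, S.R g (Fo.getD i dflt) ∧ root.getD i 0 < r ∧ g = h⁻¹ * c (root.getD i 0) * h)
    (he : ∀ i < E.length, S.R (e i) (E.getD i dflt))
    (h : chkIdx S.eqv dflt E Fo idx = true) :
    ∀ i < E.length, root.getD (idx.getD i 0) 0 < r ∧
      φ (QuotientGroup.mk (e i)) = φ (QuotientGroup.mk (c (root.getD (idx.getD i 0) 0))) := by
  intro i hi
  rw [chkIdx, List.all_eq_true] at h
  have h1 := h i (List.mem_range.2 hi)
  simp only [Bool.and_eq_true, Nat.blt_eq] at h1
  obtain ⟨g, x, hg, hlt, hgx⟩ := hF _ h1.1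
  refine ⟨hlt, ?_⟩
  rw [S.R_eqv (he i hi) hg h1.2, hgx]
  exact hφ (QuotientGroup.mk (c (root.getD (idx.getD i 0) 0))) (QuotientGroup.mk x)

/-- the number of indices below `n` with `f i = k` -/
def cntK (n : ℕ) (f : ℕ → ℕ) (k : ℕ) : ℕ := ((List.range n).map fun i => bif Nat.beq (f i) k then 1 else 0).sum

theorem cntK_eq (n : ℕ) (f : ℕ → ℕ) (k : ℕ) : cntK n f k = ((Finset.range n).filter fun i => f i = k).card := by
  rw [cntK, Finset.card_filter]
  induction n with
  | zero => rfl
  | succ n ih =>
    rw [List.range_succ, List.map_append, List.sum_append, ih, Finset.sum_range_succ]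
    congr 1
    rw [List.map_singleton, List.sum_singleton]
    by_cases h : f n = k
    · rw [if_pos h, h]
      have : Nat.beq k k = true := Nat.beq_refl k
      rw [this, cond_true]
    · rw [if_neg h]
      have : Nat.beq (f n) k = false := by
        rw [Bool.eq_false_iff]
        exact fun h2 => h (Nat.eq_of_beq_eq_true h2)
      rw [this, cond_false]

theorem sum_of {A : Type*} [AddCommMonoid A] {n r : ℕ} {f : ℕ → ℕ} (hf : ∀ i < n, f i < r) (ψ : ℕ → A) :
    ∑ i ∈ Finset.range n, ψ (f i) = ∑ k ∈ Finset.range r, cntK n f k • ψ k := by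
  classical
  rw [← Finset.sum_fiberwise_of_maps_to (s := Finset.range n) (t := Finset.range r) (g := f)]
  · refine Finset.sum_congr rfl fun k _ => ?_
    rw [cntK_eq]
    rw [Finset.sum_congr rfl (g := fun _ => ψ k), Finset.sum_const]
    intro i hi
    rw [(Finset.mem_filter.1 hi).2]
  · intro i hi
    exact Finset.mem_range.2 (hf i (Finset.mem_range.1 hi))

end Cfsg.Agent.H942.Forest
end

-- part: H942/Common
section
/-!
# Sums of Brauer character values over subgroups given by tables
-/

set_option autoImplicit false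

namespace Cfsg.Agent.H942.Common

open Cfsg Cfsg.Lie Cfsg.Agent.H657 IsLocalRing Module
open Cfsg.Agent.H942.E8Alc Cfsg.Agent.H942.E8Val Cfsg.Agent.H942.Enum Cfsg.Agent.H942.Forest

variable {V : ValuationSubring ℂ} [CharP (ResidueField V) 3]

theorem exists_V : ∃ (M : Ideal AlgInt) (V : ValuationSubring ℂ), IsPModular 3 M ∧ Above M V ∧ CharP (ResidueField V) 3 := by
  have : Fact (Nat.Prime 3) := ⟨Nat.prime_three⟩
  obtain ⟨M, hM⟩ := Cfsg.Agent.Blocks.ExistsModular.exists_isPModular Nat.prime_three
  obtain ⟨V, hV⟩ := exists_above hM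
  exact ⟨M, V, hM, hV, hV.charP hM⟩

/-- the restriction to a subgroup -/
noncomputable abbrev res {Q : Type*} [Group Q] (F : Q →* ↥(chevE8.group (ZMod 3))) (P : Subgroup Q) :
    Representation (ResidueField V) P (chevE8.Idx → ResidueField V) :=
  adj V (F.comp P.subtype)

theorem bc_conj' {Q : Type*} [Group Q] (F : Q →* ↥(chevE8.group (ZMod 3))) (g h : Q) :
    bc 3 (adj V F) (h⁻¹ * g * h) = bc 3 (adj V F) g := by
  have := bc_conj 3 (adj V F) g h⁻¹
  rwa [inv_inv] at this

theorem sum_table {M : Ideal AlgInt} (hM : IsPModular 3 M) (hV : Above M V) {Q : Type*} [Group Q]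
    (F : Q →* ↥(chevE8.group (ZMod 3))) {n m : ℕ} {e s : ℕ → Q} {t : ℕ → ℕ → ℕ} (h : Table n m e s t)
    (hn : n.Coprime 3) :
    ∑ i ∈ Finset.range n, bc 3 (adj V F) (e i) =
      (n : ℂ) * (finrank (ResidueField V) (res (V := V) F h.grp).invariants : ℂ) := by
  classical
  have := h.finite
  have : Fintype h.grp := Fintype.ofFinite _
  have h1 := Cfsg.Agent.H597.BrInv.C hM hV (P := h.grp)
    (by rw [← Nat.card_eq_fintype_card, h.card]; exact hn) (res (V := V) F h.grp)
  rw [← Nat.card_eq_fintype_card, h.card] at h1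
  rw [← h1, ← h.sum (fun q => bc 3 (adj V F) q)]
  rfl

end Cfsg.Agent.H942.Common
end

private theorem dce_7dcdd6db9650 : _root_.True := by
  try have : _root_.True := by simp only [_root_.Cfsg.Agent.H942.Forest.cntK.eq_1]
  try have : _root_.True := by simp only [_root_.Cfsg.Agent.H942.Pool.chkNe.eq_1]
  try have : _root_.True := by simp only [_root_.Cfsg.Agent.H942.Forest.chkIdx.eq_1]
  try have : _root_.True := by simp only [_root_.Cfsg.Agent.H942.Pool.chkTab.eq_1]
  try have : _root_.True := by simp only [_root_.Cfsg.Agent.H942.Forest.chkForest.eq_1]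
  exact _root_.True.intro
end

-- part: H942/Core
section
set_option linter.all false
open scoped Cfsg.Agent.FastGrp

/-!
# Rank one idempotents of subgroups
-/

set_option autoImplicit false

namespace Cfsg.Agent.H942.Core

open Cfsg Cfsg.Lie Cfsg.Agent.H657 IsLocalRing Module
open Cfsg.Agent.H942.E8Alc Cfsg.Agent.H942.E8Val Cfsg.Agent.H942.Enum Cfsg.Agent.H942.Common

section table

variable {Q : Type*} [Group Q] {n m : ℕ} {e s : ℕ → Q} {t : ℕ → ℕ → ℕ}

theorem Tgen_mem (h : Table n m e s t) {j : ℕ} (hj : j < m) : s j ∈ h.grp := by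
  have h1 := h.mul 0 h.pos j hj
  rw [h.one, one_mul] at h1
  exact ⟨_, h.lt 0 h.pos j hj, h1⟩

theorem Te_mem (h : Table n m e s t) {i : ℕ} (hi : i < n) : e i ∈ h.grp := ⟨i, hi, rfl⟩

/-- conjugation by `p` preserves the subgroup if it does so for the generators -/
theorem conj_mem (h : Table n m e s t) {p : Q} (hp : ∀ j < m, ∃ k < n, s j * p = p * e k) {g : Q} (hg : g ∈ h.grp) :
    p⁻¹ * g * p ∈ h.grp := by
  obtain ⟨i, hi, rfl⟩ := hg
  induction i using Nat.strong_induction_on with
  | _ i ih =>
    by_cases h0 : i = 0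
    · subst h0
      rw [h.one, mul_one, inv_mul_cancel]
      exact one_mem _
    · obtain ⟨i', hi', j, hj, ht⟩ := h.par i hi h0
      obtain ⟨k, hk, hk'⟩ := hp j hj
      have h1 := ih i' hi' (by omega)
      have h2 := h.mul i' (by omega) j hj
      rw [ht] at h2
      have h3 : p⁻¹ * e i * p = (p⁻¹ * e i' * p) * e k := by
        rw [← h2]
        have h4 : e k = p⁻¹ * (s j * p) := by rw [hk']; group
        rw [h4]
        group
      rw [h3]
      exact mul_mem h1 ⟨k, hk, rfl⟩

variable {R : Type*} [Ring R] (ρ : Q →* R)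

/-- the sum of the elements of the subgroup -/
def su (ρ : Q →* R) (n : ℕ) (e : ℕ → Q) : R := ∑ i ∈ Finset.range n, ρ (e i)

theorem su_eq (h : Table n m e s t) [Fintype h.grp] : su ρ n e = ∑ g : h.grp, ρ g :=
  (h.sum (fun q => ρ q)).symm

theorem su_mul (h : Table n m e s t) {g : Q} (hg : g ∈ h.grp) : su ρ n e * ρ g = su ρ n e := by
  classical
  have := h.finite
  have : Fintype h.grp := Fintype.ofFinite _
  rw [su_eq ρ h, Finset.sum_mul]
  refine Fintype.sum_equiv (Equiv.mulRight (⟨g, hg⟩ : h.grp)) _ _ fun x => ?_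
  rw [Equiv.coe_mulRight, Subgroup.coe_mul, map_mul]

theorem mul_su (h : Table n m e s t) {g : Q} (hg : g ∈ h.grp) : ρ g * su ρ n e = su ρ n e := by
  classical
  have := h.finite
  have : Fintype h.grp := Fintype.ofFinite _
  rw [su_eq ρ h, Finset.mul_sum]
  refine Fintype.sum_equiv (Equiv.mulLeft (⟨g, hg⟩ : h.grp)) _ _ fun x => ?_
  rw [Equiv.coe_mulLeft, Subgroup.coe_mul, map_mul]

theorem su_comm (h : Table n m e s t) {p : Q} (hp : ∀ g ∈ h.grp, p⁻¹ * g * p ∈ h.grp) :
    su ρ n e * ρ p = ρ p * su ρ n e := by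
  classical
  have := h.finite
  have : Fintype h.grp := Fintype.ofFinite _
  rw [su_eq ρ h, Finset.mul_sum, Finset.sum_mul]
  let f : h.grp → h.grp := fun g => ⟨p⁻¹ * g * p, hp g g.2⟩
  have hf : Function.Injective f := by
    intro a b hab
    have h1 : p⁻¹ * (a : Q) * p = p⁻¹ * b * p := Subtype.ext_iff.1 hab
    exact Subtype.ext (mul_left_cancel (mul_right_cancel h1))
  refine Fintype.sum_bijective f (Finite.injective_iff_bijective.1 hf) _ _ fun x => ?_
  rw [← map_mul, ← map_mul]
  congr 1
  show (x : Q) * p = p * (p⁻¹ * x * p)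
  group

/-- product of the sums of a subgroup and a larger one -/
theorem su_mul_su (h : Table n m e s t) {e' : ℕ → Q} {n' : ℕ} (hsub : ∀ i < n', e' i ∈ h.grp) :
    su ρ n e * su ρ n' e' = (n' : R) * su ρ n e := by
  rw [su, su, Finset.mul_sum, Finset.sum_congr rfl (g := fun _ => su ρ n e)]
  · rw [Finset.sum_const, Finset.card_range, nsmul_eq_mul]
    rfl
  · intro i hi
    exact su_mul ρ h (hsub i (Finset.mem_range.1 hi))

end table

/-- operators of rank one -/
theorem rank_one {K W : Type*} [Field K] [AddCommGroup W] [Module K W] (a : Module.End K W) (I : Submodule K W)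
    (h1 : finrank K I = 1) (ha : ∀ w, a w ∈ I) (b : Module.End K W) : ∃ μ : K, a * b * a = μ • a := by
  obtain ⟨v, -, hv⟩ := finrank_eq_one_iff'.1 h1
  obtain ⟨μ, hμ⟩ := hv ⟨a (b v), ha _⟩
  refine ⟨μ, LinearMap.ext fun w => ?_⟩
  obtain ⟨c, hc⟩ := hv ⟨a w, ha w⟩
  have hc' : c • (v : W) = a w := Subtype.ext_iff.1 hc
  have hμ' : μ • (v : W) = a (b v) := Subtype.ext_iff.1 hμ
  show a (b (a w)) = μ • a w
  rw [← hc', map_smul, map_smul, ← hμ', smul_comm]

section theta

variable {Q : Type*} [Group Q] (F : Q →* ↥(chevE8.group (ZMod 3)))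

/-- the matrices -/
noncomputable def mat : Q →* Matrix chevE8.Idx chevE8.Idx (ZMod 3) :=
  (Units.coeHom _).comp ((chevE8.group (ZMod 3)).subtype.comp F)

/-- the trace over the field with three elements -/
noncomputable def theta (q : Q) : ZMod 3 := Matrix.trace (mat F q)

theorem theta_conj (g h : Q) : theta F (h⁻¹ * g * h) = theta F g := by
  unfold theta
  rw [map_mul, Matrix.trace_mul_comm, ← map_mul]
  congr 2
  group

theorem trace_adj (V : ValuationSubring ℂ) [CharP (ResidueField V) 3] (q : Q) :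
    LinearMap.trace (ResidueField V) _ (adj V F q) = algebraMap (ZMod 3) (ResidueField V) (theta F q) := by
  unfold adj
  rw [matRep_apply, Matrix.trace_toLin'_eq]
  exact (AddMonoidHom.map_trace (algebraMap (ZMod 3) (ResidueField V)).toAddMonoidHom _).symm

attribute [local instance] Above.isAlgClosed

theorem z16 : ((16 : ℕ) : ZMod 3) = 1 := by decide

theorem zcube : ∀ x : ZMod 3, x = x ^ 3 := by decide

theorem theta_eq (V : ValuationSubring ℂ) [CharP (ResidueField V) 3]
    {q : Q} (hq : ¬ 3 ∣ orderOf q) {t : ℤ} (h : bc 3 (adj V F) q = t) : theta F q = (t : ZMod 3) := by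
  obtain ⟨z, h1, h2⟩ := bc_spec (p := 3) (adj V F) hq
  have h3 : z = (t : V) := by
    apply Subtype.ext
    rw [← h1, h]
    push_cast
    rfl
  rw [h3, map_intCast, trace_adj] at h2
  have h4 : algebraMap (ZMod 3) (ResidueField V) ((t : ZMod 3)) = algebraMap (ZMod 3) (ResidueField V) (theta F q) := by
    rw [map_intCast, h2]
  exact ((algebraMap (ZMod 3) (ResidueField V)).injective h4).symm

/-- elements of order 3 modulo a subgroup of order 16 -/
theorem coset3 {e s : ℕ → Q} {t : ℕ → ℕ → ℕ} (h : Table 16 4 e s t) {p : Q}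
    (hp : ∀ g ∈ h.grp, p⁻¹ * g * p ∈ h.grp) (hp3 : p * p * p ∈ h.grp) :
    ∑ j ∈ Finset.range 16, theta F (e j * p) = ∑ j ∈ Finset.range 16, theta F (e j) := by
  have : Fact (Nat.Prime 3) := ⟨Nat.prime_three⟩
  have h1 : ∑ j ∈ Finset.range 16, theta F (e j * p) = Matrix.trace (su (mat F) 16 e * mat F p) := by
    rw [su, Finset.sum_mul, Matrix.trace_sum]
    refine Finset.sum_congr rfl fun j _ => ?_
    rw [← map_mul]
    rfl
  have h2 : ∑ j ∈ Finset.range 16, theta F (e j) = Matrix.trace (su (mat F) 16 e) := by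
    rw [su, Matrix.trace_sum]
    rfl
  rw [h1, h2]
  have hc := su_comm (mat F) h hp
  have hs := su_mul_su (mat F) h (e' := e) (n' := 16) fun i hi => Te_mem h hi
  have h16 : ((16 : ℕ) : Matrix chevE8.Idx chevE8.Idx (ZMod 3)) = 1 := by
    rw [← map_natCast (algebraMap (ZMod 3) (Matrix chevE8.Idx chevE8.Idx (ZMod 3))), z16, map_one]
  rw [h16, one_mul] at hs
  set a := su (mat F) 16 e with ha
  set b := mat F p with hb
  have h3 : (a * b) ^ 3 = a := by
    have e1 : (a * b) ^ 3 = a * (b * a) * (b * a) * b := by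
      rw [pow_succ, pow_two]
      simp only [mul_assoc]
    rw [e1, ← hc]
    have e2 : a * (a * b) * (a * b) * b = (a * a) * (b * a) * b * b := by simp only [mul_assoc]
    rw [e2, hs, ← hc]
    have e3 : a * (a * b) * b * b = (a * a) * (b * b * b) := by simp only [mul_assoc]
    rw [e3, hs, hb, ← map_mul, ← map_mul]
    exact su_mul (mat F) h hp3
  have h4 := ZMod.trace_pow_card (p := 3) (a * b)
  rw [h3] at h4
  rw [h4]
  exact zcube _

end theta

theorem alg_core {K W : Type*} [Field K] [AddCommGroup W] [Module K W] (h3 : (3 : K) = 0)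
    {a o X Y D : Module.End K W} {z1 z2 z3 : K} (hne : a ≠ 0) (hao : a * o = (64 : K) • a) (hdec : a = o * (1 + D))
    (hxc : o * X = X * o) (hy : D * (Y * a) = Y * a) (m1 : a * (X * Y) * a = z1 • a) (m2 : a * X * a = z2 • a)
    (m3 : a * Y * a = z3 • a) : z2 * z3 = 2 * z1 := by
  have e1 : a * (X * a) = (64 : K) • (a * (X * (1 + D))) := by
    have e0 : a * (X * a) = a * (X * (o * (1 + D))) := by rw [← hdec]
    rw [e0, ← mul_assoc X o, ← hxc, mul_assoc o, ← mul_assoc a o, hao, smul_mul_assoc]
  have e2 : a * (X * (1 + D)) * (Y * a) = (2 : K) • (a * (X * Y) * a) := by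
    have e3 : a * (X * (1 + D)) * (Y * a) = a * X * (Y * a) + a * X * (D * (Y * a)) := by
      noncomm_ring
    rw [e3, hy, two_smul]
    simp only [mul_assoc]
  have k0 : a * (Y * a) = z3 • a := by rw [← mul_assoc, m3]
  have key : (z2 * z3) • a = (128 : K) • (a * (X * Y) * a) := by
    have k1 : a * X * a * (Y * a) = (z2 * z3) • a := by
      rw [m2, smul_mul_assoc, k0, smul_smul]
    rw [← k1, mul_assoc a X a, e1, smul_mul_assoc, e2, smul_smul]
    norm_num
  have h6 : (z2 * z3 - 128 * z1) • a = 0 := by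
    rw [sub_smul, key, m1, smul_smul, sub_self]
  have h7 := (smul_eq_zero.1 h6).resolve_right hne
  linear_combination h7 + 42 * z1 * h3

theorem mu_core {K W : Type*} [Field K] [AddCommGroup W] [Module K W] [FiniteDimensional K W] (h3 : (3 : K) = 0)
    {a b : Module.End K W} {μ : K} (hSS : a * a = (128 : K) • a) (htr : LinearMap.trace K W a = 2)
    (hμ : a * b * a = μ • a) : μ = LinearMap.trace K W (a * b) := by
  have h5 := congrArg (LinearMap.trace K W) hμ
  rw [LinearMap.trace_mul_comm, ← mul_assoc, hSS, smul_mul_assoc, map_smul, map_smul, htr, smul_eq_mul,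
    smul_eq_mul] at h5
  linear_combination h5 + (μ - 43 * LinearMap.trace K W (a * b)) * h3

set_option maxRecDepth 10000 in
/-- **The identity for rank one idempotents.** -/
theorem core {Q : Type*} [Group Q] (F : Q →* ↥(chevE8.group (ZMod 3))) (V : ValuationSubring ℂ)
    [CharP (ResidueField V) 3]
    {e s : ℕ → Q} {t : ℕ → ℕ → ℕ} (hS : Table 128 7 e s t) (hO : Table 64 6 e s t)
    (h64 : ∀ i < 64, e (64 + i) = e i * s 6) {x y : Q}
    (hx : ∀ g ∈ hO.grp, x⁻¹ * g * x ∈ hO.grp) (hy : y⁻¹ * s 6 * y ∈ hS.grp)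
    (hdim : finrank (ResidueField V) (res (V := V) F hS.grp).invariants = 1)
    (htr : ∑ i ∈ Finset.range 128, theta F (e i) = 2) :
    (∑ i ∈ Finset.range 128, theta F (e i * x)) * (∑ i ∈ Finset.range 128, theta F (e i * y)) =
      2 * ∑ i ∈ Finset.range 128, theta F (e i * (x * y)) := by
  have h3 : (3 : ResidueField V) = 0 := by exact_mod_cast CharP.cast_eq_zero (ResidueField V) 3
  -- the trace
  have htrace : ∀ g : Q, LinearMap.trace (ResidueField V) _ (su (adj V F) 128 e * adj V F g) =
      algebraMap (ZMod 3) (ResidueField V) (∑ i ∈ Finset.range 128, theta F (e i * g)) := by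
    intro g
    rw [su, Finset.sum_mul, map_sum, map_sum]
    refine Finset.sum_congr rfl fun i _ => ?_
    rw [← map_mul, ← trace_adj]
  have htrS : LinearMap.trace (ResidueField V) _ (su (adj V F) 128 e) = 2 := by
    have := htrace 1
    rw [map_one, mul_one] at this
    rw [this]
    simp only [mul_one]
    rw [htr, map_ofNat]
  -- invariants
  have hinv : ∀ w, (su (adj V F) 128 e) w ∈ (res (V := V) F hS.grp).invariants := by
    intro w g
    show (adj V F g * su (adj V F) 128 e) w = (su (adj V F) 128 e) w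
    rw [mul_su (adj V F) hS g.2]
  have hne : su (adj V F) 128 e ≠ 0 := by
    intro h0
    rw [h0, map_zero] at htrS
    have h5 : (1 : ResidueField V) = 0 := by linear_combination h3 + htrS
    exact one_ne_zero h5
  have hSS : su (adj V F) 128 e * su (adj V F) 128 e = (128 : ResidueField V) • su (adj V F) 128 e := by
    have := su_mul_su (adj V F) hS (e' := e) (n' := 128) fun i hi => Te_mem hS hi
    rw [this, ← nsmul_eq_mul, ← Nat.cast_smul_eq_nsmul (ResidueField V)]
    norm_num
  have hSO : su (adj V F) 128 e * su (adj V F) 64 e = (64 : ResidueField V) • su (adj V F) 128 e := by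
    have := su_mul_su (adj V F) hS (e' := e) (n' := 64) fun i hi => Te_mem hS (by omega)
    rw [this, ← nsmul_eq_mul, ← Nat.cast_smul_eq_nsmul (ResidueField V)]
    norm_num
  have hmu : ∀ g : Q, su (adj V F) 128 e * adj V F g * su (adj V F) 128 e =
      algebraMap (ZMod 3) (ResidueField V) (∑ i ∈ Finset.range 128, theta F (e i * g)) • su (adj V F) 128 e := by
    intro g
    obtain ⟨μ, hμ⟩ := rank_one (K := ResidueField V) (W := chevE8.Idx → ResidueField V) (su (adj V F) 128 e)
      (res (V := V) F hS.grp).invariants hdim hinv (adj V F g)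
    rw [hμ, mu_core h3 hSS htrS hμ, htrace]
  have hdec : su (adj V F) 128 e = su (adj V F) 64 e * (1 + adj V F (s 6)) := by
    have h5 : ∑ i ∈ Finset.range 64, adj V F (e (64 + i)) = (∑ i ∈ Finset.range 64, adj V F (e i)) * adj V F (s 6) := by
      rw [Finset.sum_mul]
      refine Finset.sum_congr rfl fun i hi => ?_
      rw [h64 i (Finset.mem_range.1 hi), map_mul]
    rw [su, su, show (128 : ℕ) = 64 + 64 from rfl, Finset.sum_range_add, mul_add, mul_one, h5]
  have hxc : su (adj V F) 64 e * adj V F x = adj V F x * su (adj V F) 64 e := su_comm (adj V F) hO hx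
  have hyc : adj V F (s 6) * (adj V F y * su (adj V F) 128 e) = adj V F y * su (adj V F) 128 e := by
    have h5 : adj V F (s 6) * adj V F y = adj V F y * adj V F (y⁻¹ * s 6 * y) := by
      have h6 : s 6 * y = y * (y⁻¹ * s 6 * y) := by group
      rw [← map_mul, ← map_mul, ← h6]
    rw [← mul_assoc, h5, mul_assoc, mul_su (adj V F) hS hy]
  have m1 := hmu (x * y)
  rw [map_mul] at m1
  have h9 := alg_core h3 hne hSO hdec hxc hyc m1 (hmu x) (hmu y)
  apply (algebraMap (ZMod 3) (ResidueField V)).injective
  rw [map_mul, map_mul, map_ofNat]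
  exact h9

end Cfsg.Agent.H942.Core

private theorem dce_e8d01be972fd : _root_.True := by
  try have : _root_.True := by simp only [_root_.Cfsg.Agent.H942.Core.su.eq_1]
  exact _root_.True.intro
end
end
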