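import Mathlib
import Cfsg.Prelude.Def_Classical
import Cfsg.Agent.SporadicStructure.FieldNine
import Cfsg.Agent.SporadicStructure.U43Herm
import Cfsg.Agent.H942.Core
import Cfsg.Agent.H942.LMat
import Cfsg.Agent.LieClassical.FieldTransfer
import Cfsg.Agent.Lib.FinFast
import Cfsg.Agent.FastGrp
import Cfsg.Agent.Prune
set_option linter.all false
prune_inst 0x7ffffdfbfbec7fffffff7e3ffffdfffdf1afffffffdff9cbffec6b9fbfff7b868bedfbaf8de0d8ff1ed6e29e10ba7b53fffffeffea6ffc7ffffdfff41ffbee5ff7ffb50c7195b8341ffe6fff9bf07f8e7f3fffffffffffffffffffffffffffbeffffffffffff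
open scoped Cfsg.Agent.FastGrp

/-- decoders of the packed data (elaboration time only) -/
private noncomputable def pk61d (b S i : Nat) : Nat := Nat.mod (Nat.shiftRight S (Nat.mul b i)) (Nat.shiftLeft (nat_lit 1) b)
private noncomputable def pk61f {α : Type} (t : Nat) (f : Nat → α) : α := Nat.rec (f Nat.zero) (fun k _ => f (Nat.succ k)) t
private noncomputable def pk61l {α : Type} (f : Nat → α) (s e : Nat) (tl : List α) : List α :=
  pk61f e fun e => Nat.rec tl (fun k ih => List.cons (pk61f (Nat.sub e (Nat.succ k)) f) ih) (Nat.sub e s)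
private noncomputable def lq265547e9aa43 {T : Sort _} (f :
    (type_of% @_root_.Matrix.vecCons.{0}) →
    (type_of% @_root_.Matrix.vecEmpty.{0}) →
    (type_of% @_root_.List.cons.{0}) →
    (type_of% @_root_.Prod.mk.{0, 0}) →
    (type_of% @_root_.List.nil.{0}) →
    ((List (List (List Nat))) → (List (List (List Nat)))) →
    ((List (List Nat)) → (List (List Nat))) →
    ((List (Prod Nat Nat)) → (List (Prod Nat Nat))) →
    ((List Nat) → (List Nat)) → T) : T :=
  f (@_root_.Matrix.vecCons.{0}) (@_root_.Matrix.vecEmpty.{0}) (@_root_.List.cons.{0}) (@_root_.Prod.mk.{0, 0}) (@_root_.List.nil.{0}) (fun x => x) (fun x => x) (fun x => x) (fun x => x)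

-- part: H942/G4
section
/-!
# 4 × 4 matrices over the field with nine elements, computably
-/

set_option autoImplicit false

namespace Cfsg.Agent.H942.G4

open Cfsg.Agent.SporadicStructure.FieldNine Cfsg.Agent.H942.Pool
open scoped Matrix

/-- the entries `aₖ + bₖ i`, `k = 4 row + column` -/
structure Mat9 where
  a0 : ℕ
  a1 : ℕ
  a2 : ℕ
  a3 : ℕ
  a4 : ℕ
  a5 : ℕ
  a6 : ℕ
  a7 : ℕ
  a8 : ℕ
  a9 : ℕ
  a10 : ℕ
  a11 : ℕ
  a12 : ℕ
  a13 : ℕ
  a14 : ℕ
  a15 : ℕ
  b0 : ℕ
  b1 : ℕ
  b2 : ℕ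
  b3 : ℕ
  b4 : ℕ
  b5 : ℕ
  b6 : ℕ
  b7 : ℕ
  b8 : ℕ
  b9 : ℕ
  b10 : ℕ
  b11 : ℕ
  b12 : ℕ
  b13 : ℕ
  b14 : ℕ
  b15 : ℕ

/-- decode a number written in base 3 (digits `a₀ b₀ a₁ b₁ …`) -/
def dec (n : ℕ) : Mat9 :=
  ⟨n / 1 % 3, n / 9 % 3, n / 81 % 3, n / 729 % 3, n / 6561 % 3, n / 59049 % 3, n / 531441 % 3, n / 4782969 % 3, n / 43046721 % 3, n / 387420489 % 3, n / 3486784401 % 3, n / 31381059609 % 3, n / 282429536481 % 3, n / 2541865828329 % 3, n / 22876792454961 % 3, n / 205891132094649 % 3,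
   n / 3 % 3, n / 27 % 3, n / 243 % 3, n / 2187 % 3, n / 19683 % 3, n / 177147 % 3, n / 1594323 % 3, n / 14348907 % 3, n / 129140163 % 3, n / 1162261467 % 3, n / 10460353203 % 3, n / 94143178827 % 3, n / 847288609443 % 3, n / 7625597484987 % 3, n / 68630377364883 % 3, n / 617673396283947 % 3⟩

/-- product -/
def mul : Mat9 → Mat9 → Mat9
  | ⟨a0, a1, a2, a3, a4, a5, a6, a7, a8, a9, a10, a11, a12, a13, a14, a15, b0, b1, b2, b3, b4, b5, b6, b7, b8, b9, b10, b11, b12, b13, b14, b15⟩,
    ⟨c0, c1, c2, c3, c4, c5, c6, c7, c8, c9, c10, c11, c12, c13, c14, c15, d0, d1, d2, d3, d4, d5, d6, d7, d8, d9, d10, d11, d12, d13, d14, d15⟩ =>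
    ⟨(a0 * c0 + a1 * c4 + a2 * c8 + a3 * c12 + 2 * (b0 * d0 + b1 * d4 + b2 * d8 + b3 * d12)) % 3,
     (a0 * c1 + a1 * c5 + a2 * c9 + a3 * c13 + 2 * (b0 * d1 + b1 * d5 + b2 * d9 + b3 * d13)) % 3,
     (a0 * c2 + a1 * c6 + a2 * c10 + a3 * c14 + 2 * (b0 * d2 + b1 * d6 + b2 * d10 + b3 * d14)) % 3,
     (a0 * c3 + a1 * c7 + a2 * c11 + a3 * c15 + 2 * (b0 * d3 + b1 * d7 + b2 * d11 + b3 * d15)) % 3,
     (a4 * c0 + a5 * c4 + a6 * c8 + a7 * c12 + 2 * (b4 * d0 + b5 * d4 + b6 * d8 + b7 * d12)) % 3,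
     (a4 * c1 + a5 * c5 + a6 * c9 + a7 * c13 + 2 * (b4 * d1 + b5 * d5 + b6 * d9 + b7 * d13)) % 3,
     (a4 * c2 + a5 * c6 + a6 * c10 + a7 * c14 + 2 * (b4 * d2 + b5 * d6 + b6 * d10 + b7 * d14)) % 3,
     (a4 * c3 + a5 * c7 + a6 * c11 + a7 * c15 + 2 * (b4 * d3 + b5 * d7 + b6 * d11 + b7 * d15)) % 3,
     (a8 * c0 + a9 * c4 + a10 * c8 + a11 * c12 + 2 * (b8 * d0 + b9 * d4 + b10 * d8 + b11 * d12)) % 3,
     (a8 * c1 + a9 * c5 + a10 * c9 + a11 * c13 + 2 * (b8 * d1 + b9 * d5 + b10 * d9 + b11 * d13)) % 3,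
     (a8 * c2 + a9 * c6 + a10 * c10 + a11 * c14 + 2 * (b8 * d2 + b9 * d6 + b10 * d10 + b11 * d14)) % 3,
     (a8 * c3 + a9 * c7 + a10 * c11 + a11 * c15 + 2 * (b8 * d3 + b9 * d7 + b10 * d11 + b11 * d15)) % 3,
     (a12 * c0 + a13 * c4 + a14 * c8 + a15 * c12 + 2 * (b12 * d0 + b13 * d4 + b14 * d8 + b15 * d12)) % 3,
     (a12 * c1 + a13 * c5 + a14 * c9 + a15 * c13 + 2 * (b12 * d1 + b13 * d5 + b14 * d9 + b15 * d13)) % 3,
     (a12 * c2 + a13 * c6 + a14 * c10 + a15 * c14 + 2 * (b12 * d2 + b13 * d6 + b14 * d10 + b15 * d14)) % 3,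
     (a12 * c3 + a13 * c7 + a14 * c11 + a15 * c15 + 2 * (b12 * d3 + b13 * d7 + b14 * d11 + b15 * d15)) % 3,
     (a0 * d0 + a1 * d4 + a2 * d8 + a3 * d12 + b0 * c0 + b1 * c4 + b2 * c8 + b3 * c12) % 3,
     (a0 * d1 + a1 * d5 + a2 * d9 + a3 * d13 + b0 * c1 + b1 * c5 + b2 * c9 + b3 * c13) % 3,
     (a0 * d2 + a1 * d6 + a2 * d10 + a3 * d14 + b0 * c2 + b1 * c6 + b2 * c10 + b3 * c14) % 3,
     (a0 * d3 + a1 * d7 + a2 * d11 + a3 * d15 + b0 * c3 + b1 * c7 + b2 * c11 + b3 * c15) % 3,
     (a4 * d0 + a5 * d4 + a6 * d8 + a7 * d12 + b4 * c0 + b5 * c4 + b6 * c8 + b7 * c12) % 3,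
     (a4 * d1 + a5 * d5 + a6 * d9 + a7 * d13 + b4 * c1 + b5 * c5 + b6 * c9 + b7 * c13) % 3,
     (a4 * d2 + a5 * d6 + a6 * d10 + a7 * d14 + b4 * c2 + b5 * c6 + b6 * c10 + b7 * c14) % 3,
     (a4 * d3 + a5 * d7 + a6 * d11 + a7 * d15 + b4 * c3 + b5 * c7 + b6 * c11 + b7 * c15) % 3,
     (a8 * d0 + a9 * d4 + a10 * d8 + a11 * d12 + b8 * c0 + b9 * c4 + b10 * c8 + b11 * c12) % 3,
     (a8 * d1 + a9 * d5 + a10 * d9 + a11 * d13 + b8 * c1 + b9 * c5 + b10 * c9 + b11 * c13) % 3,
     (a8 * d2 + a9 * d6 + a10 * d10 + a11 * d14 + b8 * c2 + b9 * c6 + b10 * c10 + b11 * c14) % 3,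
     (a8 * d3 + a9 * d7 + a10 * d11 + a11 * d15 + b8 * c3 + b9 * c7 + b10 * c11 + b11 * c15) % 3,
     (a12 * d0 + a13 * d4 + a14 * d8 + a15 * d12 + b12 * c0 + b13 * c4 + b14 * c8 + b15 * c12) % 3,
     (a12 * d1 + a13 * d5 + a14 * d9 + a15 * d13 + b12 * c1 + b13 * c5 + b14 * c9 + b15 * c13) % 3,
     (a12 * d2 + a13 * d6 + a14 * d10 + a15 * d14 + b12 * c2 + b13 * c6 + b14 * c10 + b15 * c14) % 3,
     (a12 * d3 + a13 * d7 + a14 * d11 + a15 * d15 + b12 * c3 + b13 * c7 + b14 * c11 + b15 * c15) % 3⟩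

/-- equality -/
def beq : Mat9 → Mat9 → Bool
  | ⟨a0, a1, a2, a3, a4, a5, a6, a7, a8, a9, a10, a11, a12, a13, a14, a15, b0, b1, b2, b3, b4, b5, b6, b7, b8, b9, b10, b11, b12, b13, b14, b15⟩,
    ⟨c0, c1, c2, c3, c4, c5, c6, c7, c8, c9, c10, c11, c12, c13, c14, c15, d0, d1, d2, d3, d4, d5, d6, d7, d8, d9, d10, d11, d12, d13, d14, d15⟩ =>
    Nat.beq a0 c0 && Nat.beq a1 c1 && Nat.beq a2 c2 && Nat.beq a3 c3 && Nat.beq a4 c4 && Nat.beq a5 c5 && Nat.beq a6 c6 && Nat.beq a7 c7 && Nat.beq a8 c8 && Nat.beq a9 c9 && Nat.beq a10 c10 && Nat.beq a11 c11 && Nat.beq a12 c12 && Nat.beq a13 c13 && Nat.beq a14 c14 && Nat.beq a15 c15 && Nat.beq b0 d0 && Nat.beq b1 d1 && Nat.beq b2 d2 && Nat.beq b3 d3 && Nat.beq b4 d4 && Nat.beq b5 d5 && Nat.beq b6 d6 && Nat.beq b7 d7 && Nat.beq b8 d8 && Nat.beq b9 d9 && Nat.beq b10 d10 && Nat.beq b11 d11 && Nat.beq b12 d12 && Nat.beq b13 d13 && Nat.beq b14 d14 && Nat.beq b15 d15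

/-- minus -/
def neg : Mat9 → Mat9
  | ⟨a0, a1, a2, a3, a4, a5, a6, a7, a8, a9, a10, a11, a12, a13, a14, a15, b0, b1, b2, b3, b4, b5, b6, b7, b8, b9, b10, b11, b12, b13, b14, b15⟩ =>
    ⟨2 * a0 % 3, 2 * a1 % 3, 2 * a2 % 3, 2 * a3 % 3, 2 * a4 % 3, 2 * a5 % 3, 2 * a6 % 3, 2 * a7 % 3, 2 * a8 % 3, 2 * a9 % 3, 2 * a10 % 3, 2 * a11 % 3, 2 * a12 % 3, 2 * a13 % 3, 2 * a14 % 3, 2 * a15 % 3,
     2 * b0 % 3, 2 * b1 % 3, 2 * b2 % 3, 2 * b3 % 3, 2 * b4 % 3, 2 * b5 % 3, 2 * b6 % 3, 2 * b7 % 3, 2 * b8 % 3, 2 * b9 % 3, 2 * b10 % 3, 2 * b11 % 3, 2 * b12 % 3, 2 * b13 % 3, 2 * b14 % 3, 2 * b15 % 3⟩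

/-- times `i` -/
def muli : Mat9 → Mat9
  | ⟨a0, a1, a2, a3, a4, a5, a6, a7, a8, a9, a10, a11, a12, a13, a14, a15, b0, b1, b2, b3, b4, b5, b6, b7, b8, b9, b10, b11, b12, b13, b14, b15⟩ =>
    ⟨2 * b0 % 3, 2 * b1 % 3, 2 * b2 % 3, 2 * b3 % 3, 2 * b4 % 3, 2 * b5 % 3, 2 * b6 % 3, 2 * b7 % 3, 2 * b8 % 3, 2 * b9 % 3, 2 * b10 % 3, 2 * b11 % 3, 2 * b12 % 3, 2 * b13 % 3, 2 * b14 % 3, 2 * b15 % 3,
     a0, a1, a2, a3, a4, a5, a6, a7, a8, a9, a10, a11, a12, a13, a14, a15⟩

/-- equality up to a power of `i` -/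
def eqv (x y : Mat9) : Bool := beq x y || beq x (neg y) || beq x (muli y) || beq x (neg (muli y))

/-- the field element `a + b i` -/
def v (a b : ℕ) : K9 := (a : K9) + (b : K9) * K9.mk 3

/-- the matrix -/
def toM : Mat9 → Matrix (Fin 4) (Fin 4) K9
  | ⟨a0, a1, a2, a3, a4, a5, a6, a7, a8, a9, a10, a11, a12, a13, a14, a15, b0, b1, b2, b3, b4, b5, b6, b7, b8, b9, b10, b11, b12, b13, b14, b15⟩ =>
    (beta% delta% lq265547e9aa43 fun vqc0 vqc1 _ _ _ _ _ _ _ =>
        (vqc0 (vqc0 (v a0 b0) (vqc0 (v a1 b1) (vqc0 (v a2 b2) (vqc0 (v a3 b3) vqc1)))) (vqc0 (vqc0 (v a4 b4) (vqc0 (v a5 b5) (vqc0 (v a6 b6) (vqc0 (v a7 b7) vqc1)))) (vqc0 (vqc0 (v a8 b8) (vqc0 (v a9 b9) (vqc0 (v a10 b10) (vqc0 (v a11 b11) vqc1)))) (vqc0 (vqc0 (v a12 b12) (vqc0 (v a13 b13) (vqc0 (v a14 b14) (vqc0 (v a15 b15) vqc1)))) vqc1)))))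

theorem three_zero : (3 : K9) = 0 := by decide +kernel

theorem I_sq : K9.mk 3 * K9.mk 3 = -1 := by decide +kernel

theorem mod3_cast (x : ℕ) : ((x % 3 : ℕ) : K9) = (x : K9) := by
  conv_rhs => rw [← Nat.mod_add_div x 3]
  push_cast
  rw [three_zero, zero_mul, add_zero]

theorem v_mod (a b : ℕ) : v (a % 3) (b % 3) = v a b := by
  unfold v
  rw [mod3_cast, mod3_cast]

theorem v_mul4 (a₀ a₁ a₂ a₃ b₀ b₁ b₂ b₃ c₀ c₁ c₂ c₃ d₀ d₁ d₂ d₃ : ℕ) :
    v ((a₀ * c₀ + a₁ * c₁ + a₂ * c₂ + a₃ * c₃ + 2 * (b₀ * d₀ + b₁ * d₁ + b₂ * d₂ + b₃ * d₃)) % 3)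
      ((a₀ * d₀ + a₁ * d₁ + a₂ * d₂ + a₃ * d₃ + b₀ * c₀ + b₁ * c₁ + b₂ * c₂ + b₃ * c₃) % 3) =
    v a₀ b₀ * v c₀ d₀ + v a₁ b₁ * v c₁ d₁ + v a₂ b₂ * v c₂ d₂ + v a₃ b₃ * v c₃ d₃ := by
  rw [v_mod]
  unfold v
  push_cast
  linear_combination (-((b₀ : K9) * d₀ + b₁ * d₁ + b₂ * d₂ + b₃ * d₃)) * I_sq +
    ((b₀ : K9) * d₀ + b₁ * d₁ + b₂ * d₂ + b₃ * d₃) * three_zero

theorem v_neg (a b : ℕ) : v (2 * a % 3) (2 * b % 3) = - v a b := by
  rw [v_mod]
  unfold v
  push_cast
  linear_combination ((a : K9) + b * K9.mk 3) * three_zero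

theorem v_muli (a b : ℕ) : v (2 * b % 3) a = K9.mk 3 * v a b := by
  have h1 : v (2 * b % 3) a = v (2 * b) a := by
    unfold v
    rw [mod3_cast]
  rw [h1]
  unfold v
  push_cast
  linear_combination (-(b : K9)) * I_sq + (b : K9) * three_zero

theorem toM_mul (x y : Mat9) : toM (mul x y) = toM x * toM y := by
  obtain ⟨a0, a1, a2, a3, a4, a5, a6, a7, a8, a9, a10, a11, a12, a13, a14, a15, b0, b1, b2, b3, b4, b5, b6, b7, b8, b9, b10, b11, b12, b13, b14, b15⟩ := x
  obtain ⟨c0, c1, c2, c3, c4, c5, c6, c7, c8, c9, c10, c11, c12, c13, c14, c15, d0, d1, d2, d3, d4, d5, d6, d7, d8, d9, d10, d11, d12, d13, d14, d15⟩ := y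
  ext i j
  rw [Matrix.mul_apply, Fin.sum_univ_four]
  fin_cases i <;> fin_cases j <;> exact v_mul4 _ _ _ _ _ _ _ _ _ _ _ _ _ _ _ _

theorem toM_neg (x : Mat9) : toM (neg x) = (-1 : K9) • toM x := by
  obtain ⟨a0, a1, a2, a3, a4, a5, a6, a7, a8, a9, a10, a11, a12, a13, a14, a15, b0, b1, b2, b3, b4, b5, b6, b7, b8, b9, b10, b11, b12, b13, b14, b15⟩ := x
  ext i j
  rw [Matrix.smul_apply, smul_eq_mul, neg_one_mul]
  fin_cases i <;> fin_cases j <;> exact v_neg _ _

theorem toM_muli (x : Mat9) : toM (muli x) = (K9.mk 3) • toM x := by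
  obtain ⟨a0, a1, a2, a3, a4, a5, a6, a7, a8, a9, a10, a11, a12, a13, a14, a15, b0, b1, b2, b3, b4, b5, b6, b7, b8, b9, b10, b11, b12, b13, b14, b15⟩ := x
  ext i j
  rw [Matrix.smul_apply, smul_eq_mul]
  fin_cases i <;> fin_cases j <;> exact v_muli _ _

theorem beq_eq {x y : Mat9} (h : beq x y = true) : x = y := by
  obtain ⟨a0, a1, a2, a3, a4, a5, a6, a7, a8, a9, a10, a11, a12, a13, a14, a15, b0, b1, b2, b3, b4, b5, b6, b7, b8, b9, b10, b11, b12, b13, b14, b15⟩ := x
  obtain ⟨c0, c1, c2, c3, c4, c5, c6, c7, c8, c9, c10, c11, c12, c13, c14, c15, d0, d1, d2, d3, d4, d5, d6, d7, d8, d9, d10, d11, d12, d13, d14, d15⟩ := y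
  simp only [beq, Bool.and_eq_true, Nat.beq_eq] at h
  simp only [Mat9.mk.injEq]
  itauto

theorem beq_refl (x : Mat9) : beq x x = true := by
  obtain ⟨a0, a1, a2, a3, a4, a5, a6, a7, a8, a9, a10, a11, a12, a13, a14, a15, b0, b1, b2, b3, b4, b5, b6, b7, b8, b9, b10, b11, b12, b13, b14, b15⟩ := x
  simp only [beq, Bool.and_eq_true, Nat.beq_eq, and_self]

/-- reduced entries -/
def Red : Mat9 → Prop
  | ⟨a0, a1, a2, a3, a4, a5, a6, a7, a8, a9, a10, a11, a12, a13, a14, a15, b0, b1, b2, b3, b4, b5, b6, b7, b8, b9, b10, b11, b12, b13, b14, b15⟩ =>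
    a0 < 3 ∧ a1 < 3 ∧ a2 < 3 ∧ a3 < 3 ∧ a4 < 3 ∧ a5 < 3 ∧ a6 < 3 ∧ a7 < 3 ∧ a8 < 3 ∧ a9 < 3 ∧ a10 < 3 ∧ a11 < 3 ∧ a12 < 3 ∧ a13 < 3 ∧ a14 < 3 ∧ a15 < 3 ∧ b0 < 3 ∧ b1 < 3 ∧ b2 < 3 ∧ b3 < 3 ∧ b4 < 3 ∧ b5 < 3 ∧ b6 < 3 ∧ b7 < 3 ∧ b8 < 3 ∧ b9 < 3 ∧ b10 < 3 ∧ b11 < 3 ∧ b12 < 3 ∧ b13 < 3 ∧ b14 < 3 ∧ b15 < 3

theorem mul_red (x y : Mat9) : Red (mul x y) := by
  obtain ⟨a0, a1, a2, a3, a4, a5, a6, a7, a8, a9, a10, a11, a12, a13, a14, a15, b0, b1, b2, b3, b4, b5, b6, b7, b8, b9, b10, b11, b12, b13, b14, b15⟩ := x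
  obtain ⟨c0, c1, c2, c3, c4, c5, c6, c7, c8, c9, c10, c11, c12, c13, c14, c15, d0, d1, d2, d3, d4, d5, d6, d7, d8, d9, d10, d11, d12, d13, d14, d15⟩ := y
  have h : ∀ n : ℕ, n % 3 < 3 := fun n => Nat.mod_lt _ (by norm_num)
  simp only [mul, Red, h, and_self]

theorem v_inj' : ∀ a b c d : Fin 3, v a b = v c d → a = c ∧ b = d := by decide +kernel

theorem v_inj {a b c d : ℕ} (ha : a < 3) (hb : b < 3) (hc : c < 3) (hd : d < 3) (h : v a b = v c d) : a = c ∧ b = d := by
  have := v_inj' ⟨a, ha⟩ ⟨b, hb⟩ ⟨c, hc⟩ ⟨d, hd⟩ h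
  exact ⟨Fin.ext_iff.1 this.1, Fin.ext_iff.1 this.2⟩

theorem toM_inj {x y : Mat9} (hx : Red x) (hy : Red y) (h : toM x = toM y) : x = y := by
  obtain ⟨a0, a1, a2, a3, a4, a5, a6, a7, a8, a9, a10, a11, a12, a13, a14, a15, b0, b1, b2, b3, b4, b5, b6, b7, b8, b9, b10, b11, b12, b13, b14, b15⟩ := x
  obtain ⟨c0, c1, c2, c3, c4, c5, c6, c7, c8, c9, c10, c11, c12, c13, c14, c15, d0, d1, d2, d3, d4, d5, d6, d7, d8, d9, d10, d11, d12, d13, d14, d15⟩ := y
  obtain ⟨ha0, ha1, ha2, ha3, ha4, ha5, ha6, ha7, ha8, ha9, ha10, ha11, ha12, ha13, ha14, ha15, hb0, hb1, hb2, hb3, hb4, hb5, hb6, hb7, hb8, hb9, hb10, hb11, hb12, hb13, hb14, hb15⟩ := hx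
  obtain ⟨hc0, hc1, hc2, hc3, hc4, hc5, hc6, hc7, hc8, hc9, hc10, hc11, hc12, hc13, hc14, hc15, hd0, hd1, hd2, hd3, hd4, hd5, hd6, hd7, hd8, hd9, hd10, hd11, hd12, hd13, hd14, hd15⟩ := hy
  obtain ⟨rfl, rfl⟩ := v_inj ha0 hb0 hc0 hd0 (congrFun (congrFun h 0) 0)
  obtain ⟨rfl, rfl⟩ := v_inj ha1 hb1 hc1 hd1 (congrFun (congrFun h 0) 1)
  obtain ⟨rfl, rfl⟩ := v_inj ha2 hb2 hc2 hd2 (congrFun (congrFun h 0) 2)
  obtain ⟨rfl, rfl⟩ := v_inj ha3 hb3 hc3 hd3 (congrFun (congrFun h 0) 3)
  obtain ⟨rfl, rfl⟩ := v_inj ha4 hb4 hc4 hd4 (congrFun (congrFun h 1) 0)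
  obtain ⟨rfl, rfl⟩ := v_inj ha5 hb5 hc5 hd5 (congrFun (congrFun h 1) 1)
  obtain ⟨rfl, rfl⟩ := v_inj ha6 hb6 hc6 hd6 (congrFun (congrFun h 1) 2)
  obtain ⟨rfl, rfl⟩ := v_inj ha7 hb7 hc7 hd7 (congrFun (congrFun h 1) 3)
  obtain ⟨rfl, rfl⟩ := v_inj ha8 hb8 hc8 hd8 (congrFun (congrFun h 2) 0)
  obtain ⟨rfl, rfl⟩ := v_inj ha9 hb9 hc9 hd9 (congrFun (congrFun h 2) 1)
  obtain ⟨rfl, rfl⟩ := v_inj ha10 hb10 hc10 hd10 (congrFun (congrFun h 2) 2)
  obtain ⟨rfl, rfl⟩ := v_inj ha11 hb11 hc11 hd11 (congrFun (congrFun h 2) 3)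
  obtain ⟨rfl, rfl⟩ := v_inj ha12 hb12 hc12 hd12 (congrFun (congrFun h 3) 0)
  obtain ⟨rfl, rfl⟩ := v_inj ha13 hb13 hc13 hd13 (congrFun (congrFun h 3) 1)
  obtain ⟨rfl, rfl⟩ := v_inj ha14 hb14 hc14 hd14 (congrFun (congrFun h 3) 2)
  obtain ⟨rfl, rfl⟩ := v_inj ha15 hb15 hc15 hd15 (congrFun (congrFun h 3) 3)
  rfl

/-- the special unitary group -/
abbrev SU := Cfsg.SU 4 K9 3

/-- the matrix of an element -/
def M (g : SU) : Matrix (Fin 4) (Fin 4) K9 := ((g : Matrix.SpecialLinearGroup (Fin 4) K9) : Matrix (Fin 4) (Fin 4) K9)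

theorem M_mul (g h : SU) : M (g * h) = M g * M h := rfl

theorem M_one : M 1 = 1 := rfl

theorem M_inj {g h : SU} (H : M g = M h) : g = h := Subtype.ext (Subtype.ext H)

theorem mk_eq_of_smul {g h : SU} {c : K9} (H : M g = c • M h) :
    (QuotientGroup.mk g : SU ⧸ Subgroup.center SU) = QuotientGroup.mk h := by
  symm
  rw [QuotientGroup.eq, Subgroup.mem_center_iff]
  have h1 : M (h⁻¹ * g) = c • (1 : Matrix (Fin 4) (Fin 4) K9) := by
    rw [M_mul, H, Matrix.mul_smul, ← M_mul, inv_mul_cancel, M_one]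
  intro x
  apply M_inj
  rw [M_mul x, M_mul _ x, h1, Matrix.mul_smul, Matrix.smul_mul, mul_one, one_mul]

/-- the special unitary group as a system -/
def sys : Sys SU Mat9 where
  mul := mul
  beq := beq
  eqv := eqv
  R g a := M g = toM a
  R_mul := by
    intro g h a b hg hh
    show M (g * h) = toM (mul a b)
    rw [M_mul, toM_mul, hg, hh]
  beq_eq := beq_eq
  R_eqv := by
    intro g h a b hg hh hab
    unfold eqv at hab
    rw [Bool.or_eq_true, Bool.or_eq_true, Bool.or_eq_true] at hab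
    rcases hab with ((hab | hab) | hab) | hab
    · exact mk_eq_of_smul (c := 1) (by rw [one_smul, hg, hh, beq_eq hab])
    · exact mk_eq_of_smul (c := -1) (by rw [hg, hh, beq_eq hab, toM_neg])
    · exact mk_eq_of_smul (c := K9.mk 3) (by rw [hg, hh, beq_eq hab, toM_muli])
    · exact mk_eq_of_smul (c := -K9.mk 3) (by rw [hg, hh, beq_eq hab, toM_neg, toM_muli, smul_smul, neg_one_mul])
  R_inj := fun hg hh => M_inj (hg.trans hh.symm)

theorem Runi {g : SU} {a b : Mat9} (ha : sys.R g a) (hb : sys.R g b) (ha' : ∃ x y, sys.mul x y = a)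
    (hb' : ∃ x y, sys.mul x y = b) : a = b := by
  obtain ⟨x, y, rfl⟩ := ha'
  obtain ⟨x', y', rfl⟩ := hb'
  exact toM_inj (mul_red _ _) (mul_red _ _) (Eq.trans (Eq.symm ha) hb)

theorem R_conj {g b : SU} {x y z : Mat9} (hx : sys.R g x) (hy : sys.R b y)
    (h : sys.beq (sys.mul x y) (sys.mul y z) = true) : sys.R (b⁻¹ * g * b) z := by
  have h1 : mul x y = mul y z := (beq_eq h :)
  have hx' : M g = toM x := hx
  have hy' : M b = toM y := hy
  have h2 : M b * toM z = M g * M b := by
    rw [hx', hy', ← toM_mul, ← toM_mul, h1]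
  show M (b⁻¹ * g * b) = toM z
  rw [mul_assoc, M_mul, M_mul, ← h2, ← Matrix.mul_assoc, ← M_mul, inv_mul_cancel, M_one, Matrix.one_mul]

/-- membership -/
theorem exists_R {a : Mat9} (h1 : (toM a).det = 1)
    (h2 : ∀ j k, ∑ i, toM a i j * (toM a i k) ^ 3 = if j = k then 1 else 0) : ∃ g : SU, sys.R g a :=
  ⟨⟨⟨toM a, h1⟩, Cfsg.Agent.SporadicStructure.U43Herm.mem_SU_of_cols K9.card_K9' _ h2⟩, rfl⟩

end Cfsg.Agent.H942.G4
end

-- part: H942/Fun
section
/-!
# Tables and forests given by functions (packed tables)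
-/

set_option autoImplicit false

namespace Cfsg.Agent.H942.Fun

open Cfsg.Agent.H942.Enum Cfsg.Agent.H942.Pool Cfsg.Agent.H942.Forest

/-- entry `i` of the table packed in `t`, with `k` bits for every entry -/
def look (k t i : ℕ) : ℕ := (t >>> (k * i)) % 2 ^ k

/-- `p i` for all `i < n` -/
def allB (p : ℕ → Bool) (n : ℕ) : Bool := Nat.rec true (fun i ih => p i && ih) n

theorem allB_spec {p : ℕ → Bool} : ∀ {n : ℕ}, allB p n = true → ∀ i < n, p i = true
  | 0, _, i, hi => absurd hi (Nat.not_lt_zero i)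
  | n + 1, h, i, hi => by
    have h1 : (p n && allB p n) = true := h
    rw [Bool.and_eq_true] at h1
    rcases Nat.lt_succ_iff_lt_or_eq.1 hi with h2 | h2
    · exact allB_spec h1.2 i h2
    · rw [h2]
      exact h1.1

variable {Γ : Type*} [Group Γ] {α : Type} (S : Sys Γ α)

/-- the check of the table of a finite subgroup modulo the centre -/
noncomputable def chkTab (mul : α → α → α) (beq eqv : α → α → Bool) (nE nG : ℕ) (E G : ℕ → α) (T Ti : ℕ → ℕ → ℕ)
    (par : ℕ → ℕ × ℕ) : Bool :=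
  allB (fun i => allB (fun j => Nat.blt (T i j) nE && eqv (mul (E i) (G j)) (E (T i j)) &&
    Nat.beq (Ti (T i j) j) i) nG) nE &&
  allB (fun i => Nat.ble (par i).1 i && Nat.blt (par i).2 nG && Nat.beq (T (par i).1 (par i).2) (i + 1) &&
      beq (mul (E (par i).1) (G (par i).2)) (E (i + 1))) (nE - 1)

/-- noncentrality: every element but the first fails to commute with its witness -/
noncomputable def chkNe (mul : α → α → α) (beq : α → α → Bool) (nE nW : ℕ) (E W : ℕ → α) (w : ℕ → ℕ) : Bool :=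
  allB (fun i => Nat.blt (w i) nW && !(beq (mul (E (i + 1)) (W (w i))) (mul (W (w i)) (E (i + 1))))) (nE - 1)

theorem exists_table {nE nG nW : ℕ} {E G W : ℕ → α} {T Ti : ℕ → ℕ → ℕ} {par : ℕ → ℕ × ℕ} {wi : ℕ → ℕ}
    (beq_refl : ∀ a, S.beq a a = true)
    (Runi : ∀ {g : Γ} {a b : α}, S.R g a → S.R g b → (∃ a' b', S.mul a' b' = a) → (∃ a' b', S.mul a' b' = b) → a = b)
    {gen : ℕ → Γ} (hgen : ∀ i < nG, S.R (gen i) (G i))
    {wit : ℕ → Γ} (hwit : ∀ i < nW, S.R (wit i) (W i))
    (h1 : S.R 1 (E 0)) (hpos : 0 < nE)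
    (hc : chkTab S.mul S.beq S.eqv nE nG E G T Ti par = true)
    (hne : chkNe S.mul S.beq nE nW E W wi = true) :
    ∃ e : ℕ → Γ, (∀ i < nE, S.R (e i) (E i)) ∧
      Table nE nG (fun i => (QuotientGroup.mk (e i) : Γ ⧸ Subgroup.center Γ))
        (fun j => QuotientGroup.mk (gen j)) T := by
  classical
  rw [chkTab, Bool.and_eq_true] at hc
  obtain ⟨hc1, hc2⟩ := hc
  have key : ∀ i < nE, ∃ g : Γ, S.R g (E i) := by
    intro i
    induction i using Nat.strong_induction_on with
    | _ i ih =>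
      intro hi
      cases i with
      | zero => exact ⟨1, h1⟩
      | succ i =>
        have h2 := allB_spec hc2 i (by omega)
        simp only [Bool.and_eq_true, Nat.blt_eq, Nat.ble_eq] at h2
        obtain ⟨g, hg⟩ := ih (par i).1 (by omega) (by omega)
        exact ⟨g * gen (par i).2, by
          rw [← S.beq_eq h2.2]
          exact S.R_mul hg (hgen _ h2.1.1.2)⟩
  let e : ℕ → Γ := fun i => if h : i = 0 then 1 else if h : i < nE then (key i h).choose else 1
  have he : ∀ i < nE, S.R (e i) (E i) := by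
    intro i hi
    by_cases h0 : i = 0
    · subst h0
      show S.R (if h : 0 = 0 then 1 else _) _
      simpa using h1
    · show S.R (if h : i = 0 then 1 else if h : i < nE then (key i h).choose else 1) _
      simp only [dif_neg h0, dif_pos hi]
      exact (key i hi).choose_spec
  have he0 : e 0 = 1 := by simp [e]
  refine ⟨e, he, ?_⟩
  have hlt : ∀ i < nE, ∀ j < nG, T i j < nE ∧ S.eqv (S.mul (E i) (G j)) (E (T i j)) = true ∧ Ti (T i j) j = i := by
    intro i hi j hj
    have h2 := allB_spec (allB_spec hc1 i hi) j hj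
    simp only [Bool.and_eq_true, Nat.blt_eq] at h2
    exact ⟨h2.1.1, h2.1.2, Nat.eq_of_beq_eq_true h2.2⟩
  constructor
  · exact hpos
  · show (QuotientGroup.mk (e 0) : Γ ⧸ Subgroup.center Γ) = 1
    rw [he0]
    rfl
  · exact fun i hi j hj => (hlt i hi j hj).1
  · intro i hi j hj
    have h2 := hlt i hi j hj
    have h3 := S.R_eqv (S.R_mul (he i hi) (hgen j hj)) (he _ h2.1) h2.2.1
    rw [← h3]
    rfl
  · intro j hj i hi i' hi' hii
    have h2 := (hlt i hi j hj).2.2
    have h3 := (hlt i' hi' j hj).2.2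
    rw [hii] at h2
    exact h2.symm.trans h3
  · intro i hi h0
    cases i with
    | zero => exact absurd rfl h0
    | succ i =>
      have h2 := allB_spec hc2 i (by omega)
      simp only [Bool.and_eq_true, Nat.blt_eq, Nat.ble_eq] at h2
      exact ⟨(par i).1, by omega, (par i).2, h2.1.1.2, Nat.eq_of_beq_eq_true h2.1.2⟩
  · intro i hi h0 hcon
    cases i with
    | zero => exact absurd rfl h0
    | succ i =>
      have h2 := allB_spec hne i (by omega)
      rw [Bool.and_eq_true, Nat.blt_eq] at h2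
      obtain ⟨hk, hw'⟩ := h2
      have h3 := hwit _ hk
      have h4 : e (i + 1) ∈ Subgroup.center Γ := (QuotientGroup.eq_one_iff _).1 hcon
      have h5 : e (i + 1) * wit (wi i) = wit (wi i) * e (i + 1) := (Subgroup.mem_center_iff.1 h4 (wit (wi i))).symm
      have h6 := S.R_mul (he _ hi) h3
      have h7 := S.R_mul h3 (he _ hi)
      rw [h5] at h6
      have h8 := Runi h6 h7 ⟨_, _, rfl⟩ ⟨_, _, rfl⟩
      rw [h8, beq_refl] at hw'
      simp at hw'

/-- the sub-table given by the first `n` elements and the first `m` generators -/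
noncomputable def chkSub (T : ℕ → ℕ → ℕ) (par : ℕ → ℕ × ℕ) (n m : ℕ) : Bool :=
  allB (fun i => allB (fun j => Nat.blt (T i j) n) m) n &&
  allB (fun i => Nat.ble (par i).1 i && Nat.blt (par i).2 m && Nat.beq (T (par i).1 (par i).2) (i + 1)) (n - 1)

theorem sub_table {Q : Type*} [Group Q] {n m n' m' : ℕ} {e s : ℕ → Q} {T : ℕ → ℕ → ℕ} {par : ℕ → ℕ × ℕ}
    (h : Table n m e s T) (hn' : 0 < n') (hn : n' ≤ n) (hm : m' ≤ m) (hc : chkSub T par n' m' = true) :
    Table n' m' e s T := by
  rw [chkSub, Bool.and_eq_true] at hc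
  refine h.restrict hn' hn hm (fun i hi j hj => ?_) fun i hi h0 => ?_
  · have := allB_spec (allB_spec hc.1 i hi) j hj
    rwa [Nat.blt_eq] at this
  · cases i with
    | zero => exact absurd rfl h0
    | succ i =>
      have h2 := allB_spec hc.2 i (by omega)
      simp only [Bool.and_eq_true, Nat.blt_eq, Nat.ble_eq] at h2
      exact ⟨(par i).1, by omega, (par i).2, h2.1.2, Nat.eq_of_beq_eq_true h2.2⟩

/-- every entry from the `r`-th on is a conjugate of an earlier one by a member of `B` -/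
noncomputable def chkForest (mul : α → α → α) (beq : α → α → Bool) (nB r N : ℕ) (B Fo : ℕ → α) (par : ℕ → ℕ × ℕ)
    (root : ℕ → ℕ) : Bool :=
  allB (fun i => Nat.beq (root i) i) r &&
  allB (fun i =>
    Nat.blt (par i).1 nB && Nat.blt (par i).2 (r + i) &&
      beq (mul (Fo (par i).2) (B (par i).1)) (mul (B (par i).1) (Fo (r + i))) &&
      Nat.beq (root (par i).2) (root (r + i))) (N - r)

theorem exists_forest {nB r N : ℕ} {B Fo : ℕ → α} {par : ℕ → ℕ × ℕ} {root : ℕ → ℕ}
    (hcj : ∀ {g b : Γ} {x y z : α}, S.R g x → S.R b y → S.beq (S.mul x y) (S.mul y z) = true → S.R (b⁻¹ * g * b) z)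
    {b c : ℕ → Γ} (hb : ∀ i < nB, S.R (b i) (B i))
    (hc : ∀ i < r, S.R (c i) (Fo i))
    (h : chkForest S.mul S.beq nB r N B Fo par root = true) :
    ∀ i < N, ∃ g h : Γ, S.R g (Fo i) ∧ root i < r ∧ g = h⁻¹ * c (root i) * h := by
  rw [chkForest, Bool.and_eq_true] at h
  obtain ⟨h1, h2⟩ := h
  intro i
  induction i using Nat.strong_induction_on with
  | _ i ih =>
    intro hi
    by_cases hir : i < r
    · have h3 := Nat.eq_of_beq_eq_true (allB_spec h1 i hir)
      exact ⟨c i, 1, hc i hir, by rw [h3]; exact hir, by rw [h3]; simp⟩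
    · obtain ⟨j, rfl⟩ : ∃ j, i = r + j := ⟨i - r, by omega⟩
      have h3 := allB_spec h2 j (by omega)
      simp only [Bool.and_eq_true, Nat.blt_eq] at h3
      obtain ⟨⟨⟨h4, h5⟩, h6⟩, h7⟩ := h3
      obtain ⟨g, x, hg, hlt, hgx⟩ := ih (par j).2 h5 (by omega)
      have h8 := hcj hg (hb _ h4) h6
      refine ⟨_, x * b (par j).1, h8, ?_, ?_⟩
      · rw [← Nat.eq_of_beq_eq_true h7]
        exact hlt
      · rw [← Nat.eq_of_beq_eq_true h7, hgx]
        group

/-- the value of a class function at an element found in the forest -/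
theorem val {N r : ℕ} {Fo : ℕ → α} {root : ℕ → ℕ} {c : ℕ → Γ}
    (hF : ∀ i < N, ∃ g h : Γ, S.R g (Fo i) ∧ root i < r ∧ g = h⁻¹ * c (root i) * h)
    {A : Type*} {φ : Γ ⧸ Subgroup.center Γ → A} (hφ : ∀ g h : Γ ⧸ Subgroup.center Γ, φ (h⁻¹ * g * h) = φ g)
    {g : Γ} {a : α} (hg : S.R g a) {i : ℕ} (hi : i < N) (h : S.eqv a (Fo i) = true) :
    root i < r ∧ φ (QuotientGroup.mk g) = φ (QuotientGroup.mk (c (root i))) := by
  obtain ⟨g', x, hg', hlt, hgx⟩ := hF _ hi
  refine ⟨hlt, ?_⟩
  rw [S.R_eqv hg hg' h, hgx]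
  exact hφ (QuotientGroup.mk (c (root i))) (QuotientGroup.mk x)

/-- sums of values of a class function -/
theorem sum_val {N r : ℕ} {Fo : ℕ → α} {root : ℕ → ℕ} {c : ℕ → Γ}
    (hF : ∀ i < N, ∃ g h : Γ, S.R g (Fo i) ∧ root i < r ∧ g = h⁻¹ * c (root i) * h)
    {A : Type*} [AddCommMonoid A] {φ : Γ ⧸ Subgroup.center Γ → A}
    (hφ : ∀ g h : Γ ⧸ Subgroup.center Γ, φ (h⁻¹ * g * h) = φ g)
    {n : ℕ} {g : ℕ → Γ} {a : ℕ → α} {f : ℕ → ℕ} (hg : ∀ i < n, S.R (g i) (a i))
    (hi : ∀ i < n, f i < N ∧ S.eqv (a i) (Fo (f i)) = true) :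
    ∑ i ∈ Finset.range n, φ (QuotientGroup.mk (g i)) =
      ∑ k ∈ Finset.range r, cntK n (fun i => root (f i)) k • φ (QuotientGroup.mk (c k)) := by
  rw [← sum_of (f := fun i => root (f i)) (fun i h => (val S hF hφ (hg i h) (hi i h).1 (hi i h).2).1)
    (fun k => φ (QuotientGroup.mk (c k)))]
  exact Finset.sum_congr rfl fun i h => (val S hF hφ (hg i (Finset.mem_range.1 h)) (hi i (Finset.mem_range.1 h)).1
    (hi i (Finset.mem_range.1 h)).2).2

/-- the check that the elements `E i` are in the forest -/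
noncomputable def chkIdx (eqv : α → α → Bool) (nE N : ℕ) (E Fo : ℕ → α) (idx : ℕ → ℕ) : Bool :=
  allB (fun i => Nat.blt (idx i) N && eqv (E i) (Fo (idx i))) nE

theorem chkIdx_spec {eqv : α → α → Bool} {nE N : ℕ} {E Fo : ℕ → α} {idx : ℕ → ℕ} (h : chkIdx eqv nE N E Fo idx = true) :
    ∀ i < nE, idx i < N ∧ eqv (E i) (Fo (idx i)) = true := by
  intro i hi
  have := allB_spec h i hi
  rwa [Bool.and_eq_true, Nat.blt_eq] at this

end Cfsg.Agent.H942.Fun
end

-- part: H942/U4Data
section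
/-!
# Subgroups of `PSU₄(3)`: data
-/

set_option autoImplicit false

namespace Cfsg.Agent.H942.U4Data

open Cfsg.Agent.H942.G4 Cfsg.Agent.H942.Fun

/-- generators of the Sylow 2-subgroup (the first four generate `E`) -/
noncomputable def G (i : ℕ) : Mat9 := dec (look 51 0x20f2661f124024fd44efaee8018ad1fb27eb2ed08aed5b4ac05356e62e43d0bb42939f079f0024fd5dc52f4 i)

/-- the Sylow 2-subgroup -/
def S (i : ℕ) : Mat9 := dec (look 51 0xf9ca3ee3a4080093f6b96cc103e728fb95c580049fb59ab8b02ed10cd1bc7880031577fed310bb44334718580018abb6d70b00f9bba1f9b3dc0093f8a60d7b83e6ee87ee04a0049fade830141768d45876fdc0062a90338fb85da35161b58a000c574ce4a94001081eb1a4a05da219a37294000420787eaf20bb443346fee401bbdeec2b6a01f3947dd94d4006ef7ba4825203e728fbddda40010794243b045da17dc45de080041e4e4917e0bb46a2c3517c00ddefc830f840f9e778c087080377bf2cec5e07cddd0fea73c001081d9e0cfe053e907520cfc0042076b8cf2829b2c18c1a2501bbdf1cd263f18e2d9a615f7c06ef7c05d082a31c6eb0d094500107931094320539159d66b640041e4c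8374a829c8aceb025500ddefe0841f28c7186cd8e6e40377bfef89dac638c3669bf751768d45910c2e0377bdde6ad5c5da35162e90d806ef7be1545b0f9bba1f84d6e002103bde0fdc3e6ee87e067d800420794173b17688669866c60377bd3a34c8c5da219a4bfb4806ef7e722aa907ce51f711f06001093309dd0c1f3947dc548480083c9987c490093f56aece201f409651a6440024fd59f855903e812ca4333200107683cf62118e3dd6deb4400041d9a1c3d9231c7badbf0320093f518d0e881f3b1b79ec310024fd4571dfe03e9718031b7c00083e24d9f888c728a960a5100020f900e09e4638d063b40bc17686c6e5c65e0020ecac641bc5da1b1b964c280041d97d4645053484947879e0127eacdba43c14d212516e928024fd5a391e517685273d8f2a0020e6e67fb545da149cf56fe80041f094d73d029ab7318bbea0093f60b134d40a6adcc6a24e8049fa89df5dd17686c6f02fae0377c06f41c5c5da1b1bab1ec806ef8103019905348494520ee0062c5d27dedc14d2125121bc800c58bad1939176852747f8860377be82a040c5da149d0a425806ef88b5870b029ab731788c60031743aec48c0a6adcc608958018ad1fb27eb00083e0b82c5c0a690928840b80020f829fe8b014dd080089160093f51bda65c2ed0d8dd1f4b8024fd493e72b17684576ada5600083b2890f7c0a6adcc5c20f80020ec9e347a014d5b98b90f40049fac4a9d7c5da149cf83cf80127eaee297a0bb42939f7af4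 i)

/-- its table -/
noncomputable def T (i j : ℕ) : ℕ := look 8 0x3f4a6375717d7a3e4b6274707c7b3d486177737f783c496076727e793b4e677175797e3a4f667074787f394c6573777b7c384d6472767a7d37426b7d79757236436a7c7874733540697f7b77703441687e7a767133466f797d717632476e787c707731446d7b7f737430456c7a7e72752f587b65636d622e597a64626c632d5a7967616f602c5b7866606e612b5c7f616769662a5d7e60666867295e7d63656b64285f7c62646a652750736d6b656a2651726c6a646b2552716f6967682453706e686669235477696f616e225576686e606f2156756b6d636c2057746a6c626d1f6c4757515d561e6d4656505c571d6e4555535f541c6f4454525e551b6843535559521a694252545853196a4151575b50186b4050565a5117644f5f59555e16654e5e58545f15664d5d5b575c14674c5c5a565d13604b5b5d515a12614a5a5c505b116249595f5358106348585e52590f7c5d47434d4c0e7d5c46424c4d0d7e5f45414f4e0c7f5e44404e4f0b7859434749480a795842464849097a5b41454b4a087b5a40444a4b0774554f4b45440675544e4a44450576574d4947460477564c4846470370514b4f41400271504a4e4041017253494d4342007352484c42437f1321353b3d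387e1220343a3c397d112337393f3a7c102236383e3b7b1725313f393c7a1624303e383d791527333d3b3e781426323c3a3f771b293d333530761a283c32343175192b3f31373274182a3e303633731f2d39373134721e2c38363035711d2f3b353336701c2e3a3432376f013925292d206e003824282c216d033b272b2f226c023a262a2e236b053d212d29246a043c202c282569073f232f2b2668063e222e2a276709312d2125286608302c202429650b332f23272a640a322e22262b630d352925212c620c342824202d610f372b27232e600e362a26222f5f3f0517191d145e3e0416181c155d3d07151b1f165c3c06141a1e175b3b01131d19105a3a00121c1811593903111f1b12583802101e1a1357370d1f11151c56360c1e10141d55350f1d13171e54340e1c12161f5333091b1511185232081a14101951310b1917131a50300a1816121b4f2f1f070b0d0e4e2e1e060a0c0f4d2d1d05090f0c4c2c1c04080e0d4b2b1b030f090a4a2a1a020e080b492919010d0b08482818000c0a094727170f0305064626160e0204074525150d0107044424140c0006054323130b0701024222120a0600034121110905030040201008040201 (7 * i + j)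

/-- the inverse table -/
def Ti (i j : ℕ) : ℕ := look 8 0x3f4c6b75717d7a3e4d6a74707c7b3d4e6977737f783c4f6876727e793b486f7175797e3a496e7074787f394a6d73777b7c384b6c72767a7d3744637d7975723645627c7874733546617f7b77703447607e7a7671334067797d7176324166787c70773142657b7f73743043647a7e72752f5c7365636d622e5d7264626c632d5e7167616f602c5f7066606e612b5877616769662a597660666867295a7563656b64285b7462646a6527547b6d6b656a26557a6c6a646b2556796f6967682457786e68666923507f696f616e22517e686e606f21527d6b6d636c20537c6a6c626d1f684d57515d561e694c56505c571d6a4f55535f541c6b4e54525e551b6c49535559521a6d4852545853196e4b51575b50186f4a50565a511760455f59555e1661445e58545f1562475d5b575c1463465c5a565d1364415b5d515a1265405a5c505b116643595f5358106742585e52590f7a5747434d4c0e7b5646424c4d0d785545414f4e0c795444404e4f0b7e53434749480a7f5242464849097c5141454b4a087d5040444a4b07725f4f4b454406735e4e4a444505705d4d49474604715c4c48464703765b4b4f414002775a4a4e4041017459494d4342007558484c42437f1f29353b3d387e1e28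343a3c397d1d2b37393f3a7c1c2a36383e3b7b1b2d313f393c7a1a2c303e383d79192f333d3b3e78182e323c3a3f7717213d3335307616203c3234317515233f3137327414223e30363373132539373134721224383630357111273b3533367010263a3432376f0f3125292d206e0e3024282c216d0d33272b2f226c0c32262a2e236b0b35212d29246a0a34202c2825690937232f2b26680836222e2a276707392d2125286606382c20242965053b2f23272a64043a2e22262b63033d2925212c62023c2824202d61013f2b27232e60003e2a26222f5f330f17191d145e320e16181c155d310d151b1f165c300c141a1e175b370b131d19105a360a121c1811593509111f1b12583408101e1a13573b071f11151c563a061e10141d5539051d13171e5438041c12161f533f031b151118523e021a141019513d011917131a503c001816121b4f2115070b0d0e4e2014060a0c0f4d231705090f0c4c221604080e0d4b2511030f090a4a2410020e080b492713010d0b08482612000c0a0947291d0f03050646281c0e020407452b1f0d010704442a1e0c000605432d190b070102422c180a060003412f1b09050300402e1a08040201 (7 * i + j)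

/-- parents -/
noncomputable def tpar (i : ℕ) : ℕ × ℕ :=
  let p := look 16 0x3f603e603d603c603b603a6039603860376036603560346033603260316030602f602e602d602c602b602a6029602860276026602560246023602260216020601f601e601d601c601b601a6019601860176016601560146013601260116010600f600e600d600c600b600a6009600860076006600560046003600260016000601f501e501d501c501b501a5019501850175016501550145013501250115010500f500e500d500c500b500a5009500850075006500550045003500250015000500f400e400d400c400b400a40094008400740064005400440034002400140004007300630053004300330023001300030032002200120002001100010000 i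
  (p / 16, p % 16)

/-- noncommuting elements -/
def wS (i : ℕ) : ℕ := look 16 0x10000000000000000000000000000000000000001000000000000000000000001000000000000000000000000000000000000 i

/-- generators of the group of order 80 -/
def G5 (i : ℕ) : Mat9 := dec (look 51 0xb8b0fef0de42ed08aed5b4ac05356e62e43d0bb42939f079f0024fd5dc52f4 i)

/-- the group of order 80 -/
def S5 (i : ℕ) : Mat9 := dec (look 51 0x7635ac05a30b81a8690cbaf171d8d6b01e7530092b1bad46b60775d89fb0d8b81a44d140b4171dd7627f485b0093b8b9078c6076377417188201a86fb4695841d8ddd0644a64092b010e8dcc8a506116e7f92024edc90c43a42941845b1af6406914daf606c8386330724dcdc7ea6001ef47b8e18cc199f74510820d2d4dd0a201dfb46bba5c51932fa6dc2b88077ed31f3651bc6c141de54a3864712b68c447ea7272fa7a88e191c47e61531081c369218264039c352c32c46f1d62a6f078900e70d3404331464348e5cde61d3e2a72c138d2c2898972391874f8a968839b2b7262a2ff7b69dfa76e62ef0c35588ce18301a77e9dbc0c37b1a2cd13d107761d3b1578330952c2a99bf4bf2874ec557e47bd2b71e258f42fa4efdcd701f91468b83314610293bf735986edd0d54e7919013ab60e393ab3f60e4deb6be9fec2d838e56c8ef862d488fe54df001a217b40366002dc455a66cc006885ed1acb8013c353842970b60e3fa4ce1c8e4decb4559f92d838ff14f77262d483dca65e402467cfc381c804ea5640adf900919f3ef4b7200b8b0fef0de400083e0b82c5c0a690928840b80020f829fe8b014dd080089160093f51bda65c2ed0d8dd1f4b8024fd493e72b17684576ada5600083b2890f7c0a6adcc5c20f80020ec9e347a014d5b98b90f40049fac4a9d7c5da149cf83cf80127eaee297a0bb42939f7af4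 i)

/-- its table -/
def T5 (i j : ℕ) : ℕ := look 8 0xf4d4a4b410e4c4b4a400d4f4849430c4e4948420b494e4f450a484f4e44094b4c4d47084a4d4c4607454243490644434248054740414b044641404a034146474d024047464c014344454f004245444e4f3b343a3c4e3a353b3d4d3936383e4c3837393f4b3f303e384a3e313f39493d323c3a483c333d3b47333c323446323d333545313e303644303f31374337383630423639373141353a343240343b35333f2a2724253e2b2625243d282526273c292427263b2e2320213a2f222120392c212223382d20232237222f2c2d36232e2d2c35202d2e2f34212c2f2e33262b282932272a29283124292a2b3025282b2a2f141d17192e151c16182d161f151b2c171e141a2b1019131d2a1118121c29121b111f28131a101e271c151f11261d141e10251e171d13241f161c122318111b152219101a14211a131917201b1218161f070b0d0e1e060a0c0f1d05090f0c1c04080e0d1b030f090a1a020e080b19010d0b0818000c0a09170f030506160e020407150d010704140c000605130b070102120a06000311090503001008040201 (5 * i + j)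

/-- the inverse table -/
def Ti5 (i j : ℕ) : ℕ := look 8 0x3f4d4a4b413e4c4b4a403d4f4849433c4e4948423b494e4f453a484f4e44394b4c4d47384a4d4c4637454243493644434248354740414b344641404a334146474d324047464c314344454f304245444e2f3b343a3c2e3a353b3d2d3936383e2c3837393f2b3f303e382a3e313f39293d323c3a283c333d3b27333c323426323d333525313e303624303f31372337383630223639373121353a343220343b35331f2a2724251e2b2625241d282526271c292427261b2e2320211a2f222120192c212223182d20232217222f2c2d16232e2d2c15202d2e2f14212c2f2e13262b282912272a29281124292a2b1025282b2a0f141d17190e151c16180d161f151b0c171e141a0b1019131d0a1118121c09121b111f08131a101e071c151f11061d141e10051e171d13041f161c120318111b150219101a14011a131917001b1218164f070b0d0e4e060a0c0f4d05090f0c4c04080e0d4b030f090a4a020e080b49010d0b0848000c0a09470f030506460e020407450d010704440c000605430b070102420a06000341090503004008040201 (5 * i + j)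

/-- parents -/
def tpar5 (i : ℕ) : ℕ × ℕ :=
  let p := look 16 0x3f403e403d403c403b403a4039403840374036403540344033403240314030402f402e402d402c402b402a4029402840274026402540244023402240214020401f401e401d401c401b401a4019401840174016401540144013401240114010400f400e400d400c400b400a40094008400740064005400440034002400140004007300630053004300330023001300030032002200120002001100010000 i
  (p / 16, p % 16)

/-- noncommuting elements -/
def wS5 (i : ℕ) : ℕ := look 16 0x1000000000000000000000000000000000000 i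

/-- conjugating elements: `s₄ s₅ s₆ x y w` and `s₀ s₁ s₂ s₃` -/
noncomputable def B (i : ℕ) : Mat9 := dec (look 51 0xbb422bb56d2b014d5b98b90f42ed0a4e7c1e7c0093f57714bd05da149d2b19b014ce6da83ff4022eff0d46d300020f2661f124024fd44efaee8018ad1fb27eb i)

/-- the forest; the first seven are representatives of the classes -/
noncomputable def Fo (i : ℕ) : Mat9 := dec (look 51 0x14aa3d02bcf5997fd19ecc8a9500a708d27f1faa5e3224c96148bd9ae158d88c17b3cf9feacc452f35efc9e0c05ff81a7b74bad4aa01d5d5516a98c30415cd532f6644dfd932e0277ced5bb13d4bcbae192a6797ea9c0d31f6700cd64b50968ea54f21fe26510bfee5b95bb092979024e4f29f2f8ca0c5f48965ed0256c6539c02e18ca53f5b85c7c0a851d5b05c7cf1dea5ae920d2a87f73bc4fe552708aaf89fcfa7f4c12b24c2587dbc62028c8691cb9bcd24df9f7413d1924ead700d94724ceab72283f628c997d36e15c92a6b7521c19080755c5ab43d260de0793101a8f894b65f5c1c403bf68d774b930dc9c718d8b25ea400f1030a1fb3cd691fbd497a38b6e3f2212fa9ae7fdd2f1081c365ed23e20262ade71710420834b53742a3eea64fa793524df2263b0ace9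225d634ac4c84f9bda4df98d89ec866ddea4526302107378901aac4670c180c34b417f7d85ba7412bb39d0e74efda219bb1269de29e4a9e6a03b2af444629a874f8a968839b2bd483e97629e954f02c0406fc34af48a04fd3874ec55e0cc254a9b2e6bb45a81aa4055209590adc78973d7c5873e57389348f27fa9a92e6bee4efe9ab362eb52c2898a725caa904e233756775209c470071bea40323d2699d52a70e133566602aa5846c690f092f37a174eae5de64c8cbf6bc24dd2490bda92488c5787eb1b0a88726625270a552d4c66b960404a9390c48787ff5790dfe700544671956c884950a10031ddc3fca4edf811786f7163c3f63f0e7e2f5b4a1fe0d2a86fb8f6801a768a08f353977a7d43e9cab0a8b5044791261e8a11807b32029df6b2ff96f82a85db1add672ff8b6839d52e94e631f5688a14a97b369a0bd95ba391ef2b5b4efda2152d026126edf4a6166c24abd2203e7b89dff858844424a6dff8bc25a49cb280a845e0015110285d3bea9065edcee9df069f1feb7284e1bd88dd3d15a051a13168df10053c0121a82d02ffaaa31dd02020fc38804644c24bc40cd096224951a55ff1f50d54c014e3d8a4f000d74e23b53a095daf2d768750d58d1aa60069d7b140a47027eac7efd9efd26d4818c409fa4366616e2eeb2b3c7aa9582260aa9b009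be4489303e139e34b89dad4b69da4f0a884bee435060a910775b47744f639dae055413ab1db1b3ee80ed896ffe74de0d2ad3fd91f1404fbca90e922a72c6584af250278b2e1faefae1aa19f73ddadc3d18293b8a1580a40a5b3bc33572068ee435ee1646b4ee610dc3550bde4f2169a020922677043937ada5850f0b0daa45f7638161b53e2a78021c9bd968ab3f252f2049ca4d06a552d4c67226cbfee5b95d481a953c87f8804500a84090a877a5ecc89bfb8b9d4bcbae191117a941fc25e19422f8b409f09e10ae40d20da673405205368011917c688aba8fb02fd5381a60a48a62fce8af6900bfeaa8c75a3e8068110fb09ad5317033dbdad05ff81a7b6e66cbda04ad8bd7a805bbcacd6aad52f1912647c1ea5e6bdf94257cbd9ae158bf13a9547a0576acf2ffa33d99490e0f07a5e7805fc1a55a7b22872a95403abadccd0a884bf762be60aa9afe54085cbbd215ddda91049d60738dff2069d7b1d29b3e922315e6d6fbc41f870adbeab8497881e30e4f0a780231117ce0a88815528bfc0497f04621d9049bb7c978e9705485c95a3248b8a80662b94bc24ac6eb51ad80350df68d2b080a842f9edac4412771732bdd08bf5c3a726c1102a84a4caf7685c5406b16c2c614f7ee36cdd001a4536bd81b22941845b1af642f679f3fdc0ae14efb585bdd741a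768a51eed5834aa1ba54215492a34c1ae6ea0a88ce572b4b42a21c9e19019849ba48d87feb092f37b3b3c6e0aa96108db67c0299b36a04422d8390ab741eb340416b61da9eb60e35d99cd7c02db75ee70a3806885ed00d985b071cad91df0b8a80432b3420dfab31362eddae2a03c691a90013ea4b4864ca0295a4449f28004ff71cb6557805641c893cb7013c3538623b001b0b49de8340d010629b34481c9bd9a9402d3586d4f248480ab60e3ed481bbd61b538b8b7df9c9bd76a8587b340416f25981e01b288673c9dd61b5496649718067c32129c1d00b8630f366fe023438d758610048cf9f7a5b92d838fe93387243a16580439ec821103d8257790e8596018ea421d134a4b30a84107b217f72bcb6150f906374161bf425b0b431fdd1e425d55d3fba3c84dde6ab8ac1f875fee50e89a525a5202277d573daa994107b217fa5ecb6150f9069da113beab9e61f8ac37e84b6301e44efaae7bbb928742cb008da81042207b0cb18208440f60af885724489b47c6a821103d85f21913b7c513779ea1d0b2c03039e44edf144e452277156be2e2bc8048c929a610d1d9fe8e1412f03b3f5e4b21e5a771658915fd20ee254b9e6bd41da09612447f13b40b8ad2885c7713927db2ff80455c62f23501d8d2e63882ca3b40b8ad2bafc7713927db9538eec09493d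3591dc4a973ca4153b412c24828bc767ebc9650878ee2cb122d91c9dc55af8b71003b3fd1c27f1fc7637741a1941497a3c10b5ff7130d1ff45b4e82018509d3a4644c347fde85cf89a66ab3c27bc8d3f2fa20cdd118e54244b06d20536583229d48053e90766def81f3cef196ade07cddd1015b3607cf3bc5ca8e81f37743f367b814d960c666ae014fa41d53676176841242c8f918e2b14192af05da0f908f792092f1d5974dfc0d2aa0917fc381552f6aa7e0f1261328032f3e0a8858c25a3824984c9efa04386ed1af518a7f02a226bac673d0a77e7e911cbc126eabde4e7c01a7620e8f1bf053e0249da2b2093b7247aede20aa143feda460ea9d0bfa52400dc0a96477dde2b3ed72a501fc0d3b1086b7c0024dd57e11ab90350d217352550a77e7f2313d2495376799d9a07dcf93ad2e19158ade268583205444d7eac5900a90d22f3fb282a21632de6940e1b149e1763e25524349469d235f34ccca54a41552f6cefbc28e1b14a26246e06955051df4fc024f6b5c5c28024bc758a513705da35161b58a0bb46a2c3b7ee8c716cd2679b918e2d9a4e26da31c5b34991a24638b669309be1768d4586a2f918e2b705700505da351619bfb4638b215457fe7f70656774df466ba7af9ba940093dac6476292756440c945dc371b4d665d3549d5b0b1ca216a275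e4a6fe75e44ebcb6154d640280bcaea8ac89fea9f44afb48d2a9efa4f1e100aa95f96fd9431ca8456929549fecace373ba85da1272ffe330bb41d334ec8600110c6660cb80031858becf7000c5ae42edd3000845412fdd40008d422cac0c00328953ef19000c7b5d2f2170004291f64d7e17683b625635ce4eed68aded8ad8543e410d9f4107b217e725a8744d292ac1dd0e89a5263ee3a083d90c1067d6424c9a4e2e20680c8e7fed71571583f0f666c321264d26306843a269495c796cd7b5a72278a0bd9913794932335d9dc9b23e752a80758df4c0bc70262de0148ecfd7934bd00af1b93322c15e52a8f40969c60bd95552321120ec70cd1d1bc41dd7da49ca10b2ffa33db15050a5e409363bd4004680a2d0ad42f660279cd24852a96a63b5f52771658956dcacbd9e7d0170d4297975c3e587000dbe7b2a70d0bc6d601a26490be328311a9e4031b73f0227b825ea402095f003f5ae213657a098a9bfe2af04083ebe109508010133c97f1a1c1db0e2f3566e12c28cbe5b3f7834ed1436d3800544671df4bda76825844f71f51fabfea3f2c404978820800c8092f44c7c44505de736ae99aa46f1b8fb705170544393561bb11bc31a0fe67dc4d3b094893df824bcde984e5002a239f6c5ca40691344b8eb6a14f80927a30d147fc2bc2d59c1271a3b2479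381a8a2d6c9d0900d2ad3f4906c01552c1ffaf7202a220579984806915b1eab9d0126e922d1d0486f0b1e81d778053bf3f496f55492a34b21331c0aa97b557a1e44fd58fdffeb413155bc993f181aecd475035d00d2a86e04e4797713d861416c89fce4da72c2e262e8ba267d7c14efb57cbc521770e5f6e0ccc049bb7d0576e00127b5a715a3807cf3bc5b427a0f9e778b61e043e728fb8c29387ce51f71384d053658319010a1f3947dc47ad40a722b3ac0a983e79de2e079d0f9ad107541a00a6737e55a41014ce73120088014ce747ee9dc05339ce8fdda01f35a2b2ddf903e6b49d0f5cea4dd155da17884bea11af97da005339b8e535b49e103280dba8193dc83ba0c303791d2829322029e7d7419c2e81f35a4c3fd2d014ce7b0d81c40299cdeba76fc0f9ad460dee7d2a8140cb55284e30daa21c3308fb9f10c486a0151977b700af83e6b458a39b78148d1c6798d80270c12c07cbc052346c8cc44005a6e30d1e1800b4e2b7780b0019b0e13abf78047ee6a2af1b8066c4cacdf75011fbc3e945600270c10d9f550fee0bb6a509a2e2a019bb8cc81a55c7d286f1257ab64be4240402ccd89d149b8d402f6c5997824ddc3e3fcfee1e7182af9587cdfab2a2dde5c258b43c911f181a50a15fb5ba00192de77e6c7402b20e44c7040c830fb0296b757206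bd1461a64ea450d454c807ebe734e0a2415b989841e837011781212a8a0023f788f679e8045e115cec3d006adf7c2393d011fbc3f97790028973ccb056c04e19c0c9fd4005238c70d89800cd871702d5a0291a368758700356fc11c50f008bc08c8719e0027ba9c0ea960096b22c904680033253ef29d00132df30c16400de640842bc4000af5b17b2880132df30dab4002537a3d49520025721779245000a0be1d8a1a0382b23347b5400db31c13cf280e0ac8cce9fe004ae42f0275c012d645900e90012f37f651ff80df4dd6e836d8ffabb96f13109cb74229c27a24dc9e06c2b80069f258f30c2a0018abb6d70b00062aec91d1100062bb1d992e0018aa579cbb600084107cbef001bdb1df314200041e4e4917e0071b4fc56a940008499e63bec0031745d626700062c63be9678018b1814b14d00ddf116b0e160127ea92ef73c0041d9a1c3d9006ef8103019900315a751dfba00107c3774c1c1f35b7b99e62014ceb05dd28407cd6b0b75ca81f35c34526f400377bdd03dbc00ddef4d08136001079320dd2a05235b67dc2d8004207d0e61a00de64084451400107931094320127eb71f18080042076b8cf280a88cf35c75200ddef7513fe800315d2d7ea3409c3045f053d00ddef4b8303c0299ce22640a80377c0692ecb40127ead1c8f280083b41e7b1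001bbe037a0e2e0377c05f0a718024fd46343a200083b280f93d0093f6c89fcca045e1128346780127f13be5ee00ddf018448900093f514c294e00107c80704f00127ec1a35ff8024fd854de9c001076532890a0031743aec48c06ef7a7469918049faf6d6b0d0279022194f0c0093f6b96cc100041cdc0dde38024fe41d70e7016184aa0a82c0093f6b3571601f35a257a3a43939ae1072cca680fcdd0220d5042207b00ae2a1d0b2c019cdd37ee2614f7c287f7479095bb28d01f9ba050e6a277d573c7708410881ec091ea6aa6ddc711b290e859600e8069c9cd7083affd44efaae78babc8c716cd297a7f18e30d9b1cdbe31c61b33f913c638b669857df1768d4589d6ee5da219a39f61c1f4b8c035b12c638b21648fe58c71589fc5da118e2b70d8bf7631c556ef40cb4638f75b8139d8c71eeb6f8dab18e3dd6de4d98bb422bb73a7f8bb46a2c886170008d4235922d18e2a65544f780a6adcc86fa34638f75b9470f00110c66f09a118e2a6f97adc014d5b98e2b484638f75b860670031ed754d65b18e2a79db0fd4025242c7ce18000ca255449158c7154c52918a1f3b1b7ad2db631c7badbd6880bb43637817d70f9d8dbcd94380a6adcc5f54fc5da127381a220bb420941d43c2ed076ba897ce5da0e7ad27ab402503b35892b976845769a6e417686c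6e693780fa5c6007a028066c38c854410148d6d8f3322022f08900da7c04e19bd7ec6c8066c4d3ed7090148d1b84824201ab847b1835c02d38b16a1b480127f15843ed87cec6de5fd1b2ed08aed280ae0093f61b4aa1800630b16124e000c6e5ff598417683a662a5081f3b1b79ec310004291f14a9f80084540f60571768391dbea5e0a6adcc62ef9c0062ba4acb16800840edf32fd01bbdf017420a0a6adcc5ceeb414d5b98b841f176845769f3ae001079361a5ea01bbdff7c4ed414d5b98bc43a800c55d75e8f30093f6bf8067a1f3b1b7985b145da1b1b97197800839b5924ae0018ba1f7ee840377c093bf9680062c5e6cb9d006ef8a22710a0f9d8dbccfaa40020ec9e347a0024fd5dc52f4029ab731721e817686c6e72d0c35539e46404e805c587f786f24638aae070d4607cd6903621e85da219a4bfb3cbb42939f079f0bb42939f7af4 i)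

/-- parents -/
noncomputable def par (i : ℕ) : ℕ × ℕ :=
  let p := look 16 0x2b012c4427f42a1325872b112b402bd223d329432bb428142b902b8424032a0325892b4227532b2428042664268429e329842ac325a82a8829992a8728f22a6329122998295429972973296429f428e42951288229b32702299625a32971283224d625a125712899291625112829251428230069270628a800672838287425192839284828370066006825c123b027e323a125e727b125d62793257827782763275125f4273327242714270323e0258826d126c426b325b8269223c4267323a02653264424c026222613260425f924c125d125c425b325a400622586257324d425532542253425242513006124f324e424d924c4006324a3249423b3247224632454244323e124232413240023f423e3006023c123b423a3006423591e881eb61d99005821972062200723041f291f7822a322a422b322a11e9120672069226222541df92017222722141dd621f91f242009206021b11ea321981dd41e142161215400542133212800532008200620e31e021e2420b31e981ee31ef4206820661e9320431e621ec3201820021df41ed31f541fc31eb31e441de41e541f341e0400591f411dc61f201df61f081d971ee11d921dd21eb21dc01dc2005200571e661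df11d911e391df81e061e091df000511dd01dc100501da91d9800561cf21c431c031d131d021d121d031c2119c317031cd21a131c821ca21c011c831a231c681c231c421c281c2217431c0217231be418a3187817a81a8318081aa31b521b63160117f616531b221a6317a619661a731a9318761ab01603189015f21a4218941a5416e316241a291740174217261722174619c9174115d70047153718b218771953167119331924188217a718d018d218c017c3163318a11893188415c317f2185016b4183318201814161017f0167317d317c117b416c3179316221773163116931749004417291534170915d416e415d016c4153216a3162016831672166415331641163616231614004315f315e415d30042004115921597004615700048155715361538004014a21492147314c2149314c30fc314a314910ff314721023145312b313e2113612c312d313d0115613110ce3115813a40cc2130312f31277125813430ce11322114610d312a212e410c210d411900d100cd411c0127612630cd21140123112230d40120311f4118211b20d630d9311a1119311840c900da3115711420d4311230d4111030d8210e310d010c4094310a1109310840d3210610d2310430cc0089408b406d407c4086408f4072407340b710934092409540ba10a080f430f300a940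f130f040ef40ee30dd40ec008c808370e930e840e740e6307a40b110cf209050c2808750c800bd80a650a750bd90bd00d910d830d7406930d530d420d3408330d130d040c9107930cd30c940cb30ca40c92003306a50c6606f208a50c320a7306f309f508560a150bd606e509310ba4076406980b7409e4095108380b3409320b1409c40a020ae000380ac20ab30aa40a920a83085406e006e6084009f80a2406960a04083606e207230763074206d10721098307c10783078207d400310744083106a8084908e308d508c40036070106a10885087306e808530845083400300803080207f3073107d107c307b407a3079506e10741076206d30743073307040714070206f506e3003406c406b506a306940032063205d80642060804c30563061205a305f2057305d605c200230026057000280578002104c104e2053004140510041103d504e504d304c4002004a10494048303c004610454044303c10421041003d403f103e403d203c30024027201110370036003540351011402750115019201d502a8029501b501450175013501650284027301850194023402310224011201f101f401e40110013401b101a40195018300710161015400850131012401130075009100e1009200c100b400820094008400730014 i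
  (p % 16, p / 16)

/-- roots -/
noncomputable def root (i : ℕ) : ℕ := look 16 0x600060006000600060006000600060006000600060006000600060006000600060006000600060006000600060006000600060006000600060006000600060006000600060006000600060006000600060006000600060006000600060006000600060006000600060006000600060006000600060006000600060006000600060006000600060006000600060006000600060006000600060006000600060006000600060006000600060006000600060006000600060006000600060006000600060006000600060006000600060006000600060006000600060006000600060006000600060006000600060006000600060006000600060006000600060006000600060006000600060006000600060006000600060006000500050005000500050005000500050005000500050005000500050005000500050005000500050005000500050005000500050005000500050005000500050005000500050005000500050005000500050005000500050005000500050005000500050005000500050005000500050005000500050005000500050005000500050005000500050005000500050005000500050005000500050005000500050005000500050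0050005000500050005000500050005000500050005000500050005000400040004000400040004000400040004000400040004000400040004000400040004000400040004000400040004000400040004000400040004000400040004000400040004000400040004000400040004000400040004000400040004000400040004000400040004000400040004000400040004000400040004000400040004000400040004000400040004000400040004000400040004000400040004000400040004000400040004000400040004000400040004000400040004000400040004000400040004000400040004000400040004000400040004000400040004000400040004000400040004000400040004000400040004000400040004000400040004000400040003000300030003000300030003000300030003000300030003000300030003000300030003000300030003000300030003000300030003000300030003000300030003000300030003000300030003000300030003000300030003000300030003000300030003000300030003000300030003000300030003000300030003000300030003000300030003000300030003000300030003000300030003000300030003000300030003000300030003000300030003000300030003000300030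00300030003000300030003000300030003000300030003000300030003000300030003000300030003000300030003000300030003000300030003000300030003000300030003000300030003000300030003000300030003000300030003000300030003000300030003000300030003000300030003000300030003000300030003000300030003000300030003000300030003000300030003000300030003000300030003000300030003000300030003000300030003000300030003000300030003000300030003000300030003000300030003000300030003000300030003000300030003000300030003000300030003000300030003000300030003000300030003000300030003000300030003000200020002000200020002000200020002000200020002000200020002000200020002000200020002000200020002000200020002000200020002000200020002000200020002000200020002000200020002000200020002000100010001000100010001000100010001000100010001000100010001000100010001000100010001000100010001000100010001000100010001000100010001000100010001000100010001000100010001000100010001000100010001000100010001000100010006000500040003000200010000 i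

/-- positions in the forest of the elements of `S` -/
def idx (i : ℕ) : ℕ := look 16 0x1a3006e01a2006a017100a6017000a7019e0091019f0087017400a30175008d00a4017200a50173008a019c0079019d009f016d00a1016f009001a0008401a1008601000089010100290058001b0056008b00fc008f00fd0013005a00160057004c00700059006c0102001d0103001c005b00710002007b00fe001700ff0014007e0049007800450080003d0099004e007d00220074003b009e0033007600340011009c0027009d003e008200550081004f009600500097001e0077003a0075003c007f004d00980028007c001200730048009a0044009b00150072001a006d00100032000f000b000c001800260007000d0019000a0008000e000100090000 i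

/-- positions in the forest of the elements of `S5` -/
def idx5 (i : ℕ) : ℕ := look 16 0x228020c0227020a022d0207022c02050224020902060208022902030201020202a8029902ad029a02a202a702a302a902ae029c02af029d02a402aa02a502ab028c0285028d028202830293028a029102890286028b0270029202840290000601e6023701f0023801f101e801eb01e701d902350239023601f601db01da000500100032000f000b000c001800260007000d0019000a0008000e000100090000 i

/-- positions of the elements `s x` -/
def qx (i : ℕ) : ℕ := look 16 0xc101d500bf01d200e001c500db01c300c701d800c401d600c601cc00e101cb014b00e3014d00850068002c0065002d0060002f0062002e0152008e014f00c001d300e201d400e401c700c801c100bd01c600dc01d700df01ce00c201c900be00c5005d007a005e0030015100310150002a014e002b014800dd006700de00660000000000000000000000000000000000000000000000000000000000000000000000000000000000000000000000000000000000000000000000000000000000000000000000000000000000000000000000000000000000000000000000000000000000000000000000000000000000000000000000000000000000000000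 i

/-- positions of the elements `s y` -/
def qy (i : ℕ) : ℕ := look 16 0x2500b8004b00b600f8003900f70053004700bc002400bb00fb005100fa0038000400f9019b000300a2015700ae015a015d0069019a00ec00b90159008c015b0000000000000000000000000000000000000000000000000000000000000000000000000000000000000000000000000000000000000000000000000000000000b0015400af0155016c00eb015300ed00b5015600a00158019900f6016e008300e5005400ea0037002000b4004000b200f2003600f50052004300ac002100ad00000000000000000000000000000000000000000000000000000000000000000000000000000000000000000000000000000000000000000000000000000000 i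

/-- positions of the elements `s x y` -/
noncomputable def qxy (i : ℕ) : ℕ := look 16 0x135012901ac01980140011701b7018601b4018e013b011e01bf017801440105025e02c6026302c5027c02bc027d02ba024302bf024802be026a02b5026e02b3011501bd019701460187013c011601b3018f013f011d01b8010701ad01760133021901f8022301f70234020d0222020f021c01ff021d01fe022f0218022e021a0210021e0211022001fb023201fd02330214021f0217020001f9023101fa02260143010b01bb017e01af01960136012501ba0180014101130139012401b001900137017a01ae010f0142019401bc012801b101110138018401b9012101270191027802c0027a02c102500258024b02b7026f02c2027402c302590277025602b6 i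

/-- the elements `s x`, `s y` of order 3 modulo `E` -/
def P1 (i : ℕ) : Mat9 := dec (look 51 0xf9ad0f56c6aa5da0f336fca0631c56e02d111814ce6da83ff40270c442ab7350e838e6e89822d84a804fc2df01177f86a3698 i)

/-- their squares -/
def P2 (i : ℕ) : Mat9 := dec (look 51 0x1992999e2022ed072411eca4bb41c7a7c9a080049109297f46aa641e7e9d1d13bd73e0f8d61fdd6c31ffb3137eec1f402d54 i)

/-- positions of the cubes -/
def c3 (i : ℕ) : ℕ := look 16 0xb000000020001 i

/-- positions of the squares of the representatives -/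
noncomputable def sidx (i : ℕ) : ℕ := look 16 0x2001700180000 i

/-- positions of the conjugates of the generators of `E` by `s₄ s₅ s₆ x y` -/
def cE (i j : ℕ) : ℕ := look 8 0xa010805040c0201080c02030a06020f0806020b (4 * i + j)

/-- the product `x y` -/
def XY (i : ℕ) : Mat9 := dec (look 51 0x3b8952e714588 i)

/-- positions of the conjugates of the generators of `O` by `x` -/
def cO (i : ℕ) : ℕ := look 16 0x1200310004000c00020001 i

end Cfsg.Agent.H942.U4Data
end

-- part: H942/U4Check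
section
/-!
# Subgroups of `PSU₄(3)`: checks
-/

set_option autoImplicit false
set_option maxRecDepth 100000

namespace Cfsg.Agent.H942.U4Check

open Cfsg.Agent.SporadicStructure.FieldNine Cfsg.Agent.H942.G4 Cfsg.Agent.H942.Fun
open Cfsg.Agent.H942.U4Data

/-- membership in the special unitary group -/
def Mem (a : Mat9) : Prop := (toM a).det = 1 ∧ ∀ j k, ∑ i, toM a i j * (toM a i k) ^ 3 = if j = k then 1 else 0

instance decMem (a : Mat9) : Decidable (Mem a) := by unfold Mem; infer_instance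

private noncomputable def _root_.Cfsg.Agent.LsF.fea535c_0 : {f // @Cfsg.Agent.SporadicStructure.FieldNine.K9.add = f} := ⟨_, by first | (delta Cfsg.Agent.SporadicStructure.FieldNine.K9.add; rewrite [Cfsg.Agent.LsF.nadd_pat, Cfsg.Agent.LsF.nmul_pat, Cfsg.Agent.LsF.ndiv_pat, Cfsg.Agent.LsF.nmod_pat]; exact rfl) | exact rfl⟩
private noncomputable def _root_.Cfsg.Agent.LsF.fea535c_1 : {f // @Cfsg.Agent.SporadicStructure.FieldNine.K9.instAddK9 = f} := ⟨_, by first | (delta Cfsg.Agent.SporadicStructure.FieldNine.K9.instAddK9; rewrite [Cfsg.Agent.LsF.fea535c_0.2]; exact rfl) | exact rfl⟩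
private noncomputable def _root_.Cfsg.Agent.LsF.fea535c_2 : {f // @Cfsg.Agent.SporadicStructure.FieldNine.K9.mul = f} := ⟨_, by first | (delta Cfsg.Agent.SporadicStructure.FieldNine.K9.mul; rewrite [Cfsg.Agent.LsF.nadd_pat, Cfsg.Agent.LsF.nmul_pat, Cfsg.Agent.LsF.ndiv_pat, Cfsg.Agent.LsF.nmod_pat]; exact rfl) | exact rfl⟩
private noncomputable def _root_.Cfsg.Agent.LsF.fea535c_3 : {f // @Cfsg.Agent.SporadicStructure.FieldNine.K9.instMulK9 = f} := ⟨_, by first | (delta Cfsg.Agent.SporadicStructure.FieldNine.K9.instMulK9; rewrite [Cfsg.Agent.LsF.fea535c_2.2]; exact rfl) | exact rfl⟩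
private noncomputable def _root_.Cfsg.Agent.LsF.fea535c_8 : {f // @Cfsg.Agent.H942.G4.v = f} := ⟨_, by first | (delta Cfsg.Agent.H942.G4.v; rewrite [Cfsg.Agent.LsF.fea535c_1.2, Cfsg.Agent.LsF.fea535c_3.2]; exact rfl) | exact rfl⟩
private noncomputable def _root_.Cfsg.Agent.LsF.fea535c_9 : {f // @Cfsg.Agent.H942.G4.toM = f} := ⟨_, by first | (delta Cfsg.Agent.H942.G4.toM; rewrite [Cfsg.Agent.LsF.fea535c_8.2, Cfsg.Agent.LsF.vecCons_eq]; (try delta Cfsg.Agent.H942.G4.neg.match_1); (try delta Cfsg.Agent.H942.G4.Mat9.casesOn); exact rfl) | exact rfl⟩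
private noncomputable def _root_.Cfsg.Agent.LsF.fea535c_10 : {f // @Cfsg.Agent.H942.G4.dec = f} := ⟨_, by first | (delta Cfsg.Agent.H942.G4.dec; rewrite [Cfsg.Agent.LsF.ndiv_pat, Cfsg.Agent.LsF.nmod_pat]; exact rfl) | exact rfl⟩
private noncomputable def _root_.Cfsg.Agent.LsF.fea535c_11 : {f // @Cfsg.Agent.H942.Fun.look = f} := ⟨_, by first | (delta Cfsg.Agent.H942.Fun.look; rewrite [Cfsg.Agent.LsF.nmul_pat, Cfsg.Agent.LsF.nmod_pat, Cfsg.Agent.LsF.npow_pat, Cfsg.Agent.LsF.nshr_pat]; exact rfl) | exact rfl⟩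
private noncomputable def _root_.Cfsg.Agent.LsF.fea535c_12 : {f // @Cfsg.Agent.H942.U4Data.G = f} := ⟨_, by first | (delta Cfsg.Agent.H942.U4Data.G; rewrite [Cfsg.Agent.LsF.fea535c_10.2, Cfsg.Agent.LsF.fea535c_11.2]; exact rfl) | exact rfl⟩
private noncomputable def _root_.Cfsg.Agent.LsF.fea535c_13 : {f // @Cfsg.Agent.SporadicStructure.FieldNine.K9.instDecidableEqK9._aux_1 = f} := ⟨_, by first | (delta Cfsg.Agent.SporadicStructure.FieldNine.K9.instDecidableEqK9._aux_1; rewrite [Cfsg.Agent.LsF.dFinEq_eq]; exact rfl) | exact rfl⟩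
private noncomputable def _root_.Cfsg.Agent.LsF.fea535c_14 : {f // @Cfsg.Agent.SporadicStructure.FieldNine.K9.instDecidableEqK9 = f} := ⟨_, by first | (delta Cfsg.Agent.SporadicStructure.FieldNine.K9.instDecidableEqK9; rewrite [Cfsg.Agent.LsF.fea535c_13.2]; exact rfl) | exact rfl⟩
theorem memG : ∀ i < 7, Mem (G i) := by (refine of_decide_eq_true ?_; (try (delta Cfsg.Agent.H942.U4Check.Mem Cfsg.Agent.H942.U4Check.decMem; rewrite [Cfsg.Agent.LsF.fea535c_9.2, Cfsg.Agent.LsF.fea535c_12.2, Cfsg.Agent.LsF.fea535c_3.2, Cfsg.Agent.LsF.fea535c_14.2, Cfsg.Agent.LsF.finFintype_eq, Cfsg.Agent.LsF.fsum_eq, Cfsg.Agent.LsF.dAnd_eq, Cfsg.Agent.LsF.dFinEq_eq, Cfsg.Agent.LsF.dBallLT_eq, Cfsg.Agent.LsF.dForallFin_eq, Cfsg.Agent.LsF.ite_eq, Cfsg.Agent.LsF.decide_eq])); decide +kernel)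
private noncomputable def _root_.Cfsg.Agent.LsF.fea535c_15 : {f // @Cfsg.Agent.H942.U4Data.G5 = f} := ⟨_, by first | (delta Cfsg.Agent.H942.U4Data.G5; rewrite [Cfsg.Agent.LsF.fea535c_10.2, Cfsg.Agent.LsF.fea535c_11.2]; exact rfl) | exact rfl⟩
theorem memG5 : ∀ i < 5, Mem (G5 i) := by (refine of_decide_eq_true ?_; (try (delta Cfsg.Agent.H942.U4Check.Mem Cfsg.Agent.H942.U4Check.decMem; rewrite [Cfsg.Agent.LsF.fea535c_9.2, Cfsg.Agent.LsF.fea535c_15.2, Cfsg.Agent.LsF.fea535c_3.2, Cfsg.Agent.LsF.fea535c_14.2, Cfsg.Agent.LsF.finFintype_eq, Cfsg.Agent.LsF.fsum_eq, Cfsg.Agent.LsF.dAnd_eq, Cfsg.Agent.LsF.dFinEq_eq, Cfsg.Agent.LsF.dBallLT_eq, Cfsg.Agent.LsF.dForallFin_eq, Cfsg.Agent.LsF.ite_eq, Cfsg.Agent.LsF.decide_eq])); decide +kernel)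
private noncomputable def _root_.Cfsg.Agent.LsF.fea535c_16 : {f // @Cfsg.Agent.H942.U4Data.B = f} := ⟨_, by first | (delta Cfsg.Agent.H942.U4Data.B; rewrite [Cfsg.Agent.LsF.fea535c_10.2, Cfsg.Agent.LsF.fea535c_11.2]; exact rfl) | exact rfl⟩
theorem memB : ∀ i < 10, Mem (B i) := by (refine of_decide_eq_true ?_; (try (delta Cfsg.Agent.H942.U4Check.Mem Cfsg.Agent.H942.U4Check.decMem; rewrite [Cfsg.Agent.LsF.fea535c_9.2, Cfsg.Agent.LsF.fea535c_16.2, Cfsg.Agent.LsF.fea535c_3.2, Cfsg.Agent.LsF.fea535c_14.2, Cfsg.Agent.LsF.finFintype_eq, Cfsg.Agent.LsF.fsum_eq, Cfsg.Agent.LsF.dAnd_eq, Cfsg.Agent.LsF.dFinEq_eq, Cfsg.Agent.LsF.dBallLT_eq, Cfsg.Agent.LsF.dForallFin_eq, Cfsg.Agent.LsF.ite_eq, Cfsg.Agent.LsF.decide_eq])); decide +kernel)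
theorem memC : ∀ i < 7, Mem (Fo i) := by decide +kernel
theorem oneS : toM (S 0) = 1 := by decide +kernel
theorem oneS5 : toM (S5 0) = 1 := by decide +kernel
theorem oneC : toM (Fo 0) = 1 := by decide +kernel

/-- the products `s p` for `s` in the cosets `ks` of `E` -/
noncomputable def chkProd (X : Mat9) (ks : List ℕ) (q : ℕ → ℕ) : Bool :=
  ks.all fun k => allB (fun j => Nat.blt (q (16 * k + j)) 711 &&
    eqv (mul (S (16 * k + j)) X) (Fo (q (16 * k + j)))) 16

/-- the generators of index `< m` conjugated by `p` -/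
noncomputable def chkConjG (m n : ℕ) (p : Mat9) (c : ℕ → ℕ) : Bool :=
  allB (fun j => Nat.blt (c j) n && eqv (mul (G j) p) (mul p (S (c j)))) m

/-- the elements of order 3 modulo `E`: coset and index of `x` or `y` in `B` -/
def kr (i : ℕ) : ℕ × ℕ := (beta% delta% lq265547e9aa43 fun _ _ vqc2 vqc3 vqc4 _ _ _ _ =>
    (vqc2 (vqc3 0 3) (vqc2 (vqc3 1 3) (vqc2 (vqc3 2 3) (vqc2 (vqc3 3 3) (vqc2 (vqc3 0 4) (vqc2 (vqc3 1 4) (vqc2 (vqc3 4 4) (vqc2 (vqc3 5 4) vqc4)))))))).getD i (vqc3 0 0))

/-- cubes -/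
noncomputable def chkCube : Bool :=
  allB (fun i => beq (mul (S (16 * (kr i).1)) (B (kr i).2)) (P1 i) && beq (mul (P1 i) (P1 i)) (P2 i) &&
    Nat.blt (c3 i) 16 && eqv (mul (P2 i) (P1 i)) (S (c3 i))) 8

/-- coset decomposition -/
def chkCos : Bool :=
  allB (fun k => allB (fun j => eqv (mul (S j) (S (16 * k))) (S (16 * k + j))) 16) 8

private noncomputable def _root_.Cfsg.Agent.LsF.fea535c_18 : {f // @Cfsg.Agent.H942.Fun.allB = f} := ⟨_, by first | (delta Cfsg.Agent.H942.Fun.allB; rewrite [Cfsg.Agent.LsF.and_eq]; exact rfl) | exact rfl⟩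
private noncomputable def _root_.Cfsg.Agent.LsF.fea535c_19 : {f // @Cfsg.Agent.H942.Fun.chkTab = f} := ⟨_, by first | (delta Cfsg.Agent.H942.Fun.chkTab; rewrite [Cfsg.Agent.LsF.fea535c_18.2, Cfsg.Agent.LsF.nadd_pat, Cfsg.Agent.LsF.nsub_pat, Cfsg.Agent.LsF.and_eq]; exact rfl) | exact rfl⟩
private noncomputable def _root_.Cfsg.Agent.LsF.fea535c_20 : {f // @Cfsg.Agent.H942.G4.mul = f} := ⟨_, by first | (delta Cfsg.Agent.H942.G4.mul; rewrite [Cfsg.Agent.LsF.nadd_pat, Cfsg.Agent.LsF.nmul_pat, Cfsg.Agent.LsF.nmod_pat]; (try delta Cfsg.Agent.H942.G4.mul.match_1); (try delta Cfsg.Agent.H942.G4.Mat9.casesOn); exact rfl) | exact rfl⟩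
private noncomputable def _root_.Cfsg.Agent.LsF.fea535c_21 : {f // @Cfsg.Agent.H942.G4.beq = f} := ⟨_, by first | (delta Cfsg.Agent.H942.G4.beq; rewrite [Cfsg.Agent.LsF.and_eq]; (try delta Cfsg.Agent.H942.G4.mul.match_1); (try delta Cfsg.Agent.H942.G4.Mat9.casesOn); exact rfl) | exact rfl⟩
private noncomputable def _root_.Cfsg.Agent.LsF.fea535c_22 : {f // @Cfsg.Agent.H942.G4.neg = f} := ⟨_, by first | (delta Cfsg.Agent.H942.G4.neg; rewrite [Cfsg.Agent.LsF.nmul_pat, Cfsg.Agent.LsF.nmod_pat]; (try delta Cfsg.Agent.H942.G4.neg.match_1); (try delta Cfsg.Agent.H942.G4.Mat9.casesOn); exact rfl) | exact rfl⟩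
private noncomputable def _root_.Cfsg.Agent.LsF.fea535c_23 : {f // @Cfsg.Agent.H942.G4.muli = f} := ⟨_, by first | (delta Cfsg.Agent.H942.G4.muli; rewrite [Cfsg.Agent.LsF.nmul_pat, Cfsg.Agent.LsF.nmod_pat]; (try delta Cfsg.Agent.H942.G4.neg.match_1); (try delta Cfsg.Agent.H942.G4.Mat9.casesOn); exact rfl) | exact rfl⟩
private noncomputable def _root_.Cfsg.Agent.LsF.fea535c_24 : {f // @Cfsg.Agent.H942.G4.eqv = f} := ⟨_, by first | (delta Cfsg.Agent.H942.G4.eqv; rewrite [Cfsg.Agent.LsF.fea535c_21.2, Cfsg.Agent.LsF.fea535c_22.2, Cfsg.Agent.LsF.fea535c_23.2, Cfsg.Agent.LsF.or_eq]; exact rfl) | exact rfl⟩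
private noncomputable def _root_.Cfsg.Agent.LsF.fea535c_25 : {f // @Cfsg.Agent.H942.U4Data.S = f} := ⟨_, by first | (delta Cfsg.Agent.H942.U4Data.S; rewrite [Cfsg.Agent.LsF.fea535c_10.2, Cfsg.Agent.LsF.fea535c_11.2]; exact rfl) | exact rfl⟩
private noncomputable def _root_.Cfsg.Agent.LsF.fea535c_26 : {f // @Cfsg.Agent.H942.U4Data.T = f} := ⟨_, by first | (delta Cfsg.Agent.H942.U4Data.T; rewrite [Cfsg.Agent.LsF.fea535c_11.2, Cfsg.Agent.LsF.nadd_pat, Cfsg.Agent.LsF.nmul_pat]; exact rfl) | exact rfl⟩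
private noncomputable def _root_.Cfsg.Agent.LsF.fea535c_27 : {f // @Cfsg.Agent.H942.U4Data.Ti = f} := ⟨_, by first | (delta Cfsg.Agent.H942.U4Data.Ti; rewrite [Cfsg.Agent.LsF.fea535c_11.2, Cfsg.Agent.LsF.nadd_pat, Cfsg.Agent.LsF.nmul_pat]; exact rfl) | exact rfl⟩
private noncomputable def _root_.Cfsg.Agent.LsF.fea535c_28 : {f // @Cfsg.Agent.H942.U4Data.tpar = f} := ⟨_, by first | (delta Cfsg.Agent.H942.U4Data.tpar; rewrite [Cfsg.Agent.LsF.fea535c_11.2, Cfsg.Agent.LsF.ndiv_pat, Cfsg.Agent.LsF.nmod_pat]; exact rfl) | exact rfl⟩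
theorem tab : chkTab mul beq eqv 128 7 S G T Ti tpar = true := by ((try (rewrite [Cfsg.Agent.LsF.fea535c_19.2, Cfsg.Agent.LsF.fea535c_20.2, Cfsg.Agent.LsF.fea535c_21.2, Cfsg.Agent.LsF.fea535c_24.2, Cfsg.Agent.LsF.fea535c_25.2, Cfsg.Agent.LsF.fea535c_12.2, Cfsg.Agent.LsF.fea535c_26.2, Cfsg.Agent.LsF.fea535c_27.2, Cfsg.Agent.LsF.fea535c_28.2])); decide +kernel)
private noncomputable def _root_.Cfsg.Agent.LsF.fea535c_29 : {f // @Cfsg.Agent.H942.Fun.chkNe = f} := ⟨_, by first | (delta Cfsg.Agent.H942.Fun.chkNe; rewrite [Cfsg.Agent.LsF.fea535c_18.2, Cfsg.Agent.LsF.nadd_pat, Cfsg.Agent.LsF.nsub_pat, Cfsg.Agent.LsF.and_eq, Cfsg.Agent.LsF.not_eq]; exact rfl) | exact rfl⟩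
private noncomputable def _root_.Cfsg.Agent.LsF.fea535c_30 : {f // @Cfsg.Agent.H942.U4Data.wS = f} := ⟨_, by first | (delta Cfsg.Agent.H942.U4Data.wS; rewrite [Cfsg.Agent.LsF.fea535c_11.2]; exact rfl) | exact rfl⟩
theorem noncen : chkNe mul beq 128 10 S B wS = true := by ((try (rewrite [Cfsg.Agent.LsF.fea535c_29.2, Cfsg.Agent.LsF.fea535c_20.2, Cfsg.Agent.LsF.fea535c_21.2, Cfsg.Agent.LsF.fea535c_25.2, Cfsg.Agent.LsF.fea535c_16.2, Cfsg.Agent.LsF.fea535c_30.2])); decide +kernel)
private noncomputable def _root_.Cfsg.Agent.LsF.fea535c_31 : {f // @Cfsg.Agent.H942.U4Data.S5 = f} := ⟨_, by first | (delta Cfsg.Agent.H942.U4Data.S5; rewrite [Cfsg.Agent.LsF.fea535c_10.2, Cfsg.Agent.LsF.fea535c_11.2]; exact rfl) | exact rfl⟩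
private noncomputable def _root_.Cfsg.Agent.LsF.fea535c_32 : {f // @Cfsg.Agent.H942.U4Data.T5 = f} := ⟨_, by first | (delta Cfsg.Agent.H942.U4Data.T5; rewrite [Cfsg.Agent.LsF.fea535c_11.2, Cfsg.Agent.LsF.nadd_pat, Cfsg.Agent.LsF.nmul_pat]; exact rfl) | exact rfl⟩
private noncomputable def _root_.Cfsg.Agent.LsF.fea535c_33 : {f // @Cfsg.Agent.H942.U4Data.Ti5 = f} := ⟨_, by first | (delta Cfsg.Agent.H942.U4Data.Ti5; rewrite [Cfsg.Agent.LsF.fea535c_11.2, Cfsg.Agent.LsF.nadd_pat, Cfsg.Agent.LsF.nmul_pat]; exact rfl) | exact rfl⟩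
private noncomputable def _root_.Cfsg.Agent.LsF.fea535c_34 : {f // @Cfsg.Agent.H942.U4Data.tpar5 = f} := ⟨_, by first | (delta Cfsg.Agent.H942.U4Data.tpar5; rewrite [Cfsg.Agent.LsF.fea535c_11.2, Cfsg.Agent.LsF.ndiv_pat, Cfsg.Agent.LsF.nmod_pat]; exact rfl) | exact rfl⟩
theorem tab5 : chkTab mul beq eqv 80 5 S5 G5 T5 Ti5 tpar5 = true := by ((try (rewrite [Cfsg.Agent.LsF.fea535c_19.2, Cfsg.Agent.LsF.fea535c_20.2, Cfsg.Agent.LsF.fea535c_21.2, Cfsg.Agent.LsF.fea535c_24.2, Cfsg.Agent.LsF.fea535c_31.2, Cfsg.Agent.LsF.fea535c_15.2, Cfsg.Agent.LsF.fea535c_32.2, Cfsg.Agent.LsF.fea535c_33.2, Cfsg.Agent.LsF.fea535c_34.2])); decide +kernel)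
theorem noncen5 : chkNe mul beq 80 10 S5 B wS5 = true := by decide +kernel
theorem sub16 : chkSub T tpar 16 4 = true := by decide +kernel
theorem sub64 : chkSub T tpar 64 6 = true := by decide +kernel
theorem sub5 : chkSub T5 tpar5 16 4 = true := by decide +kernel
private noncomputable def _root_.Cfsg.Agent.LsF.fea535c_35 : {f // @Cfsg.Agent.H942.Fun.chkForest = f} := ⟨_, by first | (delta Cfsg.Agent.H942.Fun.chkForest; rewrite [Cfsg.Agent.LsF.fea535c_18.2, Cfsg.Agent.LsF.nadd_pat, Cfsg.Agent.LsF.nsub_pat, Cfsg.Agent.LsF.and_eq]; exact rfl) | exact rfl⟩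
private noncomputable def _root_.Cfsg.Agent.LsF.fea535c_17 : {f // @Cfsg.Agent.H942.U4Data.Fo = f} := ⟨_, by first | (delta Cfsg.Agent.H942.U4Data.Fo; rewrite [Cfsg.Agent.LsF.fea535c_10.2, Cfsg.Agent.LsF.fea535c_11.2]; exact rfl) | exact rfl⟩
private noncomputable def _root_.Cfsg.Agent.LsF.fea535c_36 : {f // @Cfsg.Agent.H942.U4Data.par = f} := ⟨_, by first | (delta Cfsg.Agent.H942.U4Data.par; rewrite [Cfsg.Agent.LsF.fea535c_11.2, Cfsg.Agent.LsF.ndiv_pat, Cfsg.Agent.LsF.nmod_pat]; exact rfl) | exact rfl⟩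
private noncomputable def _root_.Cfsg.Agent.LsF.fea535c_37 : {f // @Cfsg.Agent.H942.U4Data.root = f} := ⟨_, by first | (delta Cfsg.Agent.H942.U4Data.root; rewrite [Cfsg.Agent.LsF.fea535c_11.2]; exact rfl) | exact rfl⟩
theorem forest : chkForest mul beq 10 7 711 B Fo par root = true := by ((try (rewrite [Cfsg.Agent.LsF.fea535c_35.2, Cfsg.Agent.LsF.fea535c_20.2, Cfsg.Agent.LsF.fea535c_21.2, Cfsg.Agent.LsF.fea535c_16.2, Cfsg.Agent.LsF.fea535c_17.2, Cfsg.Agent.LsF.fea535c_36.2, Cfsg.Agent.LsF.fea535c_37.2])); decide +kernel)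
private noncomputable def _root_.Cfsg.Agent.LsF.fea535c_38 : {f // @Cfsg.Agent.H942.Fun.chkIdx = f} := ⟨_, by first | (delta Cfsg.Agent.H942.Fun.chkIdx; rewrite [Cfsg.Agent.LsF.fea535c_18.2, Cfsg.Agent.LsF.and_eq]; exact rfl) | exact rfl⟩
private noncomputable def _root_.Cfsg.Agent.LsF.fea535c_39 : {f // @Cfsg.Agent.H942.U4Data.idx = f} := ⟨_, by first | (delta Cfsg.Agent.H942.U4Data.idx; rewrite [Cfsg.Agent.LsF.fea535c_11.2]; exact rfl) | exact rfl⟩
theorem indices : chkIdx eqv 128 711 S Fo idx = true := by ((try (rewrite [Cfsg.Agent.LsF.fea535c_38.2, Cfsg.Agent.LsF.fea535c_24.2, Cfsg.Agent.LsF.fea535c_25.2, Cfsg.Agent.LsF.fea535c_17.2, Cfsg.Agent.LsF.fea535c_39.2])); decide +kernel)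
theorem indices5 : chkIdx eqv 80 711 S5 Fo idx5 = true := by decide +kernel
theorem h64 : allB (fun i => Nat.beq (T i 6) (64 + i)) 64 = true := by decide +kernel
private noncomputable def _root_.Cfsg.Agent.LsF.fea535c_40 : {f // @Cfsg.Agent.H942.U4Check.chkCos = f} := ⟨_, by first | (delta Cfsg.Agent.H942.U4Check.chkCos; rewrite [Cfsg.Agent.LsF.fea535c_18.2, Cfsg.Agent.LsF.fea535c_24.2, Cfsg.Agent.LsF.fea535c_20.2, Cfsg.Agent.LsF.fea535c_25.2, Cfsg.Agent.LsF.nadd_pat, Cfsg.Agent.LsF.nmul_pat]; exact rfl) | exact rfl⟩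
theorem cosets : chkCos = true := by ((try (rewrite [Cfsg.Agent.LsF.fea535c_40.2])); decide +kernel)
theorem normE : allB (fun r => chkConjG 4 16 (B r) (cE r)) 5 = true := by decide +kernel
theorem normO : chkConjG 6 64 (B 3) cO = true := by decide +kernel
theorem conjy : eqv (mul (G 6) (B 4)) (mul (B 4) (S 27)) = true := by decide +kernel
theorem GB : allB (fun i => beq (G (4 + i)) (B i)) 3 = true := by decide +kernel
theorem cubes : chkCube = true := by decide +kernel
theorem squares : allB (fun i => Nat.blt (sidx i) 711 && eqv (mul (Fo (i + 1)) (Fo (i + 1))) (Fo (sidx i))) 4 = true := by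
  decide +kernel
theorem sroots : root (sidx 0) = 0 ∧ root (sidx 1) = 1 ∧ root (sidx 2) = 1 ∧ root (sidx 3) = 2 := by decide +kernel
theorem five : beq (mul (Fo 5) (Fo 5)) (Fo 6) = true ∧ eqv (mul (mul (Fo 6) (Fo 6)) (Fo 5)) (Fo 0) = true := by
  decide +kernel
theorem prodXY : beq (mul (B 3) (B 4)) (XY 0) = true := by decide +kernel
private noncomputable def _root_.Cfsg.Agent.LsF.fea535c_41 : {f // @Cfsg.Agent.H942.U4Check.chkProd = f} := ⟨_, by first | (delta Cfsg.Agent.H942.U4Check.chkProd; rewrite [Cfsg.Agent.LsF.fea535c_18.2, Cfsg.Agent.LsF.fea535c_24.2, Cfsg.Agent.LsF.fea535c_20.2, Cfsg.Agent.LsF.fea535c_25.2, Cfsg.Agent.LsF.fea535c_17.2, Cfsg.Agent.LsF.nadd_pat, Cfsg.Agent.LsF.nmul_pat, Cfsg.Agent.LsF.and_eq, Cfsg.Agent.LsF.all_eq]; exact rfl) | exact rfl⟩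
private noncomputable def _root_.Cfsg.Agent.LsF.fea535c_42 : {f // @Cfsg.Agent.H942.U4Data.qx = f} := ⟨_, by first | (delta Cfsg.Agent.H942.U4Data.qx; rewrite [Cfsg.Agent.LsF.fea535c_11.2]; exact rfl) | exact rfl⟩
theorem prodx : chkProd (B 3) [4, 5, 6, 7] qx = true := by ((try (rewrite [Cfsg.Agent.LsF.fea535c_41.2, Cfsg.Agent.LsF.fea535c_16.2, Cfsg.Agent.LsF.fea535c_42.2])); decide +kernel)
private noncomputable def _root_.Cfsg.Agent.LsF.fea535c_43 : {f // @Cfsg.Agent.H942.U4Data.qy = f} := ⟨_, by first | (delta Cfsg.Agent.H942.U4Data.qy; rewrite [Cfsg.Agent.LsF.fea535c_11.2]; exact rfl) | exact rfl⟩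
theorem prody : chkProd (B 4) [2, 3, 6, 7] qy = true := by ((try (rewrite [Cfsg.Agent.LsF.fea535c_41.2, Cfsg.Agent.LsF.fea535c_16.2, Cfsg.Agent.LsF.fea535c_43.2])); decide +kernel)
private noncomputable def _root_.Cfsg.Agent.LsF.fea535c_44 : {f // @Cfsg.Agent.H942.U4Data.XY = f} := ⟨_, by first | (delta Cfsg.Agent.H942.U4Data.XY; rewrite [Cfsg.Agent.LsF.fea535c_10.2, Cfsg.Agent.LsF.fea535c_11.2]; exact rfl) | exact rfl⟩
private noncomputable def _root_.Cfsg.Agent.LsF.fea535c_45 : {f // @Cfsg.Agent.H942.U4Data.qxy = f} := ⟨_, by first | (delta Cfsg.Agent.H942.U4Data.qxy; rewrite [Cfsg.Agent.LsF.fea535c_11.2]; exact rfl) | exact rfl⟩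
theorem prodxy : chkProd (XY 0) [0, 1, 2, 3, 4, 5, 6, 7] qxy = true := by ((try (rewrite [Cfsg.Agent.LsF.fea535c_41.2, Cfsg.Agent.LsF.fea535c_44.2, Cfsg.Agent.LsF.fea535c_45.2])); decide +kernel)

/-- the numbers of elements of each class -/
noncomputable def cnts (n : ℕ) (f : ℕ → ℕ) : List ℕ := (List.range 7).map fun r => Cfsg.Agent.H942.Forest.cntK n (fun i => root (f i)) r

theorem cntS : cnts 128 idx = [1, 35, 20, 56, 16, 0, 0] := by decide +kernel
theorem cntE : cnts 16 idx = [1, 15, 0, 0, 0, 0, 0] := by decide +kernel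
theorem cnt5 : cnts 80 idx5 = [1, 15, 0, 0, 0, 32, 32] := by decide +kernel
theorem cntE5 : cnts 16 idx5 = [1, 15, 0, 0, 0, 0, 0] := by decide +kernel
theorem cnt_x_4 : cnts 16 (fun j => qx (16 * 4 + j)) = [0, 4, 4, 8, 0, 0, 0] := by decide +kernel
theorem cnt_x_5 : cnts 16 (fun j => qx (16 * 5 + j)) = [0, 0, 0, 8, 8, 0, 0] := by decide +kernel
theorem cnt_x_6 : cnts 16 (fun j => qx (16 * 6 + j)) = [0, 4, 4, 8, 0, 0, 0] := by decide +kernel
theorem cnt_x_7 : cnts 16 (fun j => qx (16 * 7 + j)) = [0, 0, 0, 8, 8, 0, 0] := by decide +kernel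
theorem cnt_y_2 : cnts 16 (fun j => qy (16 * 2 + j)) = [0, 4, 4, 8, 0, 0, 0] := by decide +kernel
theorem cnt_y_3 : cnts 16 (fun j => qy (16 * 3 + j)) = [0, 0, 0, 8, 8, 0, 0] := by decide +kernel
theorem cnt_y_6 : cnts 16 (fun j => qy (16 * 6 + j)) = [0, 0, 0, 8, 8, 0, 0] := by decide +kernel
theorem cnt_y_7 : cnts 16 (fun j => qy (16 * 7 + j)) = [0, 4, 4, 8, 0, 0, 0] := by decide +kernel
theorem cnt_xy_0 : cnts 16 (fun j => qxy (16 * 0 + j)) = [0, 0, 0, 0, 0, 0, 16] := by decide +kernel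
theorem cnt_xy_1 : cnts 16 (fun j => qxy (16 * 1 + j)) = [0, 0, 0, 8, 8, 0, 0] := by decide +kernel
theorem cnt_xy_2 : cnts 16 (fun j => qxy (16 * 2 + j)) = [0, 0, 0, 8, 8, 0, 0] := by decide +kernel
theorem cnt_xy_3 : cnts 16 (fun j => qxy (16 * 3 + j)) = [0, 0, 0, 0, 0, 16, 0] := by decide +kernel
theorem cnt_xy_4 : cnts 16 (fun j => qxy (16 * 4 + j)) = [0, 0, 0, 0, 0, 16, 0] := by decide +kernel
theorem cnt_xy_5 : cnts 16 (fun j => qxy (16 * 5 + j)) = [0, 0, 0, 8, 8, 0, 0] := by decide +kernel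
theorem cnt_xy_6 : cnts 16 (fun j => qxy (16 * 6 + j)) = [0, 0, 0, 0, 0, 0, 16] := by decide +kernel
theorem cnt_xy_7 : cnts 16 (fun j => qxy (16 * 7 + j)) = [0, 0, 0, 8, 8, 0, 0] := by decide +kernel

end Cfsg.Agent.H942.U4Check
end

-- part: H942/Sp6Sys
section
/-!
# `Sp₆(3)` by lists
-/

set_option autoImplicit false

namespace Cfsg.Agent.H942.Sp6Sys

open Cfsg.Agent.H942.LMat Cfsg.Agent.H942.Pool

/-- the symplectic group -/
abbrev Sp := Matrix.symplecticGroup (Fin 3) (ZMod 3)

/-- the matrix of an element, indexed by `Fin 6` -/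
def M (g : Sp) : Matrix (Fin 6) (Fin 6) (ZMod 3) :=
  Matrix.reindex (finSumFinEquiv : Fin 3 ⊕ Fin 3 ≃ Fin 6) (finSumFinEquiv : Fin 3 ⊕ Fin 3 ≃ Fin 6)
    (g : Matrix (Fin 3 ⊕ Fin 3) (Fin 3 ⊕ Fin 3) (ZMod 3))

theorem M_mul (g h : Sp) : M (g * h) = M g * M h := by
  unfold M
  rw [Submonoid.coe_mul]
  simp only [Matrix.reindex_apply]
  exact (Matrix.submatrix_mul_equiv _ _ _ _ _).symm

theorem M_inj {g h : Sp} (H : M g = M h) : g = h := by
  apply Subtype.ext
  exact (Matrix.reindex (finSumFinEquiv : Fin 3 ⊕ Fin 3 ≃ Fin 6) (finSumFinEquiv : Fin 3 ⊕ Fin 3 ≃ Fin 6)).injective H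

theorem M_one : M 1 = 1 := by
  unfold M
  rw [Submonoid.coe_one]
  simp only [Matrix.reindex_apply]
  exact Matrix.submatrix_one_equiv _

theorem mk_eq_of_neg {g h : Sp} (H : M g = - M h) :
    (QuotientGroup.mk g : Sp ⧸ Subgroup.center Sp) = QuotientGroup.mk h := by
  rw [QuotientGroup.eq, Subgroup.mem_center_iff]
  have h1 : M (g⁻¹ * h) = -1 := by
    have h2 : M h = - M g := by rw [H, neg_neg]
    rw [M_mul, h2, mul_neg, ← M_mul, inv_mul_cancel, M_one]
  intro x
  apply M_inj
  rw [M_mul x, M_mul _ x, h1]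
  simp

theorem three_zero : (3 : ZMod 3) = 0 := by decide

/-- entries less than 3 -/
def Red (a : List (List ℕ)) : Prop := ∀ r ∈ a, ∀ x ∈ r, x < 3

theorem mmul_red (a b : List (List ℕ)) : Red (mmul a b) := by
  intro r hr x hx
  rw [mmul, List.mem_map] at hr
  obtain ⟨s, -, rfl⟩ := hr
  rw [List.mem_map] at hx
  obtain ⟨y, -, rfl⟩ := hx
  exact Nat.mod_lt _ (by norm_num)

theorem toM_inj {n : ℕ} {a b : List (List ℕ)} (ha : WF n a) (hb : WF n b) (ra : Red a) (rb : Red b)
    (h : toM (ZMod 3) n a = toM (ZMod 3) n b) : a = b := by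
  apply List.ext_getElem (by rw [ha.1, hb.1])
  intro i h1 h2
  apply List.ext_getElem (by rw [ha.2 _ (List.getElem_mem _), hb.2 _ (List.getElem_mem _)])
  intro j h3 h4
  have hi : i < n := by rw [← ha.1]; exact h1
  have hj : j < n := by rw [← ha.2 _ (List.getElem_mem h1)]; exact h3
  have h5 := congrFun (congrFun h ⟨i, hi⟩) ⟨j, hj⟩
  rw [toM_apply, toM_apply] at h5
  simp only [List.getD_eq_getElem _ _ h1, List.getD_eq_getElem _ _ h2, List.getD_eq_getElem _ _ h3,
    List.getD_eq_getElem _ _ h4] at h5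
  have r1 := ra _ (List.getElem_mem h1) _ (List.getElem_mem h3)
  have r2 := rb _ (List.getElem_mem h2) _ (List.getElem_mem h4)
  have h6 := congrArg ZMod.val h5
  rwa [ZMod.val_natCast, ZMod.val_natCast, Nat.mod_eq_of_lt r1, Nat.mod_eq_of_lt r2] at h6

theorem beqL_refl : ∀ a : List ℕ, beqL a a = true
  | [] => rfl
  | a :: as => by rw [beqL, beqL_refl as, Bool.and_true]; exact Nat.beq_refl a

theorem beqM_refl : ∀ a : List (List ℕ), beqM a a = true
  | [] => rfl
  | a :: as => by rw [beqM, beqM_refl as, beqL_refl]; rfl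

/-- `Sp₆(3)` represented by lists of lists -/
def sys : Sys Sp (List (List ℕ)) where
  mul := mmul
  beq := beqM
  eqv a b := beqM a b || beqM a (mlin 1 b b)
  R g a := WF 6 a ∧ M g = toM (ZMod 3) 6 a
  R_mul := by
    rintro g h a b ⟨ha, hg⟩ ⟨hb, hh⟩
    exact ⟨mmul_WF (by norm_num) ha hb, by rw [M_mul, hg, hh, toM_mmul three_zero ha hb]⟩
  beq_eq := beqM_eq
  R_eqv := by
    rintro g h a b ⟨ha, hg⟩ ⟨hb, hh⟩ hab
    rw [Bool.or_eq_true] at hab
    rcases hab with hab | hab
    · rw [beqM_eq hab] at hg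
      rw [M_inj (hg.trans hh.symm)]
    · rw [beqM_eq hab, toM_mlin three_zero 1 hb hb] at hg
      apply mk_eq_of_neg
      rw [hg, hh]
      ext i j
      simp only [Matrix.add_apply, Matrix.smul_apply, Matrix.neg_apply, smul_eq_mul, Nat.cast_one, one_mul]
      generalize toM (ZMod 3) 6 b i j = z
      revert z
      decide
  R_inj := by
    rintro g h a ⟨-, hg⟩ ⟨-, hh⟩
    exact M_inj (hg.trans hh.symm)

theorem Runi {g : Sp} {a b : List (List ℕ)} (ha : sys.R g a) (hb : sys.R g b) (ha' : ∃ x y, sys.mul x y = a)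
    (hb' : ∃ x y, sys.mul x y = b) : a = b := by
  obtain ⟨x, y, rfl⟩ := ha'
  obtain ⟨x', y', rfl⟩ := hb'
  exact toM_inj ha.1 hb.1 (mmul_red _ _) (mmul_red _ _) (ha.2.symm.trans hb.2)

/-- the transpose -/
def trL (n : ℕ) (a : List (List ℕ)) : List (List ℕ) :=
  (List.range n).map fun j => (List.range n).map fun i => (a.getD i []).getD j 0

theorem trL_WF (n : ℕ) (a : List (List ℕ)) : WF n (trL n a) := by
  refine ⟨by simp only [trL, _root_.List.getD_eq_getElem?_getD, _root_.List.length_map, _root_.List.length_range], fun r hr => ?_⟩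
  rw [trL, List.mem_map] at hr
  obtain ⟨j, -, rfl⟩ := hr
  simp

theorem toM_trL {R : Type*} [CommRing R] (n : ℕ) (a : List (List ℕ)) : toM R n (trL n a) = (toM R n a).transpose := by
  ext i j
  rw [Matrix.transpose_apply, toM_apply, toM_apply]
  congr 1
  have h1 : (i : ℕ) < (trL n a).length := by rw [trL, List.length_map, List.length_range]; exact i.2
  rw [List.getD_eq_getElem _ _ h1]
  simp only [trL, List.getElem_map, List.getElem_range]
  have h2 : (j : ℕ) < ((List.range n).map fun k => (a.getD k []).getD (i : ℕ) 0).length := by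
    rw [List.length_map, List.length_range]; exact j.2
  rw [List.getD_eq_getElem _ _ h2]
  simp only [List.getElem_map, List.getElem_range]

/-- the matrix of the form -/
def Jl : List (List ℕ) :=
  (beta% delta% lq265547e9aa43 fun _ _ vqc2 _ vqc4 _ _ _ _ =>
      (vqc2 (vqc2 0 (vqc2 0 (vqc2 0 (vqc2 2 (vqc2 0 (vqc2 0 vqc4)))))) (vqc2 (vqc2 0 (vqc2 0 (vqc2 0 (vqc2 0 (vqc2 2 (vqc2 0 vqc4)))))) (vqc2 (vqc2 0 (vqc2 0 (vqc2 0 (vqc2 0 (vqc2 0 (vqc2 2 vqc4)))))) (vqc2 (vqc2 1 (vqc2 0 (vqc2 0 (vqc2 0 (vqc2 0 (vqc2 0 vqc4)))))) (vqc2 (vqc2 0 (vqc2 1 (vqc2 0 (vqc2 0 (vqc2 0 (vqc2 0 vqc4))))))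
      (vqc2 (vqc2 0 (vqc2 0 (vqc2 1 (vqc2 0 (vqc2 0 (vqc2 0 vqc4)))))) vqc4)))))))

theorem Jl_eq : Matrix.reindex (finSumFinEquiv : Fin 3 ⊕ Fin 3 ≃ Fin 6) (finSumFinEquiv : Fin 3 ⊕ Fin 3 ≃ Fin 6)
    (Matrix.J (Fin 3) (ZMod 3)) = toM (ZMod 3) 6 Jl := by
  decide +kernel

/-- membership -/
theorem exists_R {a : List (List ℕ)} (ha : WF 6 a) (h : beqM (mmul (mmul a Jl) (trL 6 a)) Jl = true) :
    ∃ g : Sp, sys.R g a := by
  have hJ : WF 6 Jl := by decide
  have h1 := congrArg (toM (ZMod 3) 6) (beqM_eq h)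
  rw [toM_mmul three_zero (mmul_WF (by norm_num) ha hJ) (trL_WF 6 a), toM_mmul three_zero ha hJ, toM_trL, ← Jl_eq] at h1
  let e : Fin 3 ⊕ Fin 3 ≃ Fin 6 := finSumFinEquiv
  let A : Matrix (Fin 3 ⊕ Fin 3) (Fin 3 ⊕ Fin 3) (ZMod 3) := (Matrix.reindex e e).symm (toM (ZMod 3) 6 a)
  have hA : Matrix.reindex e e A = toM (ZMod 3) 6 a := Equiv.apply_symm_apply _ _
  refine ⟨⟨A, ?_⟩, ha, hA⟩
  rw [SymplecticGroup.mem_iff]
  apply (Matrix.reindex e e).injective
  have h2 : ∀ X Y : Matrix (Fin 3 ⊕ Fin 3) (Fin 3 ⊕ Fin 3) (ZMod 3),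
      Matrix.reindex e e (X * Y) = Matrix.reindex e e X * Matrix.reindex e e Y := by
    intro X Y
    simp only [Matrix.reindex_apply]
    exact (Matrix.submatrix_mul_equiv _ _ _ _ _).symm
  rw [h2, h2, hA]
  have h3 : Matrix.reindex e e A.transpose = (toM (ZMod 3) 6 a).transpose := by
    rw [← hA]
    rfl
  rw [h3]
  exact h1

end Cfsg.Agent.H942.Sp6Sys
end

-- part: H942/Sp6Data
section
/-!
# A subgroup of order 128 of `PSp₆(3)`: data
-/

set_option autoImplicit false

namespace Cfsg.Agent.H942.Sp6Data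

open Cfsg.Agent.H942.LMat Cfsg.Agent.H942.Pool Cfsg.Agent.H942.Forest Cfsg.Agent.H942.Sp6Sys

/-- conjugating elements -/
noncomputable def B : List (List (List ℕ)) :=
  (by
  refine (?fq9001 : ((pk61l (fun i1 => (pk61l (fun i2 => (pk61l (fun i3 => (pk61d (nat_lit 2) 
    (nat_lit 0x400180280010009005040100400001004010400040100010001004010100040800004001400004040010200001400100001010004080400100040410004001400100040010104001400100040010004041) i3)) (Nat.mul (nat_lit 6) i2) (Nat.mul (nat_lit 6) (Nat.succ i2)) List.nil)) (Nat.mul (nat_lit 6) i1) (Nat.mul (nat_lit 6) (Nat.succ i1)) List.nil)) (nat_lit 0) (nat_lit 9) List.nil) : List (List (List ℕ)))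
    = ?xq9001 → (List (List (List ℕ)))) ?hq9001; (case hq9001 => (set_option maxRecDepth 1000000 in set_option simprocs false in conv => lhs; reduce; dsimp only)); intro _; exact ?xq9001 : List (List (List ℕ)))

/-- their inverses -/
noncomputable def B' : List (List (List ℕ)) :=
  (by
  refine (?fq9002 : ((pk61l (fun i1 => (pk61l (fun i2 => (pk61l (fun i3 => (pk61d (nat_lit 2) 
    (nat_lit 0x40024014001000600a040100400001004010400040100010001004020100040400004001400008040010100001400100002010004040400100040810004001400100040010204001400100040010004081) i3)) (Nat.mul (nat_lit 6) i2) (Nat.mul (nat_lit 6) (Nat.succ i2)) List.nil)) (Nat.mul (nat_lit 6) i1) (Nat.mul (nat_lit 6) (Nat.succ i1)) List.nil)) (nat_lit 0) (nat_lit 9) List.nil) : List (List (List ℕ)))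
    = ?xq9002 → (List (List (List ℕ)))) ?hq9002; (case hq9002 => (set_option maxRecDepth 1000000 in set_option simprocs false in conv => lhs; reduce; dsimp only)); intro _; exact ?xq9002 : List (List (List ℕ)))

/-- generators -/
noncomputable def G : List (List (List ℕ)) :=
  (by
  refine (?fq9003 : ((pk61l (fun i1 => (pk61l (fun i2 => (pk61l (fun i3 => (pk61d (nat_lit 2) 
    (nat_lit 0x420041008820042100800042204020082104010204082800104081) i3)) (Nat.mul (nat_lit 6) i2) (Nat.mul (nat_lit 6) (Nat.succ i2)) List.nil)) (Nat.mul (nat_lit 6) i1) (Nat.mul (nat_lit 6) (Nat.succ i1)) List.nil)) (nat_lit 0) (nat_lit 3) List.nil) : List (List (List ℕ)))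
    = ?xq9003 → (List (List (List ℕ)))) ?hq9003; (case hq9003 => (set_option maxRecDepth 1000000 in set_option simprocs false in conv => lhs; reduce; dsimp only)); intro _; exact ?xq9003 : List (List (List ℕ)))

/-- elements -/
noncomputable def E : List (List (List ℕ)) :=
  let y0 : List (List (List ℕ)) := (by
  refine (?fq9004 : (pk61l (fun i0 => (pk61l (fun i1 => (pk61l (fun i2 => (pk61d (nat_lit 2) 
    (nat_lit 0x800081204020041104810041004410042200010040008800001100820002204810040104400008001010100080420204040820104001800100080020004002810104001410108080420104001820108080800200040020008001010002200800040008410040104420001108820041200810042008010081104800041108020002200400040008410080208420002204020080008400002100410001204420080104420008082820100081400108042010208082810200042410008082400208082010204081800008001020100080810204040410104001810100042410004082400104082010108081410080104420002108010001200800080008020208081400204041) i2)) (Nat.mul (nat_lit 6) i1)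 (Nat.mul (nat_lit 6) (Nat.succ i1)) List.nil)) (Nat.mul (nat_lit 6) i0) (Nat.mul (nat_lit 6) (Nat.succ i0)) List.nil)) (nat_lit 0) (nat_lit 29) List.nil : List (List (List ℕ)))
    = ?xq9004 → (List (List (List ℕ)))) ?hq9004; (case hq9004 => (set_option maxRecDepth 1000000 in set_option simprocs false in conv => lhs; reduce; dsimp only)); intro _; exact ?xq9004 : List (List (List ℕ)))
  let y1 : List (List (List ℕ)) := (by
  refine (?fq9005 : (fun tl : List (List (List ℕ)) => pk61l (fun i0 => (pk61l (fun i1 => (pk61l (fun i2 => (pk61d (nat_lit 2) 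
    (nat_lit 0x410100041420004042010108082800208081820008081810100041410008081420100041010204041800104042400082208010081204810042200410082008420002208820040204400040200010001008800082208020081204810081100410041004800081108020041208810041008410042100410208040420204001020200001400008080820204001810104080020004040400200001010208081800204041820100041810004042820108001810208080020008040400100001810081200410041008400041208010042204010108041800208042820008042810100082810040204410001104800001008020080100420001104820080108800040200020001008400081204010041104420041004820042200810080204410002104400001004010080200) i2)) (Nat.mul (nat_lit 6) i1) (Nat.mul (nat_lit 6) (Nat.succ i1)) List.nil)) (Nat.mul (nat_lit 6) i0) (Nat.mul (nat_lit 6) (Nat.succ i0)) List.nil)) (nat_lit 0) (nat_lit 33) tl)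
    = ?xq9005 → (List (List (List ℕ)))) ?hq9005; (case hq9005 => (set_option maxRecDepth 1000000 in set_option simprocs false in conv => lhs; reduce; dsimp only)); intro _; exact ?xq9005 y0 : List (List (List ℕ)))
  let y2 : List (List (List ℕ)) := (by
  refine (?fq9006 : (fun tl : List (List (List ℕ)) => pk61l (fun i0 => (pk61l (fun i1 => (pk61l (fun i2 => (pk61d (nat_lit 2) 
    (nat_lit 0x20008080400100002820108002810208040820104040810108001020200002400008040800002004020040200420040204820001104800001004020080200810040108410001208410200041420008042020104081400108041400200080010008002420208001820204080820042008810082100010041108800042208410041200420042008010042208800082204020040008400001100410002204420040104820081008810041100020041204400042104800208082020204081420200042820008082420008041820100042800204042020104082010082204800081104410042008420082100010041204800042104820042004810082200810204080410104002800008002020100040410041100420042004010042104800082108400204081010104041)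 i2)) (Nat.mul (nat_lit 6) i1) (Nat.mul (nat_lit 6) (Nat.succ i1)) List.nil)) (Nat.mul (nat_lit 6) i0) (Nat.mul (nat_lit 6) (Nat.succ i0)) List.nil)) (nat_lit 0) (nat_lit 33) tl)
    = ?xq9006 → (List (List (List ℕ)))) ?hq9006; (case hq9006 => (set_option maxRecDepth 1000000 in set_option simprocs false in conv => lhs; reduce; dsimp only)); intro _; exact ?xq9006 y1 : List (List (List ℕ)))
  (by
  refine (?fq9007 : (fun tl : List (List (List ℕ)) => pk61l (fun i0 => (pk61l (fun i1 => (pk61l (fun i2 => (pk61d (nat_lit 2) 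
    (nat_lit 0x810008082410100081800104082020108081810200081410008041010081208800041204820041100810042004420204080820104002800004001020200080810002104410040108400080200010002008020100002400004040820208040810204001010008040800100001820204002810104040400040100010001004420002104820040108410100082420004081010104081800108041020100001400004080410104040420108001420081200820041008410008042420100082400082104010081108800108081020208041810008041410100042410040208420001204810208001410204080020001200400080008820001204810080104020040004400001200420041008820042100800042204020082104010204082800104081400100040010004001) i2)) (Nat.mul (nat_lit 6) i1) (Nat.mul (nat_lit 6) (Nat.succ i1)) List.nil)) (Nat.mul (nat_lit 6) i0) (Nat.mul (nat_lit 6) (Nat.succ i0)) List.nil)) (nat_lit 0) (nat_lit 33) tl)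
    = ?xq9007 → (List (List (List ℕ)))) ?hq9007; (case hq9007 => (set_option maxRecDepth 1000000 in set_option simprocs false in conv => lhs; reduce; dsimp only)); intro _; exact ?xq9007 y2 : List (List (List ℕ)))

/-- the table -/
noncomputable def T : List (List ℕ) :=
  (by
  refine (?fq9008 : ((pk61l (fun i1 => (pk61l (fun i2 => (pk61d (nat_lit 7) 
    (nat_lit 0xf1e78ecdbc3061b352ad8b9768c89343f7fc31a3e0b56efc48b7b1638b4a9c4bd7e1d5a90a851ff0607e952e63e7f37ffe7f6ed3ebb727bc7b3ac59c6f5e6299369ba774a74face5c57e9d74b46ba3e7df2c99f8e5cfbb063dbd7b63ab5b0eddd7edd8bb469fab567c6cdf22a5797efc57cf92aebd33a8539b871f6a547ac9975a64fab367dc9526fddbdba246dbdfa46b16a2f3e1320429fbf6ea85074489799e3fc9ab43fc781edfbb69c3bb35ea3ba741ccf9991a36cd72f379721aad5e598332b1e23302098c381d162eeefdeba5cb5c70e6d942b6a4c82b66c14af5aa9227529d227468129f3a310231e1432336610972a48e1f223c61f1620e870a08b1b01fbe7a0463c76e9c8d16e1bb66a2453466c853160257ae5a1842c56a94800ea13a64a2032446890840a80f9e0a74e073668219305c1032c54a032648611200878e1a3008b14244070018284000c101)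 i2)) (Nat.mul (nat_lit 3) i1) (Nat.mul (nat_lit 3) (Nat.succ i1)) List.nil)) (nat_lit 0) (nat_lit 128) List.nil) : List (List ℕ))
    = ?xq9008 → (List (List ℕ))) ?hq9008; (case hq9008 => (set_option maxRecDepth 1000000 in set_option simprocs false in conv => lhs; reduce; dsimp only)); intro _; exact ?xq9008 : List (List ℕ))

/-- parents -/
noncomputable def tpar : List (ℕ × ℕ) :=
  (by
  refine (?fq9009 : ((pk61l (fun i1 => (_root_.Prod.mk (pk61d (nat_lit 7) 
    (nat_lit 0x1b76d5ab264c78f162c5890e14080fdfbf7cf5ebc78eddb870d5ab366c58b160bd72c58ad5ab54a54a8509d3a4488d1a344850a0407cf9f3c74e9d386cd9b3464c99305cb962c54a95284c9932444891203c78f1c3468c182c58a1428488101c3860c14285081018306081010200000) i1) (pk61d (nat_lit 2) 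
    (nat_lit 0x2666640264266666640264266664266424242426642424242666426664892264) i1))) (nat_lit 0) (nat_lit 127) List.nil) : List (ℕ × ℕ))
    = ?xq9009 → (List (ℕ × ℕ))) ?hq9009; (case hq9009 => (set_option maxRecDepth 1000000 in set_option simprocs false in conv => lhs; reduce; dsimp only)); intro _; exact ?xq9009 : List (ℕ × ℕ))

/-- the forest -/
noncomputable def Fo : List (List (List ℕ)) :=
  let y0 : List (List (List ℕ)) := (by
  refine (?fq9010 : (pk61l (fun i0 => (pk61l (fun i1 => (pk61l (fun i2 => (pk61d (nat_lit 2) 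
    (nat_lit 0x10042208800082204020042208400082204820040104810001108410040104420001108820080104810002108810002104410040108420002104820040108420002208820040204810002208410040204020082108400081208) i2)) (Nat.mul (nat_lit 6) i1) (Nat.mul (nat_lit 6) (Nat.succ i1)) List.nil)) (Nat.mul (nat_lit 6) i0) (Nat.mul (nat_lit 6) (Nat.succ i0)) List.nil)) (nat_lit 0) (nat_lit 10) List.nil : List (List (List ℕ)))
    = ?xq9010 → (List (List (List ℕ)))) ?hq9010; (case hq9010 => (set_option maxRecDepth 1000000 in set_option simprocs false in conv => lhs; reduce; dsimp only)); intro _; exact ?xq9010 : List (List (List ℕ)))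
  let y1 : List (List (List ℕ)) := (by
  refine (?fq9011 : (fun tl : List (List (List ℕ)) => pk61l (fun i0 => (pk61l (fun i1 => (pk61l (fun i2 => (pk61d (nat_lit 2) 
    (nat_lit 0x420082108820081208810082108410081208010082108800081208420080204820002104810080204410002104010082204800081104010081208800041204020082204400081104020081208400041204420081208820041204810081208410041204420040204820001104810040204410001104410001204420080104410080104420002108410002108420040208420081200820041008820041100810042004410041100420042004410041100420080204410041100420001104410001008420082108010001008800082108820041200810042008410041200420042008410001200420082208410081200420002108420081100820041004810081100410041004020001100400080004420001100820080004810001100410080004810001100410081204) i2)) (Nat.mul (nat_lit 6) i1) (Nat.mul (nat_lit 6) (Nat.succ i1)) List.nil)) (Nat.mul (nat_lit 6) i0) (Nat.mul (nat_lit 6) (Nat.succ i0)) List.nil)) (nat_lit 0) (nat_lit 33) tl)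
    = ?xq9011 → (List (List (List ℕ)))) ?hq9011; (case hq9011 => (set_option maxRecDepth 1000000 in set_option simprocs false in conv => lhs; reduce; dsimp only)); intro _; exact ?xq9011 y0 : List (List (List ℕ)))
  let y2 : List (List (List ℕ)) := (by
  refine (?fq9012 : (fun tl : List (List (List ℕ)) => pk61l (fun i0 => (pk61l (fun i1 => (pk61l (fun i2 => (pk61d (nat_lit 2) 
    (nat_lit 0x20001200400080008420001200820080008810001200410080008810081200410080208820042008810082100410042008420082100420041008820042100010080008800002100010080108800082100010082208800040008010040004800001200010001100800080004010001100800081204010081008800002104420082008820081100810082008410081100810081200410041008820042004810082200820001108810080208410042004420082200410001108420080208010001108800080208810001108410080208410042108420001100410001208420081008010001208800081008810001208410081008810001008410082108810081008410002104010040008800001100010080004800002200010001200800080008010081200800080208)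 i2)) (Nat.mul (nat_lit 6) i1) (Nat.mul (nat_lit 6) (Nat.succ i1)) List.nil)) (Nat.mul (nat_lit 6) i0) (Nat.mul (nat_lit 6) (Nat.succ i0)) List.nil)) (nat_lit 0) (nat_lit 33) tl)
    = ?xq9012 → (List (List (List ℕ)))) ?hq9012; (case hq9012 => (set_option maxRecDepth 1000000 in set_option simprocs false in conv => lhs; reduce; dsimp only)); intro _; exact ?xq9012 y1 : List (List (List ℕ)))
  let y3 : List (List (List ℕ)) := (by
  refine (?fq9013 : (fun tl : List (List (List ℕ)) => pk61l (fun i0 => (pk61l (fun i1 => (pk61l (fun i2 => (pk61d (nat_lit 2) 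
    (nat_lit 0x10041208800001100410041108420080100010041108800080100810041108410080100810041208410001100820100041810004042410100041420004042410100082420004081820100082810004081810100042410004082420100042820004082420100081820004041810100081410004041420108040820208001400108042010208082400208042010204082810108040410208001400108081010208041410104040420108001400104041010108042400004041010200042820104040810108001410208040420204001820208040810204001420204040820104001400204042010104082810204040410104001400204081010104041400041104010042108400082208010081204400042108010082208400208041010204042400081204010041104) i2)) (Nat.mul (nat_lit 6) i1) (Nat.mul (nat_lit 6) (Nat.succ i1)) List.nil)) (Nat.mul (nat_lit 6) i0) (Nat.mul (nat_lit 6) (Nat.succ i0)) List.nil)) (nat_lit 0) (nat_lit 33) tl)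
    = ?xq9013 → (List (List (List ℕ)))) ?hq9013; (case hq9013 => (set_option maxRecDepth 1000000 in set_option simprocs false in conv => lhs; reduce; dsimp only)); intro _; exact ?xq9013 y2 : List (List (List ℕ)))
  let y4 : List (List (List ℕ)) := (by
  refine (?fq9014 : (fun tl : List (List (List ℕ)) => pk61l (fun i0 => (pk61l (fun i1 => (pk61l (fun i2 => (pk61d (nat_lit 2) 
    (nat_lit 0x400104082010108081400208082010204081400040200010001008400080100010002004020100001400004080020004040400200001010100001800004080010004040800200001010100002800004040010008040800100001020100002400004040020008040400100001400004001010200080400001004010080200400004002010200040400204002010104040400108002010208040400208002010204040400002008010040100400008001010100080400008081010100041400008042010100082400008082010100081020108041400208042810004082410200081420008082820100081020208042400204082020108082400208081020104081400108041020204041400104042020104042400108082020208081400204041020204082400104081)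 i2)) (Nat.mul (nat_lit 6) i1) (Nat.mul (nat_lit 6) (Nat.succ i1)) List.nil)) (Nat.mul (nat_lit 6) i0) (Nat.mul (nat_lit 6) (Nat.succ i0)) List.nil)) (nat_lit 0) (nat_lit 33) tl)
    = ?xq9014 → (List (List (List ℕ)))) ?hq9014; (case hq9014 => (set_option maxRecDepth 1000000 in set_option simprocs false in conv => lhs; reduce; dsimp only)); intro _; exact ?xq9014 y3 : List (List (List ℕ)))
  (by
  refine (?fq9015 : (fun tl : List (List (List ℕ)) => pk61l (fun i0 => (pk61l (fun i1 => (pk61l (fun i2 => (pk61d (nat_lit 2) 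
    (nat_lit 0x820008042810100082410008042420100082410008081420100041410108002420208040820108002810208040420208001820204080420004082820200081820004082810200081820204082810104081420208002820204040420104002820108040820104002810108040810208002410204040810008082410100081820008081810100041410204002420104040820004002810200040400200040010008001800100040020004001400100080010004002400082104010081108400041208010042204400081108010041208400080200010002008400040100010001004400001008010080100400002004010040200400002204010042200810041008410042100400008002010100040820204002810104040400042204010082104400100040010004001) i2)) (Nat.mul (nat_lit 6) i1) (Nat.mul (nat_lit 6) (Nat.succ i1)) List.nil)) (Nat.mul (nat_lit 6) i0) (Nat.mul (nat_lit 6) (Nat.succ i0)) List.nil)) (nat_lit 0) (nat_lit 33) tl)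
    = ?xq9015 → (List (List (List ℕ)))) ?hq9015; (case hq9015 => (set_option maxRecDepth 1000000 in set_option simprocs false in conv => lhs; reduce; dsimp only)); intro _; exact ?xq9015 y4 : List (List (List ℕ)))

/-- parents -/
noncomputable def par : List (ℕ × ℕ) :=
  (by
  refine (?fq9016 : ((pk61l (fun i1 => (_root_.Prod.mk (pk61d (nat_lit 4) 
    (nat_lit 0x66545666625336662625166436551142250035425142503515143414254365622142210043032221166666666711747107777378338384134676767678814118030075767677676665462104216765187883643610) i1) (pk61d (nat_lit 8) 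
    (nat_lit 0xa2a5ab6f96047d7574a4a39a9e94739e9a9c9b9a678988966f7e739291908f8e688c8b8a618804868584678281805e7e6c047b7a7678777667747304716f6f6e6d696b6a69686704646463625e605f5e044d504c4b52554a4854532c51474f4e35414340494747404442434041402b2f2f3c333a35382e36030333323130032e2d2c2b031d1a20261c24111621021c1d111c021a1918021615101312020202080d090101010606060501) i1))) (nat_lit 0) (nat_lit 170) List.nil) : List (ℕ × ℕ))
    = ?xq9016 → (List (ℕ × ℕ))) ?hq9016; (case hq9016 => (set_option maxRecDepth 1000000 in set_option simprocs false in conv => lhs; reduce; dsimp only)); intro _; exact ?xq9016 : List (ℕ × ℕ))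

/-- roots -/
noncomputable def root : List ℕ :=
  (by
  refine (?fq9017 : ((pk61l (fun i1 => (pk61d (nat_lit 3) 
    (nat_lit 0x12492492492492492492492492492492492492492492492492492492492491b6db6db6db6db6db6db6db6db6db6db6db6db69249249249249249249224924924c688) i1)) (nat_lit 0) (nat_lit 175) List.nil) : List ℕ)
    = ?xq9017 → (List ℕ)) ?hq9017; (case hq9017 => (set_option maxRecDepth 1000000 in set_option simprocs false in conv => lhs; reduce; dsimp only)); intro _; exact ?xq9017 : List ℕ)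

/-- positions -/
def idx : List ℕ :=
  (by
  refine (?fq9018 : ((pk61l (fun i1 => (pk61d (nat_lit 8) 
    (nat_lit 0x4475666f2e4a0f17140d87ab8dad78ac799728545740334859419664225c24121e264589a73f468801044c391d3c235d1136730b21209806a63e4274a0343a1c4d3b07992fa15a250e1b7f9d8cae657170a24f5629519f7ea5725535929c471343589e935203a909374b380208a85b273d50941f0c491aaa1683957c7d0a2a00) i1)) (nat_lit 0) (nat_lit 128) List.nil) : List ℕ)
    = ?xq9018 → (List ℕ)) ?hq9018; (case hq9018 => (set_option maxRecDepth 1000000 in set_option simprocs false in conv => lhs; reduce; dsimp only)); intro _; exact ?xq9018 : List ℕ)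

/-- squares of the representatives -/
noncomputable def Sq : List (List (List ℕ)) :=
  (by
  refine (?fq9019 : ((pk61l (fun i1 => (pk61l (fun i2 => (pk61l (fun i3 => (pk61d (nat_lit 2) 
    (nat_lit 0x800108081020208041400200080010008002800200080020008002400100040010004001) i3)) (Nat.mul (nat_lit 6) i2) (Nat.mul (nat_lit 6) (Nat.succ i2)) List.nil)) (Nat.mul (nat_lit 6) i1) (Nat.mul (nat_lit 6) (Nat.succ i1)) List.nil)) (nat_lit 0) (nat_lit 4) List.nil) : List (List (List ℕ)))
    = ?xq9019 → (List (List (List ℕ)))) ?hq9019; (case hq9019 => (set_option maxRecDepth 1000000 in set_option simprocs false in conv => lhs; reduce; dsimp only)); intro _; exact ?xq9019 : List (List (List ℕ)))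

/-- positions -/
noncomputable def sidx : List ℕ :=
  [0,0,14,73]

/-- membership check -/
def chkMem (L : List (List (List ℕ))) : Bool :=
  L.all fun a => decide (WF 6 a) && beqM (mmul (mmul a Jl) (trL 6 a)) Jl

/-- the identity -/
def one6 : List (List ℕ) := (beta% delta% lq265547e9aa43 fun _ _ vqc2 _ vqc4 _ _ _ _ =>
    (vqc2 (vqc2 1 (vqc2 0 (vqc2 0 (vqc2 0 (vqc2 0 (vqc2 0 vqc4)))))) (vqc2 (vqc2 0 (vqc2 1 (vqc2 0 (vqc2 0 (vqc2 0 (vqc2 0 vqc4)))))) (vqc2 (vqc2 0 (vqc2 0 (vqc2 1 (vqc2 0 (vqc2 0 (vqc2 0 vqc4)))))) (vqc2 (vqc2 0 (vqc2 0 (vqc2 0 (vqc2 1 (vqc2 0 (vqc2 0 vqc4)))))) (vqc2 (vqc2 0 (vqc2 0 (vqc2 0 (vqc2 0 (vqc2 1 (vqc2 0 vqc4)))))) (vqc2 (vqc2 0 (vqc2 0 (vqc2 0 (vqc2 0 (vqc2 0 (vqc2 1 vqc4)))))) vqc4)))))))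

private noncomputable def _root_.Cfsg.Agent.LsF.fea535c_46 : {f // @Cfsg.Agent.H942.LMat.beqL = f} := ⟨_, by first | (delta Cfsg.Agent.H942.LMat.beqL List.brecOn Cfsg.Agent.H942.LMat.beqL._f List.brecOn.go; rewrite [Cfsg.Agent.LsF.and_eq]; (try delta Cfsg.Agent.H942.LMat.beqL.match_1); (try delta Cfsg.Agent.H942.LMat.beqL._sparseCasesOn_1); (try delta Cfsg.Agent.H942.LMat.rowMul._sparseCasesOn_1); (try delta List.casesOn); first | dsimp -zeta only | exact rfl) | exact rfl⟩
private noncomputable def _root_.Cfsg.Agent.LsF.fea535c_47 : {f // @Cfsg.Agent.H942.LMat.beqM = f} := ⟨_, by first | (delta Cfsg.Agent.H942.LMat.beqM List.brecOn List.brecOn.go Cfsg.Agent.H942.LMat.beqM._f; rewrite [Cfsg.Agent.LsF.fea535c_46.2, Cfsg.Agent.LsF.and_eq]; (try delta Cfsg.Agent.H942.LMat.beqM.match_1); (try delta Cfsg.Agent.H942.LMat.beqL._sparseCasesOn_1); (try delta Cfsg.Agent.H942.LMat.rowMul._sparseCasesOn_1); (try delta List.casesOn); first | dsimp -zeta only | exact rfl) | exact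 rfl⟩
private noncomputable def _root_.Cfsg.Agent.LsF.fea535c_48 : {f // @Cfsg.Agent.H942.LMat.axpy = f} := ⟨_, by first | (delta Cfsg.Agent.H942.LMat.axpy List.brecOn List.brecOn.go Cfsg.Agent.H942.LMat.axpy._f; rewrite [Cfsg.Agent.LsF.nadd_pat, Cfsg.Agent.LsF.nmul_pat]; (try delta Cfsg.Agent.H942.LMat.axpy.match_1); (try delta List.casesOn); first | dsimp -zeta only | exact rfl) | exact rfl⟩
private noncomputable def _root_.Cfsg.Agent.LsF.fea535c_49 : {f // @Cfsg.Agent.H942.LMat.rowMul = f} := ⟨_, by first | (delta Cfsg.Agent.H942.LMat.rowMul List.brecOn List.brecOn.go Cfsg.Agent.H942.LMat.rowMul._f; rewrite [Cfsg.Agent.LsF.fea535c_48.2]; (try delta Cfsg.Agent.H942.LMat.rowMul.match_1); (try delta Cfsg.Agent.H942.LMat.rowMul._sparseCasesOn_1); first | dsimp -zeta only | exact rfl) | exact rfl⟩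
private noncomputable def _root_.Cfsg.Agent.LsF.fea535c_50 : {f // @Cfsg.Agent.H942.LMat.mmul = f} := ⟨_, by first | (delta Cfsg.Agent.H942.LMat.mmul; rewrite [Cfsg.Agent.LsF.fea535c_49.2, Cfsg.Agent.LsF.nmod_pat, Cfsg.Agent.LsF.map_eq]; exact rfl) | exact rfl⟩
private noncomputable def _root_.Cfsg.Agent.LsF.fea535c_51 : {f // @Cfsg.Agent.H942.Sp6Sys.trL = f} := ⟨_, by first | (delta Cfsg.Agent.H942.Sp6Sys.trL; rewrite [Cfsg.Agent.LsF.map_eq, Cfsg.Agent.LsF.range_eq, Cfsg.Agent.LsF.getD_eq]; exact rfl) | exact rfl⟩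
private noncomputable def _root_.Cfsg.Agent.LsF.fea535c_52 : {f // @Cfsg.Agent.H942.Sp6Data.chkMem = f} := ⟨_, by first | (delta Cfsg.Agent.H942.Sp6Data.chkMem Cfsg.Agent.H942.LMat.WF Cfsg.Agent.H942.LMat.decWF; rewrite [Cfsg.Agent.LsF.fea535c_47.2, Cfsg.Agent.LsF.fea535c_50.2, Cfsg.Agent.LsF.fea535c_51.2, Cfsg.Agent.LsF.and_eq, Cfsg.Agent.LsF.instDecEq_eq, Cfsg.Agent.LsF.all_eq, Cfsg.Agent.LsF.dAnd_eq, Cfsg.Agent.LsF.dBAll_eq, Cfsg.Agent.LsF.length_eq, Cfsg.Agent.LsF.decide_eq]; exact rfl) | exact rfl⟩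
theorem memB : chkMem B = true := by ((try (rewrite [Cfsg.Agent.LsF.fea535c_52.2])); decide +kernel)
theorem memB' : chkMem B' = true := by ((try (rewrite [Cfsg.Agent.LsF.fea535c_52.2])); decide +kernel)
theorem memG : chkMem G = true := by decide +kernel
theorem memC : chkMem (Fo.take 5) = true := by decide +kernel
theorem invB : (List.range B.length).all (fun i => beqM (mmul (B.getD i []) (B'.getD i [])) one6) = true := by
  decide +kernel
private noncomputable def _root_.Cfsg.Agent.LsF.fea535c_53 : {f // @Cfsg.Agent.H942.Pool.chkTab = f} := ⟨_, by first | (delta Cfsg.Agent.H942.Pool.chkTab; rewrite [Cfsg.Agent.LsF.nadd_pat, Cfsg.Agent.LsF.nsub_pat, Cfsg.Agent.LsF.and_eq, Cfsg.Agent.LsF.instDecEq_eq, Cfsg.Agent.LsF.decLe_eq, Cfsg.Agent.LsF.decLt_eq, Cfsg.Agent.LsF.all_eq, Cfsg.Agent.LsF.map_eq, Cfsg.Agent.LsF.range_eq, Cfsg.Agent.LsF.getD_eq, Cfsg.Agent.LsF.dNodup_eq, Cfsg.Agent.LsF.length_eq, Cfsg.Agent.LsF.decide_eq]; exact rfl) | exact rfl⟩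
private noncomputable def _root_.Cfsg.Agent.LsF.fea535c_54 : {f // @Cfsg.Agent.H942.LMat.mlin = f} := ⟨_, by first | (delta Cfsg.Agent.H942.LMat.mlin; rewrite [Cfsg.Agent.LsF.nadd_pat, Cfsg.Agent.LsF.nmul_pat, Cfsg.Agent.LsF.nmod_pat, Cfsg.Agent.LsF.zipWith_eq]; exact rfl) | exact rfl⟩
theorem tab : chkTab mmul beqM (fun a b => beqM a b || beqM a (mlin 1 b b)) [] E G T tpar = true := by ((try (rewrite [Cfsg.Agent.LsF.fea535c_53.2, Cfsg.Agent.LsF.fea535c_50.2, Cfsg.Agent.LsF.fea535c_47.2, Cfsg.Agent.LsF.fea535c_54.2, Cfsg.Agent.LsF.or_eq])); decide +kernel)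
private noncomputable def _root_.Cfsg.Agent.LsF.fea535c_55 : {f // @Cfsg.Agent.H942.Pool.chkNe = f} := ⟨_, by first | (delta Cfsg.Agent.H942.Pool.chkNe; rewrite [Cfsg.Agent.LsF.nadd_pat, Cfsg.Agent.LsF.nsub_pat, Cfsg.Agent.LsF.not_eq, Cfsg.Agent.LsF.all_eq, Cfsg.Agent.LsF.any_eq, Cfsg.Agent.LsF.range_eq, Cfsg.Agent.LsF.getD_eq, Cfsg.Agent.LsF.length_eq]; exact rfl) | exact rfl⟩
theorem noncen : chkNe mmul beqM [] E B = true := by ((try (rewrite [Cfsg.Agent.LsF.fea535c_55.2, Cfsg.Agent.LsF.fea535c_50.2, Cfsg.Agent.LsF.fea535c_47.2])); decide +kernel)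
private noncomputable def _root_.Cfsg.Agent.LsF.fea535c_56 : {f // @Cfsg.Agent.H942.Forest.chkForest = f} := ⟨_, by first | (delta Cfsg.Agent.H942.Forest.chkForest; rewrite [Cfsg.Agent.LsF.nadd_pat, Cfsg.Agent.LsF.nsub_pat, Cfsg.Agent.LsF.and_eq, Cfsg.Agent.LsF.all_eq, Cfsg.Agent.LsF.range_eq, Cfsg.Agent.LsF.getD_eq, Cfsg.Agent.LsF.length_eq]; exact rfl) | exact rfl⟩
theorem forest : chkForest mmul beqM [] B B' 5 Fo par root = true := by ((try (rewrite [Cfsg.Agent.LsF.fea535c_56.2, Cfsg.Agent.LsF.fea535c_50.2, Cfsg.Agent.LsF.fea535c_47.2])); decide +kernel)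
private noncomputable def _root_.Cfsg.Agent.LsF.fea535c_57 : {f // @Cfsg.Agent.H942.Forest.chkIdx = f} := ⟨_, by first | (delta Cfsg.Agent.H942.Forest.chkIdx; rewrite [Cfsg.Agent.LsF.and_eq, Cfsg.Agent.LsF.all_eq, Cfsg.Agent.LsF.range_eq, Cfsg.Agent.LsF.getD_eq, Cfsg.Agent.LsF.length_eq]; exact rfl) | exact rfl⟩
theorem indices : chkIdx (fun a b => beqM a b || beqM a (mlin 1 b b)) [] E Fo idx = true := by ((try (rewrite [Cfsg.Agent.LsF.fea535c_57.2, Cfsg.Agent.LsF.fea535c_47.2, Cfsg.Agent.LsF.fea535c_54.2, Cfsg.Agent.LsF.or_eq])); decide +kernel)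
theorem squares : beqM (mmul (Fo.getD 1 []) (Fo.getD 1 [])) (Sq.getD 0 []) = true ∧
    beqM (mmul (Fo.getD 2 []) (Fo.getD 2 [])) (Sq.getD 1 []) = true ∧
    beqM (mmul (Fo.getD 3 []) (Fo.getD 3 [])) (Sq.getD 2 []) = true ∧
    beqM (mmul (Fo.getD 4 []) (Fo.getD 4 [])) (Sq.getD 3 []) = true := by decide +kernel
theorem sindices : chkIdx (fun a b => beqM a b || beqM a (mlin 1 b b)) [] Sq Fo sidx = true := by decide +kernel
theorem sroots : root.getD (sidx.getD 0 0) 0 = 0 ∧ root.getD (sidx.getD 1 0) 0 = 0 ∧ root.getD (sidx.getD 2 0) 0 = 1 ∧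
    root.getD (sidx.getD 3 0) 0 = 3 := by decide +kernel
private noncomputable def _root_.Cfsg.Agent.LsF.fea535c_58 : {f // @Cfsg.Agent.H942.Forest.cntK = f} := ⟨_, by first | (delta Cfsg.Agent.H942.Forest.cntK; rewrite [Cfsg.Agent.LsF.cond_eq, Cfsg.Agent.LsF.map_eq, Cfsg.Agent.LsF.range_eq, Cfsg.Agent.LsF.sum_eq]; exact rfl) | exact rfl⟩
theorem counts : cntK 128 (fun i => root.getD (idx.getD i 0) 0) 0 = 1 ∧ cntK 128 (fun i => root.getD (idx.getD i 0) 0) 1 = 11 ∧
    cntK 128 (fun i => root.getD (idx.getD i 0) 0) 2 = 24 ∧ cntK 128 (fun i => root.getD (idx.getD i 0) 0) 3 = 44 ∧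
    cntK 128 (fun i => root.getD (idx.getD i 0) 0) 4 = 48 := by (refine of_decide_eq_true ?_; (try (rewrite [Cfsg.Agent.LsF.fea535c_58.2, Cfsg.Agent.LsF.instDecEq_eq, Cfsg.Agent.LsF.getD_eq, Cfsg.Agent.LsF.dAnd_eq, Cfsg.Agent.LsF.decide_eq])); decide +kernel)

end Cfsg.Agent.H942.Sp6Data
end

-- part: H942/Sp6
section
/-!
# `PSp₆(3)` is not a subgroup of `E₈(3)`
-/

set_option autoImplicit false

namespace Cfsg.Agent.H942.Sp6

open Cfsg Cfsg.Lie Cfsg.Agent.H657 IsLocalRing Module
open Cfsg.Agent.H942.E8Alc Cfsg.Agent.H942.E8Val Cfsg.Agent.H942.Enum Cfsg.Agent.H942.Forest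
open Cfsg.Agent.H942.LMat Cfsg.Agent.H942.Pool Cfsg.Agent.H942.Sp6Sys Cfsg.Agent.H942.Sp6Data Cfsg.Agent.H942.Common

theorem Elen : E.length = 128 := by decide +kernel

theorem Sqlen : Sq.length = 4 := by decide +kernel

theorem memR {L : List (List (List ℕ))} (h : chkMem L = true) : ∀ i < L.length, ∃ g : Sp, sys.R g (L.getD i []) := by
  intro i hi
  rw [chkMem, List.all_eq_true] at h
  have h1 := h _ (List.getElem_mem hi)
  rw [Bool.and_eq_true, decide_eq_true_iff] at h1
  rw [List.getD_eq_getElem _ _ hi]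
  exact exists_R h1.1 h1.2

theorem oneR : sys.R 1 one6 := by
  refine ⟨by decide, ?_⟩
  rw [M_one]
  decide +kernel

theorem arith {a b t e d : ℤ} (ha : (a, 248, 248) ∈ L8) (hb : (b, 248, 248) ∈ L8) (ht : (t, a, 248) ∈ L8)
    (he : (e, t, a) ∈ L8) (ha' : a ≠ 248) (hb' : b ≠ 248)
    (h : 248 + 11 * a + 24 * b + 44 * t + 48 * e = 128 * d) : False := by
  have h1 : a = -8 ∨ a = 24 := by
    simp [L8] at ha
    (clear * - ha' ha; omega)
  have h2 : b = -8 ∨ b = 24 := by
    simp [L8] at hb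
    (clear * - hb' hb; omega)
  rcases h1 with rfl | rfl
  · have h3 : t = -4 ∨ t = 0 ∨ t = 8 ∨ t = 64 ∨ t = 24 ∨ t = 28 ∨ t = 4 ∨ t = 132 := by
      simp [L8] at ht
      (clear * - ht; solve | lia | omega)
    rcases h3 with rfl | rfl | rfl | rfl | rfl | rfl | rfl | rfl <;> simp [L8] at ht he <;> (clear * - h2 h he; solve | lia | omega)
  · have h3 : t = -4 ∨ t = 0 ∨ t = 8 ∨ t = 64 ∨ t = 24 ∨ t = 28 ∨ t = 4 ∨ t = 132 := by
      simp [L8] at ht
      (clear * - ht; solve | lia | omega)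
    rcases h3 with rfl | rfl | rfl | rfl | rfl | rfl | rfl | rfl <;> simp [L8] at ht he <;> (clear * - h2 h he; solve | lia | omega)

/-- the class function recording triviality -/
theorem triv_class {Q : Type*} [Group Q] (n : ℕ) : ∀ g h : Q, ((h⁻¹ * g * h) ^ n = 1) = (g ^ n = 1) := by
  intro g h
  have h1 : (h⁻¹ * g * h) ^ n = h⁻¹ * g ^ n * h := by
    have := conj_pow (i := n) (a := h⁻¹) (b := g)
    rwa [inv_inv] at this
  rw [h1]
  apply propext
  constructor
  · intro h2
    have h3 : g ^ n = h * (h⁻¹ * g ^ n * h) * h⁻¹ := by group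
    rw [h3, h2]
    group
  · intro h2
    rw [h2]
    group

theorem psp6 (H : Subgroup ↥(Cfsg.Lie.chevE8.group (ZMod 3))) : IsEmpty (↥H ≃* Cfsg.PSp 3 (ZMod 3)) := by
  refine ⟨fun e0 => ?_⟩
  let F : Cfsg.PSp 3 (ZMod 3) →* ↥(chevE8.group (ZMod 3)) := H.subtype.comp e0.symm.toMonoidHom
  have hF : Function.Injective F := by
    intro x y hxy
    exact e0.symm.injective (Subtype.ext hxy)
  obtain ⟨M, V, hM, hV, hch⟩ := exists_V
  -- the elements
  have hb0 : ∀ i : ℕ, ∃ g : Sp, i < B.length → sys.R g (B.getD i []) := by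
    intro i
    by_cases hi : i < B.length
    · obtain ⟨g, hg⟩ := memR memB i hi
      exact ⟨g, fun _ => hg⟩
    · exact ⟨1, fun h => absurd h hi⟩
  choose b hb using hb0
  have hb' : ∀ i < B.length, sys.R (b i)⁻¹ (B'.getD i []) := by
    intro i hi
    obtain ⟨g, hg⟩ := memR memB' i hi
    have h1 := invB
    rw [List.all_eq_true] at h1
    have h2 := beqM_eq (h1 i (List.mem_range.2 hi))
    have h3 := sys.R_mul (hb i hi) hg
    have h4 : sys.R (b i * g) one6 := by
      rw [← h2]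
      exact h3
    have h5 : b i * g = 1 := sys.R_inj h4 oneR
    rw [inv_eq_of_mul_eq_one_right h5]
    exact hg
  have hg0 : ∀ i : ℕ, ∃ g : Sp, i < G.length → sys.R g (G.getD i []) := by
    intro i
    by_cases hi : i < G.length
    · obtain ⟨g, hg⟩ := memR memG i hi
      exact ⟨g, fun _ => hg⟩
    · exact ⟨1, fun h => absurd h hi⟩
  choose gen hgen using hg0
  have hc0 : ∀ i : ℕ, ∃ g : Sp, i < 5 → sys.R g (Fo.getD i []) := by
    intro i
    by_cases hi : i < 5
    · obtain ⟨g, hg⟩ := memR memC i hi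
      refine ⟨g, fun _ => ?_⟩
      have : (Fo.take 5).getD i [] = Fo.getD i [] := by
        interval_cases i <;> rfl
      rwa [this] at hg
    · exact ⟨1, fun h => absurd h hi⟩
  choose c hc using hc0
  obtain ⟨e, he, ht⟩ := exists_table sys beqM_refl Runi gen (fun i hi => hgen i hi) b (fun i hi => hb i hi) (dflt := [])
    (E := E) (G := G) (W := B) (T := T) (par := tpar) oneR (by rw [Elen]; norm_num) tab noncen
  have hFo := exists_forest sys (fun i hi => hb i hi) hb' (fun i hi => hc i hi) forest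
  have hval : ∀ {A : Type} (φ : Sp ⧸ Subgroup.center Sp → A),
      (∀ g h : Sp ⧸ Subgroup.center Sp, φ (h⁻¹ * g * h) = φ g) → ∀ i < E.length, root.getD (idx.getD i 0) 0 < 5 ∧
      φ (QuotientGroup.mk (e i)) = φ (QuotientGroup.mk (c (root.getD (idx.getD i 0) 0))) :=
    fun φ hφ => val_of_forest sys hφ hFo he indices
  -- squares
  have hsq : ∀ i < Sq.length, sys.R (c (i + 1) * c (i + 1)) (Sq.getD i []) := by
    intro i hi
    have hi4 : i < 4 := hi
    have h1 := sys.R_mul (hc (i + 1) (by omega)) (hc (i + 1) (by omega))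
    obtain ⟨s1, s2, s3, s4⟩ := squares
    interval_cases i
    · rw [← beqM_eq s1]; exact h1
    · rw [← beqM_eq s2]; exact h1
    · rw [← beqM_eq s3]; exact h1
    · rw [← beqM_eq s4]; exact h1
  have hsval : ∀ {A : Type} (φ : Sp ⧸ Subgroup.center Sp → A),
      (∀ g h : Sp ⧸ Subgroup.center Sp, φ (h⁻¹ * g * h) = φ g) → ∀ i < Sq.length,
      root.getD (sidx.getD i 0) 0 < 5 ∧
      φ (QuotientGroup.mk (c (i + 1) * c (i + 1))) = φ (QuotientGroup.mk (c (root.getD (sidx.getD i 0) 0))) :=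
    fun φ hφ => val_of_forest sys hφ hFo hsq sindices
  obtain ⟨r1, r2, r3, r4⟩ := sroots
  have hc1 : c 0 = 1 := sys.R_inj (hc 0 (by norm_num)) oneR
  let q : ℕ → Cfsg.PSp 3 (ZMod 3) := fun i => QuotientGroup.mk (c i)
  have hq0 : q 0 = 1 := by
    show (QuotientGroup.mk (c 0) : Sp ⧸ Subgroup.center Sp) = 1
    rw [hc1]
    rfl
  -- the class functions
  have hφ : ∀ g h : Sp ⧸ Subgroup.center Sp, bc 3 (adj V F) (h⁻¹ * g * h) = bc 3 (adj V F) g := bc_conj' F
  have hψ := fun n : ℕ => triv_class (Q := Sp ⧸ Subgroup.center Sp) n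
  -- the squares of the representatives
  have hqq : ∀ i, (QuotientGroup.mk (c (i + 1) * c (i + 1)) : Sp ⧸ Subgroup.center Sp) = q (i + 1) ^ 2 := by
    intro i
    rw [pow_two]
    rfl
  have o1 : q 1 ^ 2 = 1 := by
    have h1 := (hsval (fun g => g ^ 1 = 1) (hψ 1) 0 (by rw [Sqlen]; norm_num)).2
    rw [r1, hqq, pow_one, pow_one] at h1
    rw [h1]
    exact hq0
  have o2 : q 2 ^ 2 = 1 := by
    have h1 := (hsval (fun g => g ^ 1 = 1) (hψ 1) 1 (by rw [Sqlen]; norm_num)).2
    rw [r2, hqq, pow_one, pow_one] at h1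
    rw [h1]
    exact hq0
  have o3 : q 3 ^ 4 = 1 := by
    have h1 := (hsval (fun g => g ^ 2 = 1) (hψ 2) 2 (by rw [Sqlen]; norm_num)).2
    rw [r3, hqq, ← pow_mul] at h1
    rw [h1]
    exact o1
  have o4 : q 4 ^ 8 = 1 := by
    have h1 := (hsval (fun g => g ^ 4 = 1) (hψ 4) 3 (by rw [Sqlen]; norm_num)).2
    rw [r4, hqq, ← pow_mul] at h1
    rw [h1]
    exact o3
  have n1 : q 1 ≠ 1 := by
    intro h
    have h1 := (hval (fun g => g ^ 1 = 1) (hψ 1) 2 (by rw [Elen]; norm_num)).2
    have h2 : root.getD (idx.getD 2 0) 0 = 1 := by decide +kernel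
    rw [h2, pow_one, pow_one] at h1
    exact ht.ne 2 (by rw [Elen]; norm_num) (by norm_num) (h1.symm ▸ h)
  have n2 : q 2 ≠ 1 := by
    intro h
    have h1 := (hval (fun g => g ^ 1 = 1) (hψ 1) 1 (by rw [Elen]; norm_num)).2
    have h2 : root.getD (idx.getD 1 0) 0 = 2 := by decide +kernel
    rw [h2, pow_one, pow_one] at h1
    exact ht.ne 1 (by rw [Elen]; norm_num) (by norm_num) (h1.symm ▸ h)
  have v3 : bc 3 (adj V F) (q 3 ^ 2) = bc 3 (adj V F) (q 1) := by
    have h1 := (hsval (fun g => bc 3 (adj V F) g) hφ 2 (by rw [Sqlen]; norm_num)).2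
    rwa [r3, hqq] at h1
  have v4 : bc 3 (adj V F) (q 4 ^ 2) = bc 3 (adj V F) (q 3) := by
    have h1 := (hsval (fun g => bc 3 (adj V F) g) hφ 3 (by rw [Sqlen]; norm_num)).2
    rwa [r4, hqq] at h1
  have v4' : bc 3 (adj V F) (q 4 ^ 4) = bc 3 (adj V F) (q 1) := by
    have hφ2 : ∀ g h : Sp ⧸ Subgroup.center Sp, bc 3 (adj V F) ((h⁻¹ * g * h) ^ 2) = bc 3 (adj V F) (g ^ 2) := by
      intro g h
      have h1 : (h⁻¹ * g * h) ^ 2 = h⁻¹ * g ^ 2 * h := by
        rw [pow_two, pow_two]
        group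
      rw [h1]
      exact hφ _ _
    have h1 := (hsval (fun g => bc 3 (adj V F) (g ^ 2)) hφ2 3 (by rw [Sqlen]; norm_num)).2
    rw [r4, hqq, ← pow_mul] at h1
    exact h1.trans v3
  -- the values
  obtain ⟨a, a2, a4, La, ea, ea2, ea4, fa, fa2, fa4⟩ := val8 V F (g := q 1) (by
    rw [show (8 : ℕ) = 2 * 4 from rfl, pow_mul, o1, one_pow])
  obtain ⟨b1, b2, b4, Lb, eb, eb2, eb4, fb, fb2, fb4⟩ := val8 V F (g := q 2) (by
    rw [show (8 : ℕ) = 2 * 4 from rfl, pow_mul, o2, one_pow])
  obtain ⟨t, t2, t4, Lt, et, et2, et4, ft, ft2, ft4⟩ := val8 V F (g := q 3) (by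
    rw [show (8 : ℕ) = 4 * 2 from rfl, pow_mul, o3, one_pow])
  obtain ⟨u, u2, u4, Lu, eu, eu2, eu4, fu, fu2, fu4⟩ := val8 V F (g := q 4) o4
  have ha2 : a2 = 248 := fa2.1 (by rw [o1, map_one])
  have ha4 : a4 = 248 := fa4.1 (by rw [show (4 : ℕ) = 2 * 2 from rfl, pow_mul, o1, one_pow, map_one])
  have hb2 : b2 = 248 := fb2.1 (by rw [o2, map_one])
  have hb4 : b4 = 248 := fb4.1 (by rw [show (4 : ℕ) = 2 * 2 from rfl, pow_mul, o2, one_pow, map_one])
  have ht4 : t4 = 248 := ft4.1 (by rw [o3, map_one])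
  have ht2 : t2 = a := by
    have : (t2 : ℂ) = a := by rw [← et2, v3, ea]
    exact_mod_cast this
  have hu2 : u2 = t := by
    have : (u2 : ℂ) = t := by rw [← eu2, v4, et]
    exact_mod_cast this
  have hu4 : u4 = a := by
    have : (u4 : ℂ) = a := by rw [← eu4, v4', ea]
    exact_mod_cast this
  rw [ha2, ha4] at La
  rw [hb2, hb4] at Lb
  rw [ht2, ht4] at Lt
  rw [hu2, hu4] at Lu
  have ha' : a ≠ 248 := fun h => n1 (hF (by rw [fa.2 h, map_one]))
  have hb'' : b1 ≠ 248 := fun h => n2 (hF (by rw [fb.2 h, map_one]))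
  obtain ⟨o, o2', o4', Lo, eo, -, -, fo, -, -⟩ := val8 V F (g := q 0) (by rw [hq0, one_pow])
  have ho : o = 248 := fo.1 (by rw [hq0, map_one])
  -- the sum
  obtain ⟨d, hs⟩ : ∃ d : ℕ, ∑ i ∈ Finset.range E.length, bc 3 (adj V F) (QuotientGroup.mk (e i)) =
      ((E.length : ℕ) : ℂ) * (d : ℂ) :=
    ⟨_, sum_table hM hV F ht (by rw [Elen]; norm_num)⟩
  rw [Elen] at hs
  rw [Finset.sum_congr rfl fun i hi => (hval (fun g => bc 3 (adj V F) g) hφ i
    (by rw [Elen]; exact Finset.mem_range.1 hi)).2] at hs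
  rw [sum_of (r := 5) (f := fun i => root.getD (idx.getD i 0) 0)
    (fun i hi => (hval (fun g => bc 3 (adj V F) g) hφ i (by rw [Elen]; exact hi)).1)
    (fun k => bc 3 (adj V F) (q k))] at hs
  obtain ⟨c0, c1, c2, c3, c4⟩ := counts
  simp only [Finset.sum_range_succ, Finset.sum_range_zero, c0, c1, c2, c3, c4, eo, ea, eb, et, eu, zero_add] at hs
  refine arith La Lb Lt Lu ha' hb'' (d := (d : ℤ)) ?_
  rw [ho] at hs
  have h9 : ((248 + 11 * a + 24 * b1 + 44 * t + 48 * u : ℤ) : ℂ) = ((128 * (d : ℤ) : ℤ) : ℂ) := by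
    push_cast
    rw [nsmul_eq_mul, nsmul_eq_mul, nsmul_eq_mul, nsmul_eq_mul, nsmul_eq_mul] at hs
    push_cast at hs
    linear_combination hs
  exact_mod_cast h9

end Cfsg.Agent.H942.Sp6
end

-- part: H942/U4
section
/-!
# `PSU₄(3)` is not a subgroup of `E₈(3)`
-/

set_option autoImplicit false

namespace Cfsg.Agent.H942.U4

open Cfsg Cfsg.Lie Cfsg.Agent.H657 IsLocalRing Module
open Cfsg.Agent.H942.E8Alc Cfsg.Agent.H942.E8Val Cfsg.Agent.H942.Enum Cfsg.Agent.H942.Forest
open Cfsg.Agent.SporadicStructure.FieldNine Cfsg.Agent.H942.G4 Cfsg.Agent.H942.Fun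
open Cfsg.Agent.H942.U4Data Cfsg.Agent.H942.U4Check Cfsg.Agent.H942.Common Cfsg.Agent.H942.Core

theorem memR {n : ℕ} {L : ℕ → Mat9} (h : ∀ i < n, Mem (L i)) : ∃ g : ℕ → G4.SU, ∀ i < n, sys.R (g i) (L i) := by
  have h1 : ∀ i, ∃ g : G4.SU, i < n → sys.R g (L i) := by
    intro i
    by_cases hi : i < n
    · obtain ⟨g, hg⟩ := exists_R (h i hi).1 (h i hi).2
      exact ⟨g, fun _ => hg⟩
    · exact ⟨1, fun h => absurd h hi⟩
  choose g hg using h1
  exact ⟨g, fun i hi => hg i hi⟩

theorem arith1 {a b t e f dS dE d5 : ℤ} (ha : (a, 248, 248) ∈ L8) (hb : (b, a, 248) ∈ L8) (ht : (t, a, 248) ∈ L8)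
    (he : (e, b, a) ∈ L8) (hf : f = -2 ∨ f = 3 ∨ f = 23 ∨ f = 248) (ha' : a ≠ 248)
    (h1 : 248 + 35 * a + 20 * b + 56 * t + 16 * e = 128 * dS) (h2 : 248 + 15 * a = 16 * dE)
    (h3 : 248 + 15 * a + 32 * f + 32 * f = 80 * d5) (hSE : dS ≤ dE) (h5E : d5 ≤ dE) :
    a = -8 ∧ b = 8 ∧ t = 0 ∧ e = 0 ∧ dS = 1 ∧ (f = -2 ∨ f = 3) := by
  have k1 : a = -8 ∨ a = 24 := by
    simp [L8] at ha
    (clear * - ha' ha; omega)
  rcases k1 with rfl | rfl
  · have k2 : b = 0 ∨ b = 8 ∨ b = 64 := by
      simp [L8] at hb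
      omega
    have k3 : t = 0 ∨ t = 8 ∨ t = 64 := by
      simp [L8] at ht
      omega
    clear hb ht ha
    have k4 : (b = 0 ∧ (e = -4 ∨ e = 0 ∨ e = 4 ∨ e = 16)) ∨ (b = 8 ∧ e = 0) ∨
        (b = 64 ∧ (e = -4 ∨ e = 12 ∨ e = 44)) := by
      rcases k2 with rfl | rfl | rfl <;> simp [L8] at he <;> (clear * - he; solve | lia | omega)
    clear he k2
    omega
  · have k2 : b = -4 ∨ b = 4 ∨ b = 28 ∨ b = 132 := by
      simp [L8] at hb
      omega
    have k3 : t = -4 ∨ t = 4 ∨ t = 28 ∨ t = 132 := by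
      simp [L8] at ht
      omega
    clear hb ht ha
    have k4 : e % 2 = 0 := by
      rcases k2 with rfl | rfl | rfl | rfl <;> simp [L8] at he <;> (clear * - he; omega)
    have k5 : b % 8 = 4 := by (clear * - k2; omega)
    have k6 : t % 4 = 0 := by (clear * - k3; omega)
    clear he k2 k3 hf ha' h2 h3 hSE h5E
    exfalso
    (clear * - h1 k4 k5 k6; solve | lia | omega)

theorem sum_blocks {A : Type*} [AddCommMonoid A] (f : ℕ → A) : ∀ k : ℕ, ∑ i ∈ Finset.range (16 * k), f i =
    ∑ a ∈ Finset.range k, ∑ j ∈ Finset.range 16, f (16 * a + j)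
  | 0 => by simp
  | k + 1 => by
    rw [Nat.mul_succ, Finset.sum_range_add, sum_blocks f k]
    exact (Finset.sum_range_succ _ _).symm

theorem kr_lt : ∀ i < 8, (kr i).1 < 8 ∧ (kr i).2 < 5 := by decide +kernel

theorem u4 (H : Subgroup ↥(Cfsg.Lie.chevE8.group (ZMod 3))) : IsEmpty (↥H ≃* Cfsg.PSU 4 K9 3) := by
  refine ⟨fun e0 => ?_⟩
  let F : Cfsg.PSU 4 K9 3 →* ↥(chevE8.group (ZMod 3)) := H.subtype.comp e0.symm.toMonoidHom
  have hF : Function.Injective F := by
    intro x y hxy
    exact e0.symm.injective (Subtype.ext hxy)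
  obtain ⟨M, V, hM, hV, hch⟩ := exists_V
  -- the elements
  obtain ⟨b, hb⟩ := memR memB
  obtain ⟨gen, hgen⟩ := memR memG
  obtain ⟨gen5, hgen5⟩ := memR memG5
  obtain ⟨c, hc⟩ := memR memC
  obtain ⟨e, he, hS⟩ := Fun.exists_table sys beq_refl Runi hgen hb (E := S) (T := T) (Ti := Ti) (par := tpar) (wi := wS)
    (show G4.M 1 = toM (S 0) by rw [oneS]; rfl) (by norm_num) tab noncen
  obtain ⟨e5, he5, hS5⟩ := Fun.exists_table sys beq_refl Runi hgen5 hb (E := S5) (T := T5) (Ti := Ti5) (par := tpar5)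
    (wi := wS5) (show G4.M 1 = toM (S5 0) by rw [oneS5]; rfl) (by norm_num) tab5 noncen5
  have hE := sub_table hS (n' := 16) (m' := 4) (by norm_num) (by norm_num) (by norm_num) sub16
  have hO := sub_table hS (n' := 64) (m' := 6) (by norm_num) (by norm_num) (by norm_num) sub64
  have hE5 := sub_table hS5 (n' := 16) (m' := 4) (by norm_num) (by norm_num) (by norm_num) sub5
  have hFo := Fun.exists_forest sys R_conj hb hc forest
  have hlenL : ∀ {n : ℕ} {f : ℕ → ℕ} {l : List ℕ}, cnts n f = l → ∀ k < 7, cntK n (fun i => root (f i)) k = l.getD k 0 := by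
    intro n f l h k hk
    rw [← h, cnts, List.getD_eq_getElem _ _ (by rw [List.length_map, List.length_range]; exact hk), List.getElem_map,
      List.getElem_range]
  let q : ℕ → Cfsg.PSU 4 K9 3 := fun i => QuotientGroup.mk (c i)
  have hsum : ∀ {A : Type} [AddCommMonoid A] (φ : Cfsg.PSU 4 K9 3 → A), (∀ g h, φ (h⁻¹ * g * h) = φ g) →
      ∀ {n : ℕ} {g : ℕ → G4.SU} {a : ℕ → Mat9} {f : ℕ → ℕ}, (∀ i < n, sys.R (g i) (a i)) →
      (∀ i < n, f i < 711 ∧ sys.eqv (a i) (Fo (f i)) = true) → ∀ {l : List ℕ}, cnts n f = l →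
      ∑ i ∈ Finset.range n, φ (QuotientGroup.mk (g i)) =
        l.getD 0 0 • φ (q 0) + l.getD 1 0 • φ (q 1) + l.getD 2 0 • φ (q 2) + l.getD 3 0 • φ (q 3) +
        l.getD 4 0 • φ (q 4) + l.getD 5 0 • φ (q 5) + l.getD 6 0 • φ (q 6) := by
    intro A _ φ hφ n g a f hg hi l hl
    have h1 := sum_val sys hFo hφ hg hi
    have h2 := hlenL hl
    simp only [Finset.sum_range_succ, Finset.sum_range_zero, zero_add, h2 0 (by norm_num), h2 1 (by norm_num),
      h2 2 (by norm_num), h2 3 (by norm_num), h2 4 (by norm_num), h2 5 (by norm_num), h2 6 (by norm_num)] at h1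
    exact h1
  have hc1 : c 0 = 1 := G4.M_inj ((hc 0 (by norm_num)).trans (by rw [oneC]; rfl))
  have hq0 : q 0 = 1 := by
    show (QuotientGroup.mk (c 0) : G4.SU ⧸ Subgroup.center G4.SU) = 1
    rw [hc1]
    rfl
  -- class functions
  have hφ : ∀ g h : Cfsg.PSU 4 K9 3, bc 3 (adj V F) (h⁻¹ * g * h) = bc 3 (adj V F) g := bc_conj' F
  have hφ2 : ∀ g h : Cfsg.PSU 4 K9 3, bc 3 (adj V F) ((h⁻¹ * g * h) ^ 2) = bc 3 (adj V F) (g ^ 2) := by
    intro g h
    have h1 : (h⁻¹ * g * h) ^ 2 = h⁻¹ * g ^ 2 * h := by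
      rw [pow_two, pow_two]
      group
    rw [h1]
    exact hφ _ _
  have hψ := fun n : ℕ => Sp6.triv_class (Q := Cfsg.PSU 4 K9 3) n
  have hθ : ∀ g h : Cfsg.PSU 4 K9 3, theta F (h⁻¹ * g * h) = theta F g := theta_conj F
  -- squares
  have hsq : ∀ {A : Type} (φ : Cfsg.PSU 4 K9 3 → A), (∀ g h, φ (h⁻¹ * g * h) = φ g) → ∀ i < 4,
      φ (q (i + 1) ^ 2) = φ (q (root (sidx i))) := by
    intro A φ hφ' i hi
    have h1 := allB_spec squares i hi
    rw [Bool.and_eq_true, Nat.blt_eq] at h1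
    have h2 := (Fun.val sys hFo hφ' (sys.R_mul (hc (i + 1) (by omega)) (hc (i + 1) (by omega))) h1.1 h1.2).2
    rw [← h2, pow_two]
    rfl
  obtain ⟨r1, r2, r3, r4⟩ := sroots
  have o1 : q 1 ^ 2 = 1 := by
    have h1 := hsq (fun g => g ^ 1 = 1) (hψ 1) 0 (by norm_num)
    rw [r1, pow_one, pow_one] at h1
    rw [h1]
    exact hq0
  have o2 : q 2 ^ 4 = 1 := by
    have h1 := hsq (fun g => g ^ 2 = 1) (hψ 2) 1 (by norm_num)
    rw [r2, ← pow_mul] at h1
    rw [h1]
    exact o1
  have o3 : q 3 ^ 4 = 1 := by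
    have h1 := hsq (fun g => g ^ 2 = 1) (hψ 2) 2 (by norm_num)
    rw [r3, ← pow_mul] at h1
    rw [h1]
    exact o1
  have o4 : q 4 ^ 8 = 1 := by
    have h1 := hsq (fun g => g ^ 4 = 1) (hψ 4) 3 (by norm_num)
    rw [r4, ← pow_mul] at h1
    rw [h1]
    exact o2
  have v2 : bc 3 (adj V F) (q 2 ^ 2) = bc 3 (adj V F) (q 1) := by
    have h1 := hsq (fun g => bc 3 (adj V F) g) hφ 1 (by norm_num)
    rwa [r2] at h1
  have v3 : bc 3 (adj V F) (q 3 ^ 2) = bc 3 (adj V F) (q 1) := by
    have h1 := hsq (fun g => bc 3 (adj V F) g) hφ 2 (by norm_num)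
    rwa [r3] at h1
  have v4 : bc 3 (adj V F) (q 4 ^ 2) = bc 3 (adj V F) (q 2) := by
    have h1 := hsq (fun g => bc 3 (adj V F) g) hφ 3 (by norm_num)
    rwa [r4] at h1
  have v4' : bc 3 (adj V F) (q 4 ^ 4) = bc 3 (adj V F) (q 1) := by
    have h1 := hsq (fun g => bc 3 (adj V F) (g ^ 2)) hφ2 3 (by norm_num)
    rw [r4, ← pow_mul] at h1
    exact h1.trans v2
  obtain ⟨f1, f2⟩ := five
  have hq6 : q 6 = q 5 ^ 2 := by
    have h1 := sys.R_mul (hc 5 (by norm_num)) (hc 5 (by norm_num))
    rw [show sys.mul (Fo 5) (Fo 5) = Fo 6 from G4.beq_eq f1] at h1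
    have h2 : c 5 * c 5 = c 6 := sys.R_inj h1 (hc 6 (by norm_num))
    rw [pow_two]
    show (QuotientGroup.mk (c 6) : G4.SU ⧸ Subgroup.center G4.SU) = QuotientGroup.mk (c 5 * c 5)
    rw [h2]
  have o5 : q 5 ^ 5 = 1 := by
    have h1 := sys.R_mul (sys.R_mul (hc 6 (by norm_num)) (hc 6 (by norm_num))) (hc 5 (by norm_num))
    have h2 := sys.R_eqv h1 (hc 0 (by norm_num)) f2
    have h3 : q 6 * q 6 * q 5 = q 0 := h2
    rw [hq0, hq6] at h3
    rw [← h3]
    group
  have n1 : q 1 ≠ 1 := by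
    intro h
    have h0 := chkIdx_spec indices 1 (by norm_num)
    have h1 := (Fun.val sys hFo (φ := fun g => g ^ 1 = 1) (hψ 1) (he 1 (by norm_num)) h0.1 h0.2).2
    have h2 : root (idx 1) = 1 := by decide +kernel
    rw [h2, pow_one, pow_one] at h1
    exact hS.ne 1 (by norm_num) (by norm_num) (h1.symm ▸ h)
  -- the values
  obtain ⟨a, a2, a4, La, ea, ea2, ea4, fa, fa2, fa4⟩ := val8 V F (g := q 1) (by
    rw [show (8 : ℕ) = 2 * 4 from rfl, pow_mul, o1, one_pow])
  obtain ⟨b1, b2, b4, Lb, eb, eb2, eb4, fb, fb2, fb4⟩ := val8 V F (g := q 2) (by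
    rw [show (8 : ℕ) = 4 * 2 from rfl, pow_mul, o2, one_pow])
  obtain ⟨t1, t2, t4, Lt, et, et2, et4, ft, ft2, ft4⟩ := val8 V F (g := q 3) (by
    rw [show (8 : ℕ) = 4 * 2 from rfl, pow_mul, o3, one_pow])
  obtain ⟨u, u2, u4, Lu, eu, eu2, eu4, fu, fu2, fu4⟩ := val8 V F (g := q 4) o4
  obtain ⟨o, o2', o4', Lo, eo, -, -, fo, -, -⟩ := val8 V F (g := q 0) (by rw [hq0, one_pow])
  obtain ⟨f, hf, ef, -⟩ := val5 V F (g := q 5) o5
  have ho : o = 248 := fo.1 (by rw [hq0, map_one])
  have ef1 : bc 3 (adj V F) (q 5) = f := by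
    have := ef 1 (by norm_num)
    rwa [pow_one] at this
  have ef2 : bc 3 (adj V F) (q 6) = f := by
    rw [hq6]
    exact ef 2 (by norm_num)
  have ha2 : a2 = 248 := fa2.1 (by rw [o1, map_one])
  have o1' : q 1 ^ 4 = 1 := by
    have : q 1 ^ 4 = (q 1 ^ 2) ^ 2 := by rw [← pow_mul]
    rw [this, o1, one_pow]
  have ha4 : a4 = 248 := fa4.1 (by rw [o1', map_one])
  have hb4 : b4 = 248 := fb4.1 (by rw [o2, map_one])
  have ht4 : t4 = 248 := ft4.1 (by rw [o3, map_one])
  have hb2 : b2 = a := by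
    have : (b2 : ℂ) = a := by rw [← eb2, v2, ea]
    exact_mod_cast this
  have ht2 : t2 = a := by
    have : (t2 : ℂ) = a := by rw [← et2, v3, ea]
    exact_mod_cast this
  have hu2 : u2 = b1 := by
    have : (u2 : ℂ) = b1 := by rw [← eu2, v4, eb]
    exact_mod_cast this
  have hu4 : u4 = a := by
    have : (u4 : ℂ) = a := by rw [← eu4, v4', ea]
    exact_mod_cast this
  rw [ha2, ha4] at La
  rw [hb2, hb4] at Lb
  rw [ht2, ht4] at Lt
  rw [hu2, hu4] at Lu
  rw [ho] at eo
  have ha' : a ≠ 248 := fun h => n1 (hF (by rw [fa.2 h, map_one]))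
  -- the sums
  have sS := hsum (fun g => bc 3 (adj V F) g) hφ he (chkIdx_spec indices) cntS
  have sE := hsum (fun g => bc 3 (adj V F) g) hφ (n := 16) (fun i hi => he i (by omega))
    (fun i hi => chkIdx_spec indices i (by omega)) cntE
  have s5 := hsum (fun g => bc 3 (adj V F) g) hφ he5 (chkIdx_spec indices5) cnt5
  have sE5 := hsum (fun g => bc 3 (adj V F) g) hφ (n := 16) (fun i hi => he5 i (by omega))
    (fun i hi => chkIdx_spec indices5 i (by omega)) cntE5
  have dS := sum_table hM hV F hS (by norm_num)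
  have dE := sum_table hM hV F hE (by norm_num)
  have d5 := sum_table hM hV F hS5 (by norm_num)
  have dE5 := sum_table hM hV F hE5 (by norm_num)
  simp only [List.getD_cons_zero, List.getD_cons_succ, zero_nsmul, add_zero, one_nsmul, eo, ea, eb, et, eu, ef1, ef2]
    at sS sE s5 sE5
  -- the dimensions
  have leSE : finrank (ResidueField V) (res (V := V) F hS.grp).invariants ≤
      finrank (ResidueField V) (res (V := V) F hE.grp).invariants := by
    refine Submodule.finrank_mono ?_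
    intro w hw g
    obtain ⟨i, hi, hgi⟩ := g.2
    exact hw ⟨g, i, by omega, hgi⟩
  have le5E : finrank (ResidueField V) (res (V := V) F hS5.grp).invariants ≤
      finrank (ResidueField V) (res (V := V) F hE5.grp).invariants := by
    refine Submodule.finrank_mono ?_
    intro w hw g
    obtain ⟨i, hi, hgi⟩ := g.2
    exact hw ⟨g, i, by omega, hgi⟩
  generalize hdS : finrank (ResidueField V) (res (V := V) F hS.grp).invariants = nS at dS leSE
  generalize finrank (ResidueField V) (res (V := V) F hE.grp).invariants = nE at dE leSE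
  generalize finrank (ResidueField V) (res (V := V) F hS5.grp).invariants = n5 at d5 le5E
  generalize finrank (ResidueField V) (res (V := V) F hE5.grp).invariants = nE5 at dE5 le5E
  rw [sS] at dS
  rw [sE] at dE
  rw [s5] at d5
  rw [sE5] at dE5
  have dS' : 248 + 35 * a + 20 * b1 + 56 * t1 + 16 * u = 128 * (nS : ℤ) := by
    have h9 : ((248 + 35 * a + 20 * b1 + 56 * t1 + 16 * u : ℤ) : ℂ) = ((128 * (nS : ℤ) : ℤ) : ℂ) := by
      simp only [nsmul_eq_mul] at dS
      push_cast at dS ⊢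
      linear_combination dS
    exact_mod_cast h9
  have dE' : 248 + 15 * a = 16 * (nE : ℤ) := by
    have h9 : ((248 + 15 * a : ℤ) : ℂ) = ((16 * (nE : ℤ) : ℤ) : ℂ) := by
      simp only [nsmul_eq_mul] at dE
      push_cast at dE ⊢
      linear_combination dE
    exact_mod_cast h9
  have dE5' : 248 + 15 * a = 16 * (nE5 : ℤ) := by
    have h9 : ((248 + 15 * a : ℤ) : ℂ) = ((16 * (nE5 : ℤ) : ℤ) : ℂ) := by
      simp only [nsmul_eq_mul] at dE5
      push_cast at dE5 ⊢
      linear_combination dE5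
    exact_mod_cast h9
  have d5' : 248 + 15 * a + 32 * f + 32 * f = 80 * (n5 : ℤ) := by
    have h9 : ((248 + 15 * a + 32 * f + 32 * f : ℤ) : ℂ) = ((80 * (n5 : ℤ) : ℤ) : ℂ) := by
      simp only [nsmul_eq_mul] at d5
      push_cast at d5 ⊢
      linear_combination d5
    exact_mod_cast h9
  have hnE : (nE5 : ℤ) = nE := by (clear * - dE' dE5'; omega)
  obtain ⟨rfl, rfl, rfl, rfl, hnS, hf'⟩ := arith1 La Lb Lt Lu hf ha' dS' dE' d5' (by exact_mod_cast leSE)
    (by rw [← hnE]; exact_mod_cast le5E)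
  have hnS' : nS = 1 := by exact_mod_cast hnS
  subst hnS'
  -- the traces
  have nd : ∀ {g : Cfsg.PSU 4 K9 3} {n : ℕ}, ¬ 3 ∣ n → g ^ n = 1 → ¬ 3 ∣ orderOf g := by
    intro g n hn hg h
    exact hn (h.trans (orderOf_dvd_of_pow_eq_one hg))
  have th0 : theta F (q 0) = ((248 : ℤ) : ZMod 3) := theta_eq F V (nd (n := 1) (by norm_num) (by rw [hq0, one_pow])) (by
    rw [eo])
  have th1 : theta F (q 1) = ((-8 : ℤ) : ZMod 3) := theta_eq F V (nd (n := 2) (by norm_num) o1) ea
  have th2 : theta F (q 2) = ((8 : ℤ) : ZMod 3) := theta_eq F V (nd (n := 4) (by norm_num) o2) eb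
  have th3 : theta F (q 3) = ((0 : ℤ) : ZMod 3) := theta_eq F V (nd (n := 4) (by norm_num) o3) et
  have th4 : theta F (q 4) = ((0 : ℤ) : ZMod 3) := theta_eq F V (nd (n := 8) (by norm_num) o4) eu
  have th5 : theta F (q 5) = ((f : ℤ) : ZMod 3) := theta_eq F V (nd (n := 5) (by norm_num) o5) ef1
  have o6 : q 6 ^ 5 = 1 := by
    rw [hq6, ← pow_mul, mul_comm, pow_mul, o5, one_pow]
  have th6 : theta F (q 6) = ((f : ℤ) : ZMod 3) := theta_eq F V (nd (n := 5) (by norm_num) o6) ef2
  have htr : ∑ i ∈ Finset.range 128, theta F (QuotientGroup.mk (e i)) = 2 := by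
    rw [hsum (theta F) hθ he (chkIdx_spec indices) cntS]
    simp only [List.getD_cons_zero, List.getD_cons_succ, zero_nsmul, add_zero, one_nsmul, th0, th1, th2, th3, th4]
    decide
  have hEs : ∑ i ∈ Finset.range 16, theta F (QuotientGroup.mk (e i)) = 2 := by
    rw [hsum (theta F) hθ (n := 16) (fun i hi => he i (by omega)) (fun i hi => chkIdx_spec indices i (by omega)) cntE]
    simp only [List.getD_cons_zero, List.getD_cons_succ, zero_nsmul, add_zero, one_nsmul, th0, th1]
    decide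
  -- the normalizer of `E`
  have hnB : ∀ r < 5, ∀ g ∈ hE.grp, (QuotientGroup.mk (b r) : Cfsg.PSU 4 K9 3)⁻¹ * g * QuotientGroup.mk (b r) ∈ hE.grp := by
    intro r hr g hg
    refine conj_mem hE (fun j hj => ?_) hg
    have h1 := allB_spec (allB_spec normE r hr) j hj
    rw [Bool.and_eq_true, Nat.blt_eq] at h1
    exact ⟨cE r j, h1.1, sys.R_eqv (sys.R_mul (hgen j (by omega)) (hb r (by omega)))
      (sys.R_mul (hb r (by omega)) (he _ (by omega))) h1.2⟩
  have hGB : ∀ i < 3, gen (4 + i) = b i := by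
    intro i hi
    have h1 := allB_spec GB i hi
    have h2 := hgen (4 + i) (by omega)
    rw [G4.beq_eq h1] at h2
    exact sys.R_inj h2 (hb i (by omega))
  have hnS : ∀ i < 128, ∀ g ∈ hE.grp, (QuotientGroup.mk (e i) : Cfsg.PSU 4 K9 3)⁻¹ * g * QuotientGroup.mk (e i) ∈ hE.grp := by
    intro i
    induction i using Nat.strong_induction_on with
    | _ i ih =>
      intro hi g hg
      by_cases h0 : i = 0
      · subst h0
        have : (QuotientGroup.mk (e 0) : Cfsg.PSU 4 K9 3) = 1 := hS.one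
        rw [this, inv_one, one_mul, mul_one]
        exact hg
      · obtain ⟨i', hi', j, hj, ht⟩ := hS.par i hi h0
        have h2 := hS.mul i' (by omega) j hj
        rw [ht] at h2
        have h3 : (QuotientGroup.mk (e i) : Cfsg.PSU 4 K9 3)⁻¹ * g * QuotientGroup.mk (e i) =
            (QuotientGroup.mk (gen j) : Cfsg.PSU 4 K9 3)⁻¹ * ((QuotientGroup.mk (e i') : Cfsg.PSU 4 K9 3)⁻¹ * g *
              QuotientGroup.mk (e i')) * QuotientGroup.mk (gen j) := by
          rw [show (QuotientGroup.mk (e i) : Cfsg.PSU 4 K9 3) = QuotientGroup.mk (e i') * QuotientGroup.mk (gen j) from h2.symm]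
          group
        rw [h3]
        have h4 := ih i' hi' (by omega) g hg
        by_cases hj4 : j < 4
        · have h5 := Tgen_mem hE hj4
          exact mul_mem (mul_mem (inv_mem h5) h4) h5
        · obtain ⟨j', rfl⟩ : ∃ j', j = 4 + j' := ⟨j - 4, by omega⟩
          rw [hGB j' (by omega)]
          exact hnB j' (by omega) _ h4
  have hcos : ∀ k < 8, ∀ j < 16, (QuotientGroup.mk (e (16 * k + j)) : Cfsg.PSU 4 K9 3) =
      QuotientGroup.mk (e j) * QuotientGroup.mk (e (16 * k)) := by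
    intro k hk j hj
    have h1 := allB_spec (allB_spec cosets k hk) j hj
    exact (sys.R_eqv (sys.R_mul (he j (by omega)) (he (16 * k) (by omega))) (he _ (by omega)) h1).symm
  have hT3 : ∀ i < 8, ∑ j ∈ Finset.range 16,
      theta F (QuotientGroup.mk (e (16 * (kr i).1 + j)) * QuotientGroup.mk (b (kr i).2)) = 2 := by
    intro i hi
    obtain ⟨hk, hr⟩ := kr_lt i hi
    have h1 := allB_spec cubes i hi
    simp only [Bool.and_eq_true, Nat.blt_eq] at h1
    obtain ⟨⟨⟨h2, h3⟩, h4⟩, h5⟩ := h1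
    have hp1 := sys.R_mul (he (16 * (kr i).1) (by omega)) (hb (kr i).2 (by omega))
    rw [show sys.mul (S (16 * (kr i).1)) (B (kr i).2) = P1 i from G4.beq_eq h2] at hp1
    have hp2 := sys.R_mul hp1 hp1
    rw [show sys.mul (P1 i) (P1 i) = P2 i from G4.beq_eq h3] at hp2
    have hp3 := sys.R_eqv (sys.R_mul hp2 hp1) (he _ (by omega)) h5
    have h6 := coset3 F hE (p := QuotientGroup.mk (e (16 * (kr i).1) * b (kr i).2)) (by
      intro g hg
      have h7 : ((QuotientGroup.mk (e (16 * (kr i).1) * b (kr i).2)) : Cfsg.PSU 4 K9 3)⁻¹ * g *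
          QuotientGroup.mk (e (16 * (kr i).1) * b (kr i).2) =
          (QuotientGroup.mk (b (kr i).2) : Cfsg.PSU 4 K9 3)⁻¹ * ((QuotientGroup.mk (e (16 * (kr i).1)) : Cfsg.PSU 4 K9 3)⁻¹ *
            g * QuotientGroup.mk (e (16 * (kr i).1))) * QuotientGroup.mk (b (kr i).2) := by
        rw [QuotientGroup.mk_mul]
        group
      rw [h7]
      exact hnB _ hr _ (hnS _ (by omega) g hg)) ⟨c3 i, h4, hp3⟩
    rw [← hEs, ← h6]
    refine Finset.sum_congr rfl fun j hj => ?_
    rw [hcos _ hk j (Finset.mem_range.1 hj), QuotientGroup.mk_mul, mul_assoc]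
  have hTx : ∀ k ∈ [4, 5, 6, 7], ∀ j < 16, qx (16 * k + j) < 711 ∧
      sys.eqv (sys.mul (S (16 * k + j)) (B 3)) (Fo (qx (16 * k + j))) = true := by
    intro k hk j hj
    have h1 := prodx
    rw [chkProd, List.all_eq_true] at h1
    have h2 := allB_spec (h1 k hk) j hj
    rwa [Bool.and_eq_true, Nat.blt_eq] at h2
  have hTy : ∀ k ∈ [2, 3, 6, 7], ∀ j < 16, qy (16 * k + j) < 711 ∧
      sys.eqv (sys.mul (S (16 * k + j)) (B 4)) (Fo (qy (16 * k + j))) = true := by
    intro k hk j hj
    have h1 := prody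
    rw [chkProd, List.all_eq_true] at h1
    have h2 := allB_spec (h1 k hk) j hj
    rwa [Bool.and_eq_true, Nat.blt_eq] at h2
  have hTxy : ∀ k ∈ [0, 1, 2, 3, 4, 5, 6, 7], ∀ j < 16, qxy (16 * k + j) < 711 ∧
      sys.eqv (sys.mul (S (16 * k + j)) (XY 0)) (Fo (qxy (16 * k + j))) = true := by
    intro k hk j hj
    have h1 := prodxy
    rw [chkProd, List.all_eq_true] at h1
    have h2 := allB_spec (h1 k hk) j hj
    rwa [Bool.and_eq_true, Nat.blt_eq] at h2
  have hxy := sys.R_mul (hb 3 (by norm_num)) (hb 4 (by norm_num))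
  rw [show sys.mul (B 3) (B 4) = XY 0 from G4.beq_eq prodXY] at hxy
  have hX : ∀ k ∈ [4, 5, 6, 7], ∀ l : List ℕ, cnts 16 (fun j => qx (16 * k + j)) = l →
      ∑ j ∈ Finset.range 16, theta F (QuotientGroup.mk (e (16 * k + j)) * QuotientGroup.mk (b 3)) =
        l.getD 0 0 • theta F (q 0) + l.getD 1 0 • theta F (q 1) + l.getD 2 0 • theta F (q 2) + l.getD 3 0 • theta F (q 3) +
        l.getD 4 0 • theta F (q 4) + l.getD 5 0 • theta F (q 5) + l.getD 6 0 • theta F (q 6) := by
    intro k hk l hl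
    have hk8 : k < 8 := by
      simp only [List.mem_cons, List.not_mem_nil, or_false] at hk
      omega
    exact hsum (theta F) hθ (g := fun j => e (16 * k + j) * b 3) (a := fun j => sys.mul (S (16 * k + j)) (B 3))
      (fun j hj => sys.R_mul (he _ (by omega)) (hb 3 (by norm_num))) (hTx k hk) hl
  have hY : ∀ k ∈ [2, 3, 6, 7], ∀ l : List ℕ, cnts 16 (fun j => qy (16 * k + j)) = l →
      ∑ j ∈ Finset.range 16, theta F (QuotientGroup.mk (e (16 * k + j)) * QuotientGroup.mk (b 4)) =
        l.getD 0 0 • theta F (q 0) + l.getD 1 0 • theta F (q 1) + l.getD 2 0 • theta F (q 2) + l.getD 3 0 • theta F (q 3) +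
        l.getD 4 0 • theta F (q 4) + l.getD 5 0 • theta F (q 5) + l.getD 6 0 • theta F (q 6) := by
    intro k hk l hl
    have hk8 : k < 8 := by
      simp only [List.mem_cons, List.not_mem_nil, or_false] at hk
      omega
    exact hsum (theta F) hθ (g := fun j => e (16 * k + j) * b 4) (a := fun j => sys.mul (S (16 * k + j)) (B 4))
      (fun j hj => sys.R_mul (he _ (by omega)) (hb 4 (by norm_num))) (hTy k hk) hl
  have hXY : ∀ k ∈ [0, 1, 2, 3, 4, 5, 6, 7], ∀ l : List ℕ, cnts 16 (fun j => qxy (16 * k + j)) = l →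
      ∑ j ∈ Finset.range 16, theta F (QuotientGroup.mk (e (16 * k + j)) * (QuotientGroup.mk (b 3) * QuotientGroup.mk (b 4))) =
        l.getD 0 0 • theta F (q 0) + l.getD 1 0 • theta F (q 1) + l.getD 2 0 • theta F (q 2) + l.getD 3 0 • theta F (q 3) +
        l.getD 4 0 • theta F (q 4) + l.getD 5 0 • theta F (q 5) + l.getD 6 0 • theta F (q 6) := by
    intro k hk l hl
    have hk8 : k < 8 := by
      simp only [List.mem_cons, List.not_mem_nil, or_false] at hk
      omega
    exact hsum (theta F) hθ (g := fun j => e (16 * k + j) * (b 3 * b 4)) (a := fun j => sys.mul (S (16 * k + j)) (XY 0))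
      (fun j hj => sys.R_mul (he _ (by omega)) hxy) (hTxy k hk) hl
  have hT3' : ∀ i < 8, ∀ k r : ℕ, kr i = (k, r) → ∑ j ∈ Finset.range 16,
      theta F (QuotientGroup.mk (e (16 * k + j)) * QuotientGroup.mk (b r)) = 2 := by
    intro i hi k r h
    have h1 := hT3 i hi
    rw [h] at h1
    exact h1
  -- the three sums
  have lx : ∑ i ∈ Finset.range 128, theta F (QuotientGroup.mk (e i) * QuotientGroup.mk (b 3)) = 2 := by
    rw [show (128 : ℕ) = 16 * 8 from rfl, sum_blocks]
    simp only [Finset.sum_range_succ _ 7, Finset.sum_range_succ _ 6, Finset.sum_range_succ _ 5, Finset.sum_range_succ _ 4,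
      Finset.sum_range_succ _ 3, Finset.sum_range_succ _ 2, Finset.sum_range_succ _ 1, Finset.sum_range_one]
    rw [hT3' 0 (by norm_num) 0 3 rfl, hT3' 1 (by norm_num) 1 3 rfl, hT3' 2 (by norm_num) 2 3 rfl,
      hT3' 3 (by norm_num) 3 3 rfl,
      hX 4 (by simp) _ cnt_x_4, hX 5 (by simp) _ cnt_x_5, hX 6 (by simp) _ cnt_x_6, hX 7 (by simp) _ cnt_x_7]
    simp only [List.getD_cons_zero, List.getD_cons_succ, zero_nsmul, add_zero, th1, th2, th3, th4]
    decide
  have ly : ∑ i ∈ Finset.range 128, theta F (QuotientGroup.mk (e i) * QuotientGroup.mk (b 4)) = 2 := by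
    rw [show (128 : ℕ) = 16 * 8 from rfl, sum_blocks]
    simp only [Finset.sum_range_succ _ 7, Finset.sum_range_succ _ 6, Finset.sum_range_succ _ 5, Finset.sum_range_succ _ 4,
      Finset.sum_range_succ _ 3, Finset.sum_range_succ _ 2, Finset.sum_range_succ _ 1, Finset.sum_range_one]
    rw [hT3' 4 (by norm_num) 0 4 rfl, hT3' 5 (by norm_num) 1 4 rfl, hT3' 6 (by norm_num) 4 4 rfl,
      hT3' 7 (by norm_num) 5 4 rfl,
      hY 2 (by simp) _ cnt_y_2, hY 3 (by simp) _ cnt_y_3, hY 6 (by simp) _ cnt_y_6, hY 7 (by simp) _ cnt_y_7]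
    simp only [List.getD_cons_zero, List.getD_cons_succ, zero_nsmul, add_zero, th1, th2, th3, th4]
    decide
  have lxy : ∑ i ∈ Finset.range 128, theta F (QuotientGroup.mk (e i) * (QuotientGroup.mk (b 3) * QuotientGroup.mk (b 4))) =
      (f : ZMod 3) := by
    rw [show (128 : ℕ) = 16 * 8 from rfl, sum_blocks]
    simp only [Finset.sum_range_succ _ 7, Finset.sum_range_succ _ 6, Finset.sum_range_succ _ 5, Finset.sum_range_succ _ 4,
      Finset.sum_range_succ _ 3, Finset.sum_range_succ _ 2, Finset.sum_range_succ _ 1, Finset.sum_range_one]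
    rw [hXY 0 (by simp) _ cnt_xy_0, hXY 1 (by simp) _ cnt_xy_1, hXY 2 (by simp) _ cnt_xy_2, hXY 3 (by simp) _ cnt_xy_3,
      hXY 4 (by simp) _ cnt_xy_4, hXY 5 (by simp) _ cnt_xy_5, hXY 6 (by simp) _ cnt_xy_6, hXY 7 (by simp) _ cnt_xy_7]
    simp only [List.getD_cons_zero, List.getD_cons_succ, zero_nsmul, add_zero, zero_add, th3, th4, th5, th6]
    generalize ((f : ℤ) : ZMod 3) = z
    revert z
    decide
  have h64' : ∀ i < 64, (QuotientGroup.mk (e (64 + i)) : Cfsg.PSU 4 K9 3) = QuotientGroup.mk (e i) * QuotientGroup.mk (gen 6) := by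
    intro i hi
    have h1 := allB_spec h64 i hi
    have h2 := hS.mul i (by omega) 6 (by norm_num)
    rw [Nat.eq_of_beq_eq_true h1] at h2
    exact h2.symm
  have hcore := core F V hS hO h64' (x := QuotientGroup.mk (b 3)) (y := QuotientGroup.mk (b 4))
    (fun g hg => conj_mem hO (fun j hj => by
      have h1 := allB_spec normO j hj
      rw [Bool.and_eq_true, Nat.blt_eq] at h1
      exact ⟨cO j, h1.1, sys.R_eqv (sys.R_mul (hgen j (by omega)) (hb 3 (by norm_num)))
        (sys.R_mul (hb 3 (by norm_num)) (he _ (by omega))) h1.2⟩) hg)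
    (by
      have h1 : (QuotientGroup.mk (gen 6 * b 4) : Cfsg.PSU 4 K9 3) = QuotientGroup.mk (b 4 * e 27) :=
        sys.R_eqv (sys.R_mul (hgen 6 (by norm_num)) (hb 4 (by norm_num)))
          (sys.R_mul (hb 4 (by norm_num)) (he 27 (by norm_num))) conjy
      refine ⟨27, by norm_num, ?_⟩
      show (QuotientGroup.mk (b 4) : Cfsg.PSU 4 K9 3)⁻¹ * QuotientGroup.mk (gen 6) * QuotientGroup.mk (b 4) =
        QuotientGroup.mk (e 27)
      rw [mul_assoc, ← QuotientGroup.mk_mul, h1, QuotientGroup.mk_mul, inv_mul_cancel_left])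
    hdS htr
  rw [lx, ly, lxy] at hcore
  rcases hf' with rfl | rfl
  · exact absurd hcore (by decide)
  · exact absurd hcore (by decide)

/-- `E₈(3)` has no subgroup `PSU₄(3)`. -/
theorem psu4 {F₉ : Type*} [Field F₉] [Fintype F₉] (h9 : Fintype.card F₉ = 9)
    (H : Subgroup ↥(Cfsg.Lie.chevE8.group (ZMod 3))) : IsEmpty (↥H ≃* Cfsg.PSU 4 F₉ 3) :=
  ⟨fun e => (u4 H).false (e.trans (Cfsg.Agent.LieClassical.FieldTransfer.psuCongr 4 3
    (FiniteField.ringEquivOfCardEq (h9.trans K9.card_K9.symm))))⟩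

end Cfsg.Agent.H942.U4
end

private theorem dce_2d5c737d66fa : _root_.True := by
  try have : _root_.True := by simp only [_root_.Cfsg.Agent.H942.G4.Red.eq_1]
  try have : _root_.True := by simp only [_root_.Cfsg.Agent.H942.G4.beq.eq_1]
  try have : _root_.True := by simp only [_root_.Cfsg.Agent.H942.Sp6Sys.trL.eq_1]
  try have : _root_.True := by simp only [_root_.Cfsg.Agent.H942.Fun.chkSub.eq_1]
  try have : _root_.True := by simp only [_root_.Cfsg.Agent.H942.Sp6Data.chkMem.eq_1]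
  try have : _root_.True := by simp only [_root_.Cfsg.Agent.H942.Fun.chkTab.eq_1]
  try have : _root_.True := by simp only [_root_.Cfsg.Agent.H942.U4Check.cnts.eq_1]
  try have : _root_.True := by simp only [_root_.Cfsg.Agent.H942.G4.mul.eq_1]
  try have : _root_.True := by simp only [_root_.Cfsg.Agent.H942.E8Val.L8.eq_1]
  try have : _root_.True := by simp only [_root_.Cfsg.Agent.H942.U4Check.chkProd.eq_1]
  try have : _root_.True := by simp only [_root_.Cfsg.Agent.H942.Fun.chkForest.eq_1]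
  exact _root_.True.intro
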